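import Cfsg.Prelude.Def_OddOrderLocal
import Cfsg.Agent.Components.Supplement
import Cfsg.Agent.Components.Cores
import Mathlib.GroupTheory.Frattini

/-!
Small general facts: the π-core of a finite group, Frattini subgroup of groups with all squares
in a normal subgroup.
-/

set_option linter.style.haveILetI false
set_option linter.unusedSectionVars false

namespace Cfsg.Lib.Elementary

open Subgroup Cfsg.Lib.Components

universe u

variable {G : Type u} [Group G]

/-- All prime divisors of the order lie in `π`. -/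
def IsPiNat (π : Set ℕ) (n : ℕ) : Prop := ∀ q : ℕ, q.Prime → q ∣ n → q ∈ π

theorem piCore_isPi [Finite G] (π : Set ℕ) : IsPiNat π (Nat.card (piCore π G)) := by
  refine (sSup_induction_normal (fun N => IsPiNat π (Nat.card N)) ?_ ?_ _ (fun N hN => hN)).2
  · intro q hq hd
    rw [Subgroup.card_bot] at hd
    exact absurd hd hq.not_dvd_one
  · intro N M hN hM h1 h2 q hq hd
    rcases hq.dvd_mul.mp (hd.trans (card_sup_dvd_mul N M)) with h | h
    exacts [h1 q hq h, h2 q hq h]

theorem le_piCore {π : Set ℕ} {N : Subgroup G} [hn : N.Normal] (h : IsPiNat π (Nat.card N)) :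
    N ≤ piCore π G := le_sSup ⟨hn, h⟩

theorem piCore_characteristic [Finite G] (π : Set ℕ) : (piCore π G).Characteristic := by
  refine characteristic_iff_map_le.mpr fun e => ?_
  haveI : ((piCore π G).map e.toMonoidHom).Normal := (piCore_normal π G).map _ e.surjective
  refine le_piCore ?_
  rw [Nat.card_congr ((piCore π G).equivMapOfInjective _ e.injective).toEquiv.symm]
  exact piCore_isPi π

theorem le_piCore_of_subnormal [Finite G] {π : Set ℕ} {H : Subgroup G} (hH : H.IsSubnormal)
    (h : IsPiNat π (Nat.card H)) : H ≤ piCore π G := by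
  refine le_of_subnormal_induction (fun G _ H => IsPiNat π (Nat.card H))
    (fun G _ => piCore π G) ?_ ?_ _ G le_rfl H hH h
  · intro G _ _ N H _ hle hP
    refine ⟨by rwa [card_subgroupOf_of_le hle], ?_⟩
    haveI := piCore_characteristic (G := N) π
    refine le_piCore ?_
    rw [Nat.card_congr ((piCore π N).equivMapOfInjective _ N.subtype_injective).toEquiv.symm]
    exact piCore_isPi π
  · intro G _ _ hP
    exact le_piCore hP

theorem frattini_eq_bot_of_sq [Finite G] (h : ∀ x : G, x ^ 2 = 1) : frattini G = ⊥ := by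
  rw [eq_bot_iff]
  intro x hx
  rw [mem_bot]
  by_contra hx1
  have hinv : ∀ z : G, z⁻¹ = z := fun z => inv_eq_of_mul_eq_one_right (by rw [← sq, h])
  have hcomm : ∀ a b : G, a * b = b * a := fun a b => by
    rw [← hinv (a * b), mul_inv_rev, hinv, hinv]
  obtain ⟨H, -, hH⟩ := Finite.exists_le_maximal (p := fun H : Subgroup G => x ∉ H) (a := ⊥)
    (by rwa [mem_bot])
  have hco : IsCoatom H := by
    refine ⟨fun h' => hH.prop (h' ▸ mem_top x), fun K hK => ?_⟩
    have hxK : x ∈ K := not_not.mp fun hn => hK.not_ge (hH.le_of_ge hn hK.le)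
    refine eq_top_iff.mpr fun y _ => ?_
    by_cases hy : y ∈ H
    · exact hK.le hy
    haveI : (zpowers y).Normal := ⟨fun n hn g => by rw [hcomm g n, mul_inv_cancel_right]; exact hn⟩
    have hxs : x ∈ H ⊔ zpowers y := not_not.mp fun hn =>
      hy (hH.le_of_ge (y := H ⊔ zpowers y) hn le_sup_left (mem_sup_right (mem_zpowers y)))
    rw [← SetLike.mem_coe, Subgroup.mul_normal] at hxs
    obtain ⟨a, ha, b, hb, rfl⟩ := hxs
    obtain ⟨n, rfl⟩ := mem_zpowers_iff.mp hb
    have hy2 : ∀ m : ℤ, y ^ m = 1 ∨ y ^ m = y := fun m => by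
      rcases Int.even_or_odd' m with ⟨j, rfl | rfl⟩
      · left; rw [zpow_mul, zpow_ofNat, h, one_zpow]
      · right; rw [zpow_add_one, zpow_mul, zpow_ofNat, h, one_zpow, one_mul]
    rcases hy2 n with hn | hn
    · refine absurd ha ?_
      simpa [hn] using hH.prop
    · simp only [hn] at hxK
      simpa [← mul_assoc] using mul_mem (inv_mem (hK.le ha)) hxK
  exact hH.prop (frattini_le_coatom hco hx)

theorem frattini_le_of_sq_mem [Finite G] {K : Subgroup G} [K.Normal] (h : ∀ x : G, x ^ 2 ∈ K) :
    frattini G ≤ K := by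
  have h1 := frattini_le_comap_frattini_of_surjective (QuotientGroup.mk'_surjective K)
  have hq : ∀ q : G ⧸ K, q ^ 2 = 1 := fun q => by
    obtain ⟨x, rfl⟩ := QuotientGroup.mk'_surjective K q
    rw [← map_pow]
    exact (QuotientGroup.eq_one_iff _).mpr (h x)
  rwa [frattini_eq_bot_of_sq hq, MonoidHom.comap_bot, QuotientGroup.ker_mk'] at h1

end Cfsg.Lib.Elementary
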