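import Cfsg.Agent.Elementary.TransitivePGroups
import Cfsg.Agent.PGroups.Basic
import Cfsg.Agent.PGroups.QuasiDihedral
import Cfsg.Agent.S0519
import Cfsg.Agent.PGroups.CyclicCentralisers

/-!
Linear `p`-groups all whose orbits on the non-zero vectors have the same size.
-/

set_option autoImplicit false
set_option linter.unusedSectionVars false
set_option linter.unusedVariables false
set_option linter.style.haveILetI false

namespace Cfsg.Lib.HalfTrans

variable {q : ℕ} [Fact q.Prime] {V : Type*} [AddCommGroup V] [Module (ZMod q) V]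
variable {G : Type*} [Group G] {ρ : G →* (V ≃ₗ[ZMod q] V)}

theorem mul_apply (g h : G) (v : V) : ρ (g * h) v = ρ g (ρ h v) := by rw [map_mul]; rfl

theorem one_apply (v : V) : ρ 1 v = v := by rw [map_one]; rfl

theorem inv_apply_self (g : G) (v : V) : ρ g⁻¹ (ρ g v) = v := by
  rw [← mul_apply, inv_mul_cancel, one_apply]

variable (ρ) in
/-- the stabiliser of a vector -/
def St (v : V) : Subgroup G where
  carrier := {g | ρ g v = v}
  one_mem' := one_apply v
  mul_mem' := fun {g h} hg hh => by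
    show ρ (g * h) v = v
    rw [mul_apply, show ρ h v = v from hh, show ρ g v = v from hg]
  inv_mem' := fun {g} hg => by
    show ρ g⁻¹ v = v
    conv_lhs => rw [← show ρ g v = v from hg, inv_apply_self]

theorem mem_St {v : V} {g : G} : g ∈ St ρ v ↔ ρ g v = v := Iff.rfl

theorem faithful (hρ : Function.Injective ρ) {g : G} (h : ∀ v, ρ g v = v) : g = 1 :=
  hρ (LinearEquiv.ext fun v => by rw [one_apply]; exact h v)

theorem orbit_mul_St [Finite G] (v : V) :
    Nat.card {u : V | ∃ g : G, ρ g v = u} * Nat.card (St ρ v) = Nat.card G := by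
  let mact : MulAction G V :=
    { smul := fun g v => ρ g v
      one_smul := fun v => one_apply v
      mul_smul := fun g h v => mul_apply g h v }
  have h1 : MulAction.orbit G v = {u : V | ∃ g : G, ρ g v = u} := by ext u; exact Iff.rfl
  have h2 : MulAction.stabilizer G v = St ρ v := by ext g; exact Iff.rfl
  have h3 := Subgroup.card_mul_index (MulAction.stabilizer G v)
  rw [MulAction.index_stabilizer, ← Nat.card_coe_set_eq, h1, h2, mul_comm] at h3
  exact h3

variable (ρ) in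
/-- the sum of the images of a vector under the first `p` powers of `x` -/
noncomputable def P (p : ℕ) (x : G) (v : V) : V := ∑ t ∈ Finset.range p, ρ (x ^ t) v

theorem P_add (p : ℕ) (x : G) (v w : V) : P ρ p x (v + w) = P ρ p x v + P ρ p x w := by
  simp [P, Finset.sum_add_distrib]

theorem P_zero (p : ℕ) (x : G) : P ρ p x 0 = 0 := by simp [P]

theorem pow_fix {x : G} {v : V} (h : ρ x v = v) : ∀ t : ℕ, ρ (x ^ t) v = v
  | 0 => by rw [pow_zero, one_apply]
  | t + 1 => by rw [pow_succ, mul_apply, h, pow_fix h t]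

theorem P_fix (p : ℕ) {x : G} {v : V} (h : ρ x v = v) : P ρ p x v = p • v := by
  rw [P, Finset.sum_congr rfl fun t _ => pow_fix h t, Finset.sum_const, Finset.card_range]

theorem P_mem (p : ℕ) {x : G} (hx : x ^ p = 1) (v : V) : ρ x (P ρ p x v) = P ρ p x v := by
  have h1 := Finset.sum_range_succ' (fun t => ρ (x ^ t) v) p
  rw [Finset.sum_range_succ] at h1
  simp only [hx, pow_zero] at h1
  rw [P, map_sum]
  conv_lhs => enter [2, t]; rw [← mul_apply, ← pow_succ']
  exact (add_right_cancel h1).symm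

theorem P_comm (p : ℕ) {x g : G} (h : g * x = x * g) (v : V) : P ρ p x (ρ g v) = ρ g (P ρ p x v) := by
  rw [P, P, map_sum]
  refine Finset.sum_congr rfl fun t _ => ?_
  rw [← mul_apply, ← mul_apply]
  have hc : Commute g x := h
  rw [(hc.pow_right t).eq]

section Common

variable [Finite G] {p : ℕ} [Fact p.Prime]

/-- The standing hypotheses. -/
structure HT (ρ : G →* (V ≃ₗ[ZMod q] V)) (p : ℕ) : Prop where
  isP : IsPGroup p G
  inj : Function.Injective ρ
  pq : p ≠ q
  eq : ∀ v w : V, v ≠ 0 → w ≠ 0 → Nat.card (St ρ v) = Nat.card (St ρ w)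

variable (H : HT ρ p)
include H

theorem smul_zero_imp {v : V} (h : p • v = 0) : v = 0 := by
  rw [← Nat.cast_smul_eq_nsmul (ZMod q), smul_eq_zero] at h
  refine h.resolve_left fun h0 => H.pq ?_
  exact ((Nat.prime_dvd_prime_iff_eq (Fact.out : q.Prime) (Fact.out : p.Prime)).1
    ((ZMod.natCast_eq_zero_iff _ _).1 h0)).symm

theorem smul_inj {v w : V} (h : p • v = p • w) : v = w :=
  sub_eq_zero.1 (smul_zero_imp H (by rw [smul_sub, h, sub_self]))

theorem P_shift {x : G} (hx : x ^ p = 1) (v : V) : P ρ p x (ρ x v - v) = 0 := by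
  have h : P ρ p x (ρ x v - v) + P ρ p x v = P ρ p x v := by
    rw [← P_add, sub_add_cancel, P_comm p rfl, P_mem p hx]
  simpa using h

theorem st_eq {v w : V} (hv : v ≠ 0) (hw : w ≠ 0) (h : St ρ v ≤ St ρ w) : St ρ v = St ρ w :=
  Subgroup.eq_of_le_of_card_ge h (H.eq v w hv hw).ge

/-- central elements of order `p` fix no non-zero vector -/
theorem central_fpf {x : G} (hc : x ∈ Subgroup.center G) (hx : x ^ p = 1) (hx1 : x ≠ 1) {w : V}
    (hw : ρ x w = w) : w = 0 := by
  by_contra hw0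
  obtain ⟨v, hv⟩ : ∃ v, ρ x v ≠ v := by
    by_contra h
    push Not at h
    exact hx1 (faithful H.inj h)
  set u := ρ x v - v with hu
  have hu0 : u ≠ 0 := sub_ne_zero.2 hv
  have hPu : P ρ p x u = 0 := P_shift H hx v
  have hnf : ρ x u ≠ u := fun h => hu0 (smul_zero_imp H (by rw [← P_fix p h, hPu]))
  have hwu : w + u ≠ 0 := fun h => hnf (by
    rw [show u = -w from eq_neg_of_add_eq_zero_right h, map_neg, hw])
  have hle : St ρ (w + u) ≤ St ρ w ⊓ St ρ u := by
    intro g hg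
    rw [mem_St] at hg
    have hcg : g * x = x * g := Subgroup.mem_center_iff.1 hc g
    have hgw : ρ x (ρ g w) = ρ g w := by rw [← mul_apply, ← hcg, mul_apply, hw]
    have h1 := congrArg (P ρ p x) hg
    rw [map_add, P_add, P_add, P_fix p hgw, P_comm p hcg u, hPu, P_fix p hw, map_zero, add_zero,
      add_zero] at h1
    have h2 : ρ g w = w := smul_inj H h1
    refine ⟨h2, ?_⟩
    rw [map_add, h2] at hg
    exact add_left_cancel hg
  have h1 := st_eq H hwu hw0 (hle.trans inf_le_left)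
  have h2 := st_eq H hwu hu0 (hle.trans inf_le_right)
  exact hnf (show x ∈ St ρ u from h2 ▸ h1 ▸ (hw : x ∈ St ρ w))

variable {z : G}

/-- the decomposition of a vector over a group of order `p²` -/
theorem decomp (hz : z ∈ Subgroup.center G) (hzo : orderOf z = p) (y : G) (v : V) :
    ∑ i ∈ Finset.range p, P ρ p (y * z ^ i) v = p • v := by
  have hzp : z ^ p = 1 := hzo ▸ pow_orderOf_eq_one z
  unfold P
  rw [Finset.sum_comm]
  have hpos : 0 < p := (Fact.out : p.Prime).pos
  rw [Finset.sum_eq_single_of_mem 0 (Finset.mem_range.2 hpos)]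
  · simp [one_apply]
  · intro t ht ht0
    have e : ∀ i, ρ ((y * z ^ i) ^ t) v = ρ (y ^ t) (ρ ((z ^ t) ^ i) v) := fun i => by
      rw [← mul_apply, (show Commute y (z ^ i) from Subgroup.mem_center_iff.1 (pow_mem hz i) y).mul_pow,
        ← pow_mul, ← pow_mul, mul_comm i t]
    simp only [e, ← map_sum]
    have hne : z ^ t ≠ 1 := pow_ne_one_of_lt_orderOf ht0 (by rw [hzo]; exact Finset.mem_range.1 ht)
    have hp1 : (z ^ t) ^ p = 1 := by rw [← pow_mul, mul_comm, pow_mul, hzp, one_pow]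
    have h0 := central_fpf H (pow_mem hz t) hp1 hne (P_mem p hp1 v)
    rw [show ∑ i ∈ Finset.range p, ρ ((z ^ t) ^ i) v = 0 from h0, map_zero]

theorem mul_zpow_ne {y : G} (hy : y ∉ Subgroup.zpowers z) (i : ℕ) : y * z ^ i ≠ 1 := fun h =>
  hy (by rw [eq_inv_of_mul_eq_one_left h]; exact inv_mem (Subgroup.npow_mem_zpowers z i))

theorem pow_p_mul (hz : z ∈ Subgroup.center G) (hzo : orderOf z = p) {y : G} (hy : y ^ p = 1) (i : ℕ) :
    (y * z ^ i) ^ p = 1 := by
  rw [(show Commute y (z ^ i) from Subgroup.mem_center_iff.1 (pow_mem hz i) y).mul_pow, hy, one_mul,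
    ← pow_mul, mul_comm, pow_mul, ← hzo, pow_orderOf_eq_one, one_pow]

/-- some twist of `y` fixes a non-zero vector -/
theorem exists_fixed [Nontrivial V] (hz : z ∈ Subgroup.center G) (hzo : orderOf z = p) {y : G}
    (hy : y ^ p = 1) : ∃ i : ℕ, ∃ w : V, w ≠ 0 ∧ ρ (y * z ^ i) w = w := by
  obtain ⟨v, hv⟩ := exists_ne (0 : V)
  by_contra h
  push Not at h
  refine hv (smul_zero_imp H ?_)
  rw [← decomp H hz hzo y v]
  refine Finset.sum_eq_zero fun i _ => ?_
  by_contra h0
  exact h i _ h0 (P_mem p (pow_p_mul H hz hzo hy i) v)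

theorem center_elem [Nontrivial V] (hz : z ∈ Subgroup.center G) (hzo : orderOf z = p) {y : G}
    (hy : y ^ p = 1) (hyc : y ∈ Subgroup.center G) : y ∈ Subgroup.zpowers z := by
  by_contra hyz
  obtain ⟨i, w, hw, hfix⟩ := exists_fixed H hz hzo hy
  exact hw (central_fpf H (mul_mem hyc (pow_mem hz i)) (pow_p_mul H hz hzo hy i) (mul_zpow_ne H hyz i) hfix)

theorem unique_of_semiregular [Nontrivial V] (hsr : ∀ v : V, v ≠ 0 → St ρ v = ⊥)
    (hz : z ∈ Subgroup.center G) (hzo : orderOf z = p) {y : G} (hy : y ^ p = 1) :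
    y ∈ Subgroup.zpowers z := by
  by_contra hyz
  obtain ⟨i, w, hw, hfix⟩ := exists_fixed H hz hzo hy
  have : y * z ^ i ∈ St ρ w := hfix
  rw [hsr w hw, Subgroup.mem_bot] at this
  exact mul_zpow_ne H hyz i this

theorem cyclic_or_quaternion [Nontrivial V] (hsr : ∀ v : V, v ≠ 0 → St ρ v = ⊥) :
    IsCyclic G ∨ ∃ n : ℕ, Nonempty (G ≃* QuaternionGroup n) := by
  rcases Cfsg.Lib.UniqueSub.isCyclic_or_quaternion H.isP (fun x y hx hy => by
    have : Nontrivial G := nontrivial_of_ne x 1 fun h => by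
      rw [h, orderOf_one] at hx; exact (Fact.out : p.Prime).ne_one hx.symm
    obtain ⟨z, -, hz, hzo⟩ := PGroups.exists_mem_center_of_normal_ne_bot H.isP (N := (⊤ : Subgroup G))
      top_ne_bot
    have h1 := unique_of_semiregular H hsr hz hzo (y := x) (hx ▸ pow_orderOf_eq_one x)
    have h2 := unique_of_semiregular H hsr hz hzo (y := y) (hy ▸ pow_orderOf_eq_one y)
    have e : Subgroup.zpowers x = Subgroup.zpowers z :=
      Subgroup.eq_of_le_of_card_ge (Subgroup.zpowers_le.2 h1) (by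
        rw [Nat.card_zpowers, Nat.card_zpowers, hx, hzo])
    rw [e]; exact h2) with h | ⟨-, n, h⟩
  · exact Or.inl h
  · exact Or.inr ⟨_, h⟩

theorem fixes_all_of_components (hz : z ∈ Subgroup.center G) (hzo : orderOf z = p) {y : G}
    (hy : y ^ p = 1) {g : G} (h : ∀ i : ℕ, ∀ v : V, ρ (y * z ^ i) v = v → ρ g v = v) : g = 1 := by
  refine faithful H.inj fun v => smul_inj H ?_
  rw [← map_nsmul, ← decomp H hz hzo y v, map_sum]
  exact Finset.sum_congr rfl fun i _ => h i _ (P_mem p (pow_p_mul H hz hzo hy i) v)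

/-- `P` kills the fixed space of another twist -/
theorem P_kill {e d : G} (hd : d ∈ Subgroup.center G) (hdp : d ^ p = 1) (hd1 : d ≠ 1) {v : V}
    (hv : ρ (e * d) v = v) : P ρ p e v = 0 := by
  have hev : ρ e v = ρ d⁻¹ v := by
    conv_rhs => rw [← hv, ← mul_apply, Subgroup.mem_center_iff.1 hd e, inv_mul_cancel_left]
  have hpow : ∀ t : ℕ, ρ (e ^ t) v = ρ (d⁻¹ ^ t) v := by
    intro t
    induction t with
    | zero => simp
    | succ t ih =>
      rw [pow_succ, mul_apply, hev, ← mul_apply,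
        Subgroup.mem_center_iff.1 (inv_mem hd) (e ^ t), mul_apply, ih, ← mul_apply, ← pow_succ']
  have hinv : d⁻¹ ^ p = 1 := by rw [inv_pow, hdp, inv_one]
  rw [P, Finset.sum_congr rfl fun t _ => hpow t]
  exact central_fpf H (inv_mem hd) hinv (inv_ne_one.2 hd1) (P_mem p hinv v)

theorem image_fixed {g e e' : G} (hge : g * e = e' * g) {w : V} (hw : ρ e w = w) :
    ρ e' (ρ g w) = ρ g w := by
  rw [← mul_apply, ← hge, mul_apply, hw]

theorem zpow_mem_facts (hz : z ∈ Subgroup.center G) (hzo : orderOf z = p) {d : G}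
    (hd : d ∈ Subgroup.zpowers z) : d ∈ Subgroup.center G ∧ d ^ p = 1 := by
  obtain ⟨k, rfl⟩ := Subgroup.mem_zpowers_iff.1 hd
  refine ⟨zpow_mem hz k, ?_⟩
  rw [← zpow_natCast, ← zpow_mul, mul_comm, zpow_mul, zpow_natCast, ← hzo, pow_orderOf_eq_one, one_zpow]

end Common

section CaseA

variable [Finite G] {p : ℕ} [Fact p.Prime] [Nontrivial V] (H : HT ρ p) {z y : G}
variable (hz : z ∈ Subgroup.center G) (hzo : orderOf z = p) (hy : y ^ p = 1) (hyz : y ∉ Subgroup.zpowers z)
variable (hcomm : ∀ g : G, ∃ d ∈ Subgroup.zpowers z, g * y = (y * d) * g)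
include H hz hzo hy hyz hcomm

/-- two different twists of `y` both have fixed vectors -/
theorem two_fixed : ∃ i : ℕ, ∃ d ∈ Subgroup.zpowers z, d ≠ 1 ∧ ∃ w u : V, w ≠ 0 ∧ u ≠ 0 ∧
    ρ (y * z ^ i) w = w ∧ ρ (y * z ^ i * d) u = u ∧ ∃ g0 : G, u = ρ g0 w ∧ g0 * y = (y * d) * g0 := by
  obtain ⟨i, w, hw, hfix⟩ := exists_fixed H hz hzo hy
  obtain ⟨g0, hg0⟩ : ∃ g0 : G, g0 * y ≠ y * g0 := by
    by_contra h
    push Not at h
    exact hyz (center_elem H hz hzo hy (Subgroup.mem_center_iff.2 h))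
  obtain ⟨d, hd, hgd⟩ := hcomm g0
  have hd1 : d ≠ 1 := fun h => hg0 (by rw [hgd, h, mul_one])
  refine ⟨i, d, hd, hd1, w, ρ g0 w, hw, fun h => hw ((ρ g0).map_eq_zero_iff.1 h), hfix, ?_, g0, rfl, hgd⟩
  refine image_fixed H ?_ hfix
  rw [← mul_assoc, hgd, mul_assoc (y * d), Subgroup.mem_center_iff.1 (pow_mem hz i) g0,
    mul_assoc y (z ^ i) d, Subgroup.mem_center_iff.1 (zpow_mem_facts H hz hzo hd).1 (z ^ i)]
  simp only [mul_assoc]

theorem odd_false (hp : p ≠ 2) (hne : ∀ v : V, v ≠ 0 → St ρ v ≠ ⊥) : False := by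
  obtain ⟨i₀, d₀, hd₀, hd₀1, w₀, u₀, hw₀, hu₀, hfw₀, hfu₀, -⟩ := two_fixed H hz hzo hy hyz hcomm
  -- fixed vectors of different twists have the same stabiliser
  have key : ∀ (i : ℕ) (d : G), d ∈ Subgroup.zpowers z → d ≠ 1 → ∀ w u : V, w ≠ 0 → u ≠ 0 →
      ρ (y * z ^ i) w = w → ρ (y * z ^ i * d) u = u → St ρ w = St ρ u := by
    intro i d hd hd1 w u hw hu hfw hfu
    obtain ⟨hdc, hdp⟩ := zpow_mem_facts H hz hzo hd
    set e := y * z ^ i with he
    have hwu : w + u ≠ 0 := fun h => by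
      have h1 := congrArg (P ρ p e) h
      rw [P_add, P_zero, P_fix p hfw, P_kill H hdc hdp hd1 hfu, add_zero] at h1
      exact hw (smul_zero_imp H h1)
    have hle : St ρ (w + u) ≤ St ρ w ⊓ St ρ u := by
      intro g hg
      rw [mem_St, map_add] at hg
      obtain ⟨d', hd', hgy⟩ := hcomm g
      obtain ⟨hd'c, hd'p⟩ := zpow_mem_facts H hz hzo hd'
      have hge : g * e = (e * d') * g := by
        rw [he, ← mul_assoc, hgy, mul_assoc (y * d'), Subgroup.mem_center_iff.1 (pow_mem hz i) g,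
          mul_assoc y (z ^ i) d', Subgroup.mem_center_iff.1 hd'c (z ^ i)]
        simp only [mul_assoc]
      have hgw := image_fixed H hge hfw
      have hged : g * (e * d) = (e * (d' * d)) * g := by
        rw [← mul_assoc, hge, mul_assoc (e * d'), Subgroup.mem_center_iff.1 hdc g]
        simp only [mul_assoc]
      have hgu := image_fixed H hged hfu
      by_cases hd'1 : d' = 1
      · subst hd'1
        rw [mul_one] at hge hgw
        rw [one_mul] at hged hgu
        have h1 := congrArg (P ρ p e) hg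
        rw [P_add, P_add, P_fix p hgw, P_kill H hdc hdp hd1 hgu, P_fix p hfw,
          P_kill H hdc hdp hd1 hfu, add_zero, add_zero] at h1
        have h2 := smul_inj H h1
        refine ⟨h2, ?_⟩
        rw [h2] at hg
        exact add_left_cancel hg
      · exfalso
        by_cases hdd : d' * d = 1
        · -- project on the second component
          have hne : d' ≠ d := fun h => by
            subst h
            have h2 : orderOf d' ∣ 2 := orderOf_dvd_of_pow_eq_one (by rw [pow_two]; exact hdd)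
            have h3 : orderOf d' = p := orderOf_eq_prime hd'p hd'1
            rw [h3] at h2
            exact hp ((Nat.prime_dvd_prime_iff_eq (Fact.out : p.Prime) Nat.prime_two).1 h2)
          have hs1 : d⁻¹ * d' ≠ 1 := fun h => hne ((inv_mul_eq_one.1 h).symm)
          have hs1p : (d⁻¹ * d') ^ p = 1 := by
            rw [(show Commute d⁻¹ d' from Subgroup.mem_center_iff.1 hd'c d⁻¹).mul_pow, inv_pow, hdp, hd'p,
              inv_one, one_mul]
          have hsc := mul_mem (inv_mem hdc) hd'c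
          have hinv1 : d⁻¹ ≠ 1 := inv_ne_one.2 hd1
          have hinvp : d⁻¹ ^ p = 1 := by rw [inv_pow, hdp, inv_one]
          have h1 := congrArg (P ρ p (e * d)) hg
          rw [P_add, P_add, P_kill H hsc hs1p hs1 (by
              rw [show e * d * (d⁻¹ * d') = e * d' by group]; exact hgw),
            P_kill H (inv_mem hdc) hinvp hinv1 (v := ρ g u) (by
              rw [show e * d * d⁻¹ = e * (d' * d) by rw [hdd]; group]; exact hgu),
            P_kill H (inv_mem hdc) hinvp hinv1 (v := w) (by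
              rw [show e * d * d⁻¹ = e by group]; exact hfw),
            P_fix p hfu, zero_add, zero_add] at h1
          exact hu (smul_zero_imp H h1.symm)
        · have hddp : (d' * d) ^ p = 1 := by
            rw [(show Commute d' d from Subgroup.mem_center_iff.1 hdc d').mul_pow, hdp, hd'p, one_mul]
          have h1 := congrArg (P ρ p e) hg
          rw [P_add, P_add, P_kill H hd'c hd'p hd'1 hgw, P_kill H (mul_mem hd'c hdc) hddp hdd hgu,
            P_fix p hfw, P_kill H hdc hdp hd1 hfu, add_zero, add_zero] at h1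
          exact hw (smul_zero_imp H h1.symm)
    exact (st_eq H hwu hw (hle.trans inf_le_left)).symm.trans (st_eq H hwu hu (hle.trans inf_le_right))
  have hwu₀ := key i₀ d₀ hd₀ hd₀1 w₀ u₀ hw₀ hu₀ hfw₀ hfu₀
  refine hne w₀ hw₀ ((Subgroup.eq_bot_iff_forall _).2 fun g hg => ?_)
  refine fixes_all_of_components H hz hzo hy fun j v hv => ?_
  by_cases hv0 : v = 0
  · rw [hv0, map_zero]
  suffices St ρ v = St ρ w₀ from (this ▸ hg : g ∈ St ρ v)
  set d := (z ^ i₀)⁻¹ * z ^ j with hd
  have hdm : d ∈ Subgroup.zpowers z :=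
    mul_mem (inv_mem (Subgroup.npow_mem_zpowers z i₀)) (Subgroup.npow_mem_zpowers z j)
  have hj : y * z ^ i₀ * d = y * z ^ j := by rw [hd]; group
  by_cases hd1 : d = 1
  · rw [← hj, hd1, mul_one] at hv
    exact (key i₀ d₀ hd₀ hd₀1 v u₀ hv0 hu₀ hv hfu₀).trans hwu₀.symm
  · exact (key i₀ d hdm hd1 w₀ v hw₀ hv0 hfw₀ (by rw [hj]; exact hv)).symm

end CaseA

section CaseTwo

variable [Finite G] [Finite V] [Nontrivial V] (H : HT ρ 2)
include H

theorem zpowers_two {z d : G} (hzo : orderOf z = 2) (hd : d ∈ Subgroup.zpowers z) : d = 1 ∨ d = z := by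
  obtain ⟨k, rfl⟩ := Subgroup.mem_zpowers_iff.1 hd
  rw [← zpow_mod_orderOf, hzo]
  rcases Int.emod_two_eq k with h | h <;> simp [h]

/-- the monomial and the exceptional configuration -/
theorem two_monomial {z y : G} (hz : z ∈ Subgroup.center G) (hzo : orderOf z = 2) (hy : y ^ 2 = 1)
    (hyz : y ∉ Subgroup.zpowers z) (hcomm : ∀ g : G, ∃ d ∈ Subgroup.zpowers z, g * y = (y * d) * g)
    (hne : ∀ v : V, v ≠ 0 → St ρ v ≠ ⊥) :
    (Nat.card V = q ^ 2 ∧ (∃ m : ℕ, q = 2 ^ m + 1) ∧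
      ∃ e : V ≃ₗ[ZMod q] (Fin 2 → ZMod q), ∀ f : (Fin 2 → ZMod q) ≃ₗ[ZMod q] (Fin 2 → ZMod q),
        (∃ g : G, f = e.symm.trans ((ρ g).trans e)) ↔
        ∃ a s : ZMod q, a ≠ 0 ∧ (s = 1 ∨ s = -1) ∧
          ((∀ v, f v = ![a * v 0, s * a⁻¹ * v 1]) ∨ (∀ v, f v = ![s * a⁻¹ * v 1, a * v 0]))) ∨
    (Nat.card V = 81 ∧ q = 3) := by
  classical
  have hq2 : q ≠ 2 := H.pq.symm
  have hz1 : z ≠ 1 := fun h => by rw [h, orderOf_one] at hzo; norm_num at hzo
  have hzp : z ^ 2 = 1 := hzo ▸ pow_orderOf_eq_one z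
  have hzz : z * z = 1 := by rw [← pow_two]; exact hzp
  have hzfpf : ∀ v : V, ρ z v = v → v = 0 := fun v h => central_fpf H hz hzp hz1 h
  have hzg : ∀ g : G, g * z = z * g := fun g => Subgroup.mem_center_iff.1 hz g
  set y1 := y * z with hy1
  have hy1p : y1 ^ 2 = 1 := by simpa using pow_p_mul H hz hzo hy 1
  -- the two kinds of elements
  have dich : ∀ g : G, (g * y = y * g ∧ g * y1 = y1 * g) ∨ (g * y = y1 * g ∧ g * y1 = y * g) := by
    intro g
    obtain ⟨d, hd, hgd⟩ := hcomm g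
    rcases zpowers_two H hzo hd with h | h <;> rw [h] at hgd
    · rw [mul_one] at hgd
      refine Or.inl ⟨hgd, ?_⟩
      rw [hy1, ← mul_assoc, hgd, mul_assoc y g z, hzg, mul_assoc]
    · refine Or.inr ⟨hgd, ?_⟩
      rw [hy1, ← mul_assoc, hgd, mul_assoc (y * z), hzg g, mul_assoc y z, ← mul_assoc z z g, hzz, one_mul]
  have kill0 : ∀ u : V, ρ y1 u = u → P ρ 2 y u = 0 := fun u hu => P_kill H hz hzp hz1 hu
  have kill1 : ∀ w : V, ρ y w = w → P ρ 2 y1 w = 0 := fun w hw => P_kill H hz hzp hz1 (by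
    rw [hy1, mul_assoc, hzz, mul_one]; exact hw)
  have both : ∀ v : V, ρ y v = v → ρ y1 v = v → v = 0 := fun v h0 h1 =>
    smul_zero_imp H (by rw [← P_fix 2 h0, kill0 v h1])
  have split : ∀ w w' u u' : V, ρ y w = w → ρ y w' = w' → ρ y1 u = u → ρ y1 u' = u' →
      w + u = w' + u' → w = w' ∧ u = u' := by
    intro w w' u u' hw hw' hu hu' h
    have h1 := congrArg (P ρ 2 y) h
    rw [P_add, P_add, P_fix 2 hw, P_fix 2 hw', kill0 u hu, kill0 u' hu', add_zero, add_zero] at h1
    have h2 := smul_inj H h1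
    exact ⟨h2, by rw [h2] at h; exact add_left_cancel h⟩
  -- the stabiliser of a sum of two components
  have stsum : ∀ w u : V, ρ y w = w → ρ y1 u = u → ∀ g ∈ St ρ (w + u),
      (g * y = y * g ∧ ρ g w = w ∧ ρ g u = u) ∨ (g * y = y1 * g ∧ ρ g w = u ∧ ρ g u = w) := by
    intro w u hw hu g hg
    rw [mem_St, map_add] at hg
    rcases dich g with ⟨hg0, hg1⟩ | ⟨hg0, hg1⟩
    · exact Or.inl ⟨hg0, split _ _ _ _ (image_fixed H hg0 hw) hw (image_fixed H hg1 hu) hu hg⟩
    · refine Or.inr ⟨hg0, ?_⟩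
      have := split _ _ _ _ (image_fixed H hg1 hu) hw (image_fixed H hg0 hw) hu (by rw [add_comm]; exact hg)
      exact ⟨this.2, this.1⟩
  have sum_ne : ∀ w u : V, ρ y w = w → ρ y1 u = u → w ≠ 0 → w + u ≠ 0 := by
    intro w u hw hu h0 h
    exact h0 (split w 0 u 0 hw (map_zero _) hu (map_zero _) (by rw [h, add_zero])).1
  have pair : ∀ w u : V, ρ y w = w → ρ y1 u = u → w ≠ 0 → u ≠ 0 →
      (St ρ w = St ρ u) ∨ (∃ g : G, g * y = y1 * g ∧ ρ g w = u ∧ ρ g u = w) := by
    intro w u hw hu hw0 hu0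
    by_cases h : ∃ g : G, g * y = y1 * g ∧ ρ g w = u ∧ ρ g u = w
    · exact Or.inr h
    refine Or.inl ?_
    have hle : St ρ (w + u) ≤ St ρ w ⊓ St ρ u := fun g hg => by
      rcases stsum w u hw hu g hg with ⟨-, h1, h2⟩ | h'
      · exact ⟨h1, h2⟩
      · exact absurd ⟨g, h'⟩ h
    have hs := sum_ne w u hw hu hw0
    exact (st_eq H hs hw0 (hle.trans inf_le_left)).symm.trans (st_eq H hs hu0 (hle.trans inf_le_right))
  have not_both : ∀ w u : V, ρ y w = w → ρ y1 u = u → w ≠ 0 → u ≠ 0 → St ρ w = St ρ u →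
      ∀ g : G, ρ g w = u → ρ g u = w → False := by
    intro w u hw hu hw0 hu0 he g h1 h2
    have hle : St ρ w ≤ St ρ (w + u) := fun k hk => by
      rw [mem_St, map_add, show ρ k w = w from hk, show ρ k u = u from (show k ∈ St ρ u from he ▸ hk)]
    have e := st_eq H hw0 (sum_ne w u hw hu hw0) hle
    have hg : g ∈ St ρ w := by
      rw [e, mem_St, map_add, h1, h2, add_comm]
    rw [mem_St, h1] at hg
    subst hg
    exact hw0 (both _ hw hu)
  obtain ⟨g0, hg0, hg0'⟩ : ∃ g0 : G, g0 * y = y1 * g0 ∧ g0 * y1 = y * g0 := by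
    by_contra h
    push Not at h
    refine hyz (center_elem H hz hzo hy (Subgroup.mem_center_iff.2 fun g => ?_))
    rcases dich g with h' | h'
    · exact h'.1
    · exact absurd h'.2 (h g h'.1)
  obtain ⟨w0, hw00, hw0⟩ : ∃ w0 : V, w0 ≠ 0 ∧ ρ y w0 = w0 := by
    obtain ⟨i, w, hw, hfix⟩ := exists_fixed H hz hzo hy
    rcases zpowers_two H hzo (Subgroup.npow_mem_zpowers z i) with h | h <;> rw [h] at hfix
    · exact ⟨w, hw, by rwa [mul_one] at hfix⟩
    · exact ⟨ρ g0 w, fun h => hw ((ρ g0).map_eq_zero_iff.1 h), image_fixed H hg0' hfix⟩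
  have pull : ∀ g g' : G, g * y = y1 * g → g' * y = y1 * g' → (g'⁻¹ * g) * y = y * (g'⁻¹ * g) := by
    intro g g' h h'
    rw [mul_assoc, h, ← mul_assoc, show g'⁻¹ * y1 = y * g'⁻¹ by
      rw [inv_mul_eq_iff_eq_mul, ← mul_assoc, h', mul_assoc, mul_inv_cancel, mul_one], mul_assoc]
  have all_one : ∀ g : G, (∀ v, ρ y v = v → ρ g v = v) → (∀ v, ρ y1 v = v → ρ g v = v) → g = 1 := by
    intro g h0 h1
    refine fixes_all_of_components H hz hzo hy fun i v hv => ?_
    rcases zpowers_two H hzo (Subgroup.npow_mem_zpowers z i) with h | h <;> rw [h] at hv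
    · exact h0 v (by rwa [mul_one] at hv)
    · exact h1 v hv
  -- the centraliser of `y` is transitive on the vectors fixed by `y`
  have htrans : ∀ w w' : V, w ≠ 0 → w' ≠ 0 → ρ y w = w → ρ y w' = w' →
      ∃ m : G, m * y = y * m ∧ ρ m w = w' := by
    intro w w' hw hw' hfw hfw'
    by_contra hnt
    push Not at hnt
    set u := ρ g0 w with hu
    set u' := ρ g0 w' with hu'
    have hfu : ρ y1 u = u := image_fixed H hg0 hfw
    have hfu' : ρ y1 u' = u' := image_fixed H hg0 hfw'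
    have hu0 : u ≠ 0 := fun h => hw ((ρ g0).map_eq_zero_iff.1 h)
    have hu'0 : u' ≠ 0 := fun h => hw' ((ρ g0).map_eq_zero_iff.1 h)
    have hX : St ρ w = St ρ u' := by
      refine (pair w u' hfw hfu' hw hu'0).resolve_right ?_
      rintro ⟨g, hg, h1, -⟩
      exact hnt _ (pull g g0 hg hg0) (by rw [mul_apply, h1, hu', inv_apply_self])
    have hX' : St ρ w' = St ρ u := by
      refine (pair w' u hfw' hfu hw' hu0).resolve_right ?_
      rintro ⟨g, hg, h1, -⟩
      have hm := pull g g0 hg hg0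
      have hm' : (g0⁻¹ * g)⁻¹ * y = y * (g0⁻¹ * g)⁻¹ := (Commute.inv_left hm).eq
      refine hnt _ hm' ?_
      have : ρ (g0⁻¹ * g) w' = w := by rw [mul_apply, h1, hu, inv_apply_self]
      rw [← this, inv_apply_self]
    -- every vector fixed by `y` has one of the two stabilisers
    have hV0 : ∀ v : V, ρ y v = v → (∀ k ∈ St ρ w, ρ k v = v) ∨ (∀ k ∈ St ρ w', ρ k v = v) := by
      intro v hv
      by_cases hv0 : v = 0
      · exact Or.inl fun k _ => by rw [hv0, map_zero]
      rcases pair v u' hv hfu' hv0 hu'0 with h | ⟨g, hg, h1, -⟩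
      · exact Or.inl fun k hk => (h.trans hX.symm ▸ hk : k ∈ St ρ v)
      · -- then `v` is in the orbit of `w'`
        rcases pair v u hv hfu hv0 hu0 with h | ⟨g', hg', h1', -⟩
        · exact Or.inr fun k hk => (h.trans hX'.symm ▸ hk : k ∈ St ρ v)
        · exfalso
          have hm := pull g g' hg hg'
          have ha : ρ (g'⁻¹ * g) v = ρ g'⁻¹ u' := by rw [mul_apply, h1]
          have hb : ρ g'⁻¹ u = v := by rw [← h1', inv_apply_self]
          have hga := pull g g0 hg hg0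
          have hgb := pull g' g0 hg' hg0
          refine hnt ((g0⁻¹ * g) * (g0⁻¹ * g')⁻¹) ?_ ?_
          · exact (Commute.mul_left hga (Commute.inv_left hgb)).eq
          · have e1 : ρ (g0⁻¹ * g) v = w' := by rw [mul_apply, h1, hu', inv_apply_self]
            have e2 : ρ (g0⁻¹ * g') v = w := by rw [mul_apply, h1', hu, inv_apply_self]
            conv_lhs => rw [← e2, mul_apply, inv_apply_self, e1]
    have hXX : St ρ w = St ρ w' := by
      by_cases h1 : ∀ v : V, ρ y v = v → ∀ k ∈ St ρ w, ρ k v = v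
      · exact st_eq H hw hw' fun k hk => h1 w' hfw' k hk
      by_cases h2 : ∀ v : V, ρ y v = v → ∀ k ∈ St ρ w', ρ k v = v
      · exact (st_eq H hw' hw fun k hk => h2 w hfw k hk).symm
      exfalso
      push Not at h1 h2
      obtain ⟨a, ha, k, hk, hka⟩ := h1
      obtain ⟨b, hb, l, hl, hlb⟩ := h2
      have hab : ρ y (a + b) = a + b := by rw [map_add, ha, hb]
      have ha' := (hV0 a ha).resolve_left fun h => hka (h k hk)
      have hb' := (hV0 b hb).resolve_right fun h => hlb (h l hl)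
      rcases hV0 _ hab with h | h
      · have := h k hk
        rw [map_add, hb' k hk] at this
        exact hka (add_right_cancel this)
      · have := h l hl
        rw [map_add, ha' l hl] at this
        exact hlb (add_left_cancel this)
    refine hne w hw ((Subgroup.eq_bot_iff_forall _).2 fun g hg => all_one g (fun v hv => ?_) fun v hv => ?_)
    · rcases hV0 v hv with h | h
      · exact h g hg
      · exact h g (hXX ▸ hg)
    · by_cases hv0 : v = 0
      · rw [hv0, map_zero]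
      rcases pair w v hfw hv hw hv0 with h | ⟨a, ha, ha1, -⟩
      · exact (h ▸ hg : g ∈ St ρ v)
      rcases pair w' v hfw' hv hw' hv0 with h | ⟨b, hb, hb1, -⟩
      · exact (h ▸ hXX ▸ hg : g ∈ St ρ v)
      exfalso
      refine hnt _ (pull a b ha hb) ?_
      rw [mul_apply, ha1, ← hb1, inv_apply_self]
  -- the group induced on the vectors fixed by `y`
  let W0 : Submodule (ZMod q) V :=
    { carrier := {v | ρ y v = v}
      add_mem' := fun {a b} ha hb => by
        show ρ y (a + b) = a + b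
        rw [map_add, show ρ y a = a from ha, show ρ y b = b from hb]
      zero_mem' := map_zero (ρ y)
      smul_mem' := fun c v hv => by
        show ρ y (c • v) = c • v
        rw [map_smul, show ρ y v = v from hv] }
  let M : Subgroup G := Subgroup.centralizer {y}
  have hM : ∀ m : G, m ∈ M ↔ m * y = y * m := fun m => Subgroup.mem_centralizer_singleton_iff
  have hMW : ∀ (m : M) (v : W0), ρ (m : G) v ∈ W0 := fun m v =>
    image_fixed H ((hM _).1 m.2) v.2
  let r0 : M →* (W0 ≃ₗ[ZMod q] W0) :=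
    { toFun := fun m =>
        { toFun := fun v => ⟨ρ (m : G) v, hMW m v⟩
          map_add' := fun a b => Subtype.ext (map_add (ρ (m : G)) _ _)
          map_smul' := fun c a => Subtype.ext (map_smul (ρ (m : G)) _ _)
          invFun := fun v => ⟨ρ ((m⁻¹ : M) : G) v, hMW m⁻¹ v⟩
          left_inv := fun v => Subtype.ext (by simp only [Subgroup.coe_inv]; exact inv_apply_self _ _)
          right_inv := fun v => Subtype.ext (by
            simp only [Subgroup.coe_inv]
            rw [← mul_apply, mul_inv_cancel, one_apply]) }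
      map_one' := LinearEquiv.ext fun v => Subtype.ext (one_apply (ρ := ρ) (v : V))
      map_mul' := fun a b => LinearEquiv.ext fun v => Subtype.ext (mul_apply (ρ := ρ) (a : G) (b : G) (v : V)) }
  have : Nontrivial W0 := nontrivial_of_ne ⟨w0, hw0⟩ 0 fun h => hw00 (congrArg Subtype.val h)
  have hW0t : ∀ v w : W0, v ≠ 0 → w ≠ 0 → ∃ g : r0.range, r0.range.subtype g v = w := by
    intro v w hv hw
    obtain ⟨m, hm, hmv⟩ := htrans v w (fun h => hv (Subtype.ext h)) (fun h => hw (Subtype.ext h)) v.2 w.2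
    exact ⟨⟨r0 ⟨m, (hM m).2 hm⟩, ⟨_, rfl⟩⟩, Subtype.ext hmv⟩
  have hneg : (⟨w0, hw0⟩ : W0) ≠ -⟨w0, hw0⟩ := fun h => by
    have h' : w0 = -w0 := congrArg Subtype.val h
    exact hw00 (smul_zero_imp H (by rw [two_nsmul]; nth_rewrite 1 [h']; exact neg_add_cancel w0))
  have : Finite r0.range := Finite.of_surjective r0.rangeRestrict r0.rangeRestrict_surjective
  have : Nontrivial r0.range := by
    have hw : (⟨w0, hw0⟩ : W0) ≠ 0 := fun h => hw00 (congrArg Subtype.val h)
    obtain ⟨g, hg⟩ := hW0t ⟨w0, hw0⟩ (-⟨w0, hw0⟩) hw (neg_ne_zero.2 hw)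
    refine nontrivial_of_ne g 1 fun h => hneg ?_
    rw [h, map_one] at hg
    exact hg
  have hRp : IsPGroup 2 r0.range :=
    (H.isP.to_subgroup M).of_surjective r0.rangeRestrict r0.rangeRestrict_surjective
  have hcases := Cfsg.Lib.TransPGroup.main q 2 hRp r0.range.subtype (Subgroup.subtype_injective _) hW0t
  have hdec : ∀ v : V, (2 : ℕ) • v = P ρ 2 y v + P ρ 2 y1 v := fun v => by
    have := decomp H hz hzo y v
    rw [Finset.sum_range_succ, Finset.sum_range_one, pow_zero, mul_one, pow_one] at this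
    exact this.symm
  rcases hcases with ⟨h, -, -⟩ | ⟨-, hWq, ⟨m, hqm, -⟩, -⟩ | ⟨-, hq3, hW9, -⟩
  · exact absurd h hq2
  swap
  · refine Or.inr ⟨?_, hq3⟩
    have e : Nat.card (W0 × W0) = Nat.card V := by
      refine Nat.card_congr (Equiv.ofBijective (fun ab : W0 × W0 => (ab.1 : V) + ρ g0 ab.2) ⟨?_, ?_⟩)
      · rintro ⟨a, b⟩ ⟨a', b'⟩ h
        obtain ⟨h1, h2⟩ := split _ _ _ _ a.2 a'.2 (image_fixed H hg0 b.2) (image_fixed H hg0 b'.2) h
        exact Prod.ext (Subtype.ext h1) (Subtype.ext ((ρ g0).injective h2))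
      · intro v
        have h2 : ((2 : ℕ) : ZMod q) ≠ 0 := fun h => hq2
          ((Nat.prime_dvd_prime_iff_eq (Fact.out : q.Prime) Nat.prime_two).1 ((ZMod.natCast_eq_zero_iff _ _).1 h))
        have ha : P ρ 2 y v ∈ W0 := P_mem 2 hy v
        have hb : ρ g0⁻¹ (P ρ 2 y1 v) ∈ W0 := by
          refine image_fixed H ?_ (P_mem 2 hy1p v)
          rw [inv_mul_eq_iff_eq_mul, ← mul_assoc, hg0, mul_assoc, mul_inv_cancel, mul_one]
        refine ⟨(((2 : ℕ) : ZMod q)⁻¹ • ⟨_, ha⟩, ((2 : ℕ) : ZMod q)⁻¹ • ⟨_, hb⟩), ?_⟩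
        simp only [Submodule.coe_smul, map_smul]
        rw [← mul_apply, mul_inv_cancel, one_apply, ← smul_add, ← hdec, ← Nat.cast_smul_eq_nsmul (ZMod q),
          smul_smul, inv_mul_cancel₀ h2, one_smul]
    rw [← e, Nat.card_prod, hW9]
  -- coordinates
  left
  set u0 := ρ g0 w0 with hu0def
  have hu0 : ρ y1 u0 = u0 := image_fixed H hg0 hw0
  have hu00 : u0 ≠ 0 := fun h => hw00 ((ρ g0).map_eq_zero_iff.1 h)
  have hline : ∀ w : V, ρ y w = w → ∃ a : ZMod q, a • w0 = w := by
    have hinj : Function.Injective (fun a : ZMod q => (⟨a • w0, W0.smul_mem a hw0⟩ : W0)) := fun a b h => by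
      by_contra hab
      have h' : a • w0 = b • w0 := congrArg Subtype.val h
      rw [← sub_eq_zero, ← sub_smul, smul_eq_zero] at h'
      exact hw00 (h'.resolve_left (sub_ne_zero.2 hab))
    have hb := hinj.bijective_of_nat_card_le (by rw [hWq, Nat.card_zmod])
    intro w hw
    obtain ⟨a, ha⟩ := hb.2 ⟨w, hw⟩
    exact ⟨a, congrArg Subtype.val ha⟩
  have hline1 : ∀ u : V, ρ y1 u = u → ∃ a : ZMod q, a • u0 = u := by
    intro u hu
    have : ρ y (ρ g0⁻¹ u) = ρ g0⁻¹ u := by
      refine image_fixed H ?_ hu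
      rw [inv_mul_eq_iff_eq_mul, ← mul_assoc, hg0, mul_assoc, mul_inv_cancel, mul_one]
    obtain ⟨a, ha⟩ := hline _ this
    exact ⟨a, by rw [hu0def, ← map_smul, ha, ← mul_apply, mul_inv_cancel, one_apply]⟩
  have hsmul0 : ∀ a : ZMod q, ρ y (a • w0) = a • w0 := fun a => by rw [map_smul, hw0]
  have hsmul1 : ∀ a : ZMod q, ρ y1 (a • u0) = a • u0 := fun a => by rw [map_smul, hu0]
  let L : (Fin 2 → ZMod q) →ₗ[ZMod q] V :=
    { toFun := fun c => c 0 • w0 + c 1 • u0
      map_add' := fun a b => by simp only [Pi.add_apply, add_smul]; abel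
      map_smul' := fun c a => by simp [smul_add, smul_smul] }
  have hL : Function.Bijective L := by
    refine ⟨fun a b h => ?_, fun v => ?_⟩
    · obtain ⟨h1, h2⟩ := split _ _ _ _ (hsmul0 (a 0)) (hsmul0 (b 0)) (hsmul1 (a 1)) (hsmul1 (b 1)) h
      rw [← sub_eq_zero, ← sub_smul, smul_eq_zero, sub_eq_zero] at h1 h2
      funext i
      fin_cases i
      · exact h1.resolve_right hw00
      · exact h2.resolve_right hu00
    · obtain ⟨a, ha⟩ := hline _ (P_mem 2 hy v)
      obtain ⟨b, hb⟩ := hline1 _ (P_mem 2 hy1p v)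
      refine ⟨((2 : ℕ) : ZMod q)⁻¹ • ![a, b], ?_⟩
      rw [map_smul]
      show ((2 : ℕ) : ZMod q)⁻¹ • (a • w0 + b • u0) = v
      have h2 : ((2 : ℕ) : ZMod q) ≠ 0 := fun h => hq2
        ((Nat.prime_dvd_prime_iff_eq (Fact.out : q.Prime) Nat.prime_two).1 ((ZMod.natCast_eq_zero_iff _ _).1 h))
      rw [ha, hb, ← hdec, ← Nat.cast_smul_eq_nsmul (ZMod q), smul_smul, inv_mul_cancel₀ h2, one_smul]
  let e := (LinearEquiv.ofBijective L hL).symm
  refine ⟨?_, ⟨m, hqm⟩, e, ?_⟩
  · rw [Nat.card_congr e.toEquiv, Nat.card_fun, Nat.card_zmod, Nat.card_fin]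
  have hext : ∀ g g' : G, ρ g w0 = ρ g' w0 → ρ g u0 = ρ g' u0 → g = g' := fun g g' h1 h2 =>
    H.inj (LinearEquiv.ext fun v => by
      obtain ⟨c, rfl⟩ := hL.2 v
      show ρ g (c 0 • w0 + c 1 • u0) = ρ g' (c 0 • w0 + c 1 • u0)
      simp only [map_add, map_smul, h1, h2])
  -- all the swaps
  have hswap : ∀ a : ZMod q, a ≠ 0 → ∃ k : G, ρ k w0 = a • u0 ∧ ρ k u0 = a⁻¹ • w0 := by
    intro a ha
    rcases pair w0 (a • u0) hw0 (hsmul1 a) hw00 (smul_ne_zero ha hu00) with h | ⟨k, -, h1, h2⟩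
    · refine absurd ((Subgroup.eq_bot_iff_forall _).2 fun g hg => ?_) (hne w0 hw00)
      have h' : ρ g (a • u0) = a • u0 := (h ▸ hg : g ∈ St ρ (a • u0))
      rw [map_smul] at h'
      exact hext g 1 (by rw [one_apply]; exact hg)
        (by rw [one_apply]; exact smul_right_injective V ha h')
    · exact ⟨k, h1, by rw [map_smul] at h2; rw [← h2, smul_smul, inv_mul_cancel₀ ha, one_smul]⟩
  obtain ⟨k1, hk1, hk1'⟩ := hswap 1 one_ne_zero
  rw [one_smul] at hk1
  rw [inv_one, one_smul] at hk1'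
  -- the stabiliser has order two
  have htwo : Nat.card (St ρ w0) = 2 := by
    rw [H.eq w0 (w0 + u0) hw00 (sum_ne w0 u0 hw0 hu0 hw00)]
    refine le_antisymm ?_ ?_
    · have hs : (St ρ (w0 + u0) : Set G) ⊆ {1, k1} := fun g hg => by
        rcases stsum w0 u0 hw0 hu0 g hg with ⟨-, h1, h2⟩ | ⟨-, h1, h2⟩
        · exact Or.inl (hext g 1 (by rw [one_apply, h1]) (by rw [one_apply, h2]))
        · exact Or.inr (hext g k1 (by rw [h1, hk1]) (by rw [h2, hk1']))
      have h1 := Set.ncard_le_ncard hs (Set.toFinite _)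
      rw [← Nat.card_coe_set_eq] at h1
      exact h1.trans ((Set.ncard_insert_le _ _).trans (by simp))
    · exact (Subgroup.one_lt_card_iff_ne_bot _).2 (hne _ (sum_ne w0 u0 hw0 hu0 hw00))
  have hsq : ∀ (g : G) (c : ZMod q), ρ g w0 = w0 → ρ g u0 = c • u0 → c = 1 ∨ c = -1 := by
    intro g c h1 h2
    have h := pow_card_eq_one' (x := (⟨g, h1⟩ : St ρ w0))
    rw [htwo] at h
    have h' : g ^ 2 = 1 := congrArg Subtype.val h
    have h3 : (c * c) • u0 = (1 : ZMod q) • u0 := by
      rw [one_smul, ← smul_smul, ← h2, ← map_smul, ← h2, ← mul_apply, ← pow_two, h', one_apply]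
    exact mul_self_eq_one_iff.1 (smul_left_injective (ZMod q) hu00 h3)
  obtain ⟨k0, hk0, hk0'⟩ : ∃ k : G, ρ k w0 = w0 ∧ ρ k u0 = (-1 : ZMod q) • u0 := by
    have : Nontrivial (St ρ w0) := Finite.one_lt_card_iff_nontrivial.1 (by omega)
    obtain ⟨⟨k, hk⟩, hk1⟩ := exists_ne (1 : St ρ w0)
    have hky : k * y = y * k := by
      rcases dich k with h | h
      · exact h.1
      · exfalso
        have h' := image_fixed H h.1 hw0
        rw [show ρ k w0 = w0 from hk] at h'
        exact hw00 (both w0 hw0 h')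
    have hku : ρ y1 (ρ k u0) = ρ k u0 := image_fixed H (by
      rw [hy1, ← mul_assoc, hky, mul_assoc y k z, hzg, mul_assoc]) hu0
    obtain ⟨c, hc⟩ := hline1 _ hku
    rcases hsq k c hk hc.symm with rfl | rfl
    · refine absurd (hext k 1 (by rw [one_apply]; exact hk) (by rw [one_apply, ← hc, one_smul])) ?_
      exact fun h => hk1 (Subtype.ext h)
    · exact ⟨k, hk, hc.symm⟩
  -- the elements of the two kinds
  have hdiag : ∀ (g : G) (a b : ZMod q), ρ g w0 = a • w0 → ρ g u0 = b • u0 →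
      a ≠ 0 ∧ (a * b = 1 ∨ a * b = -1) := by
    intro g a b h1 h2
    have ha : a ≠ 0 := fun h => hw00 ((ρ g).map_eq_zero_iff.1 (by rw [h1, h, zero_smul]))
    refine ⟨ha, ?_⟩
    obtain ⟨ka, hka, hka'⟩ := hswap a ha
    refine hsq ((k1 * ka)⁻¹ * g) (a * b) ?_ ?_
    · have e : ρ (k1 * ka) w0 = a • w0 := by rw [mul_apply, hka, map_smul, hk1']
      rw [mul_apply, h1, ← e, inv_apply_self]
    · have e : ρ (k1 * ka) u0 = a⁻¹ • u0 := by rw [mul_apply, hka', map_smul, hk1]
      have : ρ (k1 * ka)⁻¹ u0 = a • u0 := by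
        conv_lhs => rw [← one_smul (ZMod q) u0, ← mul_inv_cancel₀ ha, ← smul_smul, ← e, map_smul, inv_apply_self]
      rw [mul_apply, h2, map_smul, this, smul_smul, mul_comm]
  have kpow : ∀ s : ZMod q, s = 1 ∨ s = -1 → ∃ k : G, ρ k w0 = w0 ∧ ρ k u0 = s • u0 := by
    rintro s (rfl | rfl)
    · exact ⟨1, one_apply _, by rw [one_apply, one_smul]⟩
    · exact ⟨k0, hk0, hk0'⟩
  have hsym : ∀ c : Fin 2 → ZMod q, e.symm c = c 0 • w0 + c 1 • u0 := fun c => by
    simp only [e, LinearEquiv.symm_symm]; rfl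
  intro f
  constructor
  · rintro ⟨g, rfl⟩
    rcases dich g with ⟨hga, hgb⟩ | ⟨hga, hgb⟩
    · obtain ⟨a, ha⟩ := hline _ (image_fixed H hga hw0)
      obtain ⟨b, hb⟩ := hline1 _ (image_fixed H hgb hu0)
      obtain ⟨ha0, hab⟩ := hdiag g a b ha.symm hb.symm
      refine ⟨a, a * b, ha0, hab, Or.inl fun v => ?_⟩
      refine e.symm.injective ?_
      simp only [LinearEquiv.trans_apply, LinearEquiv.symm_apply_apply]
      rw [hsym, hsym, map_add, map_smul, map_smul, ← ha, ← hb, smul_smul, smul_smul]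
      simp only [Matrix.cons_val_zero, Matrix.cons_val_one, Matrix.cons_val_fin_one]
      rw [mul_comm (v 0) a, mul_comm a b, mul_assoc b a, mul_inv_cancel₀ ha0, mul_one, mul_comm (v 1) b]
    · obtain ⟨a, ha⟩ := hline1 _ (image_fixed H hga hw0)
      obtain ⟨b, hb⟩ := hline _ (image_fixed H hgb hu0)
      obtain ⟨ha0, hab⟩ := hdiag (k1 * g) a b (by rw [mul_apply, ← ha, map_smul, hk1'])
        (by rw [mul_apply, ← hb, map_smul, hk1])
      refine ⟨a, a * b, ha0, hab, Or.inr fun v => ?_⟩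
      refine e.symm.injective ?_
      simp only [LinearEquiv.trans_apply, LinearEquiv.symm_apply_apply]
      rw [hsym, hsym, map_add, map_smul, map_smul, ← ha, ← hb, smul_smul, smul_smul]
      simp only [Matrix.cons_val_zero, Matrix.cons_val_one, Matrix.cons_val_fin_one]
      rw [mul_comm (v 0) a, mul_comm a b, mul_assoc b a, mul_inv_cancel₀ ha0, mul_one, mul_comm (v 1) b,
        add_comm]
  · rintro ⟨a, s, ha, hs, hf⟩
    obtain ⟨k, hk, hk'⟩ := kpow s hs
    obtain ⟨ka, hka, hka'⟩ := hswap a ha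
    rcases hf with hf | hf
    · refine ⟨k1 * ka * k, LinearEquiv.ext fun v => e.symm.injective ?_⟩
      simp only [LinearEquiv.trans_apply, LinearEquiv.symm_apply_apply]
      rw [hf, hsym, hsym, mul_apply, mul_apply, map_add, map_smul, map_smul, hk, hk', map_add, map_smul,
        map_smul, map_smul, hka, hka', map_add, map_smul, map_smul, map_smul, map_smul, map_smul, hk1, hk1']
      simp only [Matrix.cons_val_zero, Matrix.cons_val_one, Matrix.cons_val_fin_one, smul_smul]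
      congr 2 <;> ring
    · refine ⟨ka * k, LinearEquiv.ext fun v => e.symm.injective ?_⟩
      simp only [LinearEquiv.trans_apply, LinearEquiv.symm_apply_apply]
      rw [hf, hsym, hsym, mul_apply, map_add, map_smul, map_smul, hk, hk', map_add, map_smul,
        map_smul, map_smul, hka, hka']
      simp only [Matrix.cons_val_zero, Matrix.cons_val_one, Matrix.cons_val_fin_one, smul_smul]
      rw [add_comm]
      congr 2 <;> ring

/-- a cyclic subgroup of index two carries the counting argument -/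
theorem index_two_count (C : Subgroup G) (hC : IsCyclic C) (hCi : C.index = 2) {z : G}
    (hz : z ∈ Subgroup.center G) (hzo : orderOf z = 2) (hne : ∀ v : V, v ≠ 0 → St ρ v ≠ ⊥)
    (hna : ∃ a b : G, a * b ≠ b * a) (j : ℕ)
    (hj : Nat.card {t : G // t ∉ C ∧ t * t = 1} = 2 ^ j) :
    Nat.card V = q ^ 2 ∧ q = 2 ^ j - 1 := by
  classical
  have hq2 : q ≠ 2 := H.pq.symm
  have hzp : z ^ 2 = 1 := hzo ▸ pow_orderOf_eq_one z
  have hz1 : z ≠ 1 := fun h => by rw [h, orderOf_one] at hzo; norm_num at hzo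
  have hCn : C.Normal := Subgroup.normal_of_index_eq_two hCi
  obtain ⟨⟨a, ha⟩, hgen⟩ := hC.exists_generator
  have hzC : ∀ c ∈ C, c ≠ 1 → z ∈ Subgroup.zpowers c := by
    intro c hc hc1
    have hN : (Subgroup.zpowers c).Normal := ⟨fun x hx g => by
      obtain ⟨k, rfl⟩ := Subgroup.mem_zpowers_iff.1 hx
      rw [← conj_zpow]
      refine zpow_mem ?_ k
      obtain ⟨n, hn⟩ := Subgroup.mem_zpowers_iff.1 (hgen ⟨c, hc⟩)
      obtain ⟨r, hr⟩ := Subgroup.mem_zpowers_iff.1 (hgen ⟨g * a * g⁻¹, hCn.conj_mem a ha g⟩)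
      have hn' : a ^ n = c := by simpa using congrArg Subtype.val hn
      have hr' : a ^ r = g * a * g⁻¹ := by simpa using congrArg Subtype.val hr
      refine Subgroup.mem_zpowers_iff.2 ⟨r, ?_⟩
      rw [← hn', ← conj_zpow, ← hr', ← zpow_mul, ← zpow_mul, mul_comm]⟩
    obtain ⟨x, hx, hxc, hxo⟩ := PGroups.exists_mem_center_of_normal_ne_bot H.isP
      (N := Subgroup.zpowers c) (by simpa [Subgroup.zpowers_eq_bot] using hc1)
    have hxz := center_elem H hz hzo (hxo ▸ pow_orderOf_eq_one x) hxc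
    rcases zpowers_two H hzo hxz with rfl | rfl
    · rw [orderOf_one] at hxo; norm_num at hxo
    · exact hx
  have hout : ∀ v : V, v ≠ 0 → ∃ t, (t ∉ C ∧ t * t = 1) ∧ ρ t v = v ∧
      ∀ t', t' ∉ C → ρ t' v = v → t' = t := by
    intro v hv
    have hinC : ∀ c ∈ St ρ v, c ∈ C → c = 1 := fun c hc hcC => by
      by_contra hc1
      exact hv (central_fpf H hz hzp hz1 ((Subgroup.zpowers_le.2 hc) (hzC c hcC hc1)))
    obtain ⟨⟨t, ht⟩, ht1'⟩ := Subgroup.ne_bot_iff_exists_ne_one.1 (hne v hv)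
    have ht1 : t ≠ 1 := fun h => ht1' (Subtype.ext h)
    have htC : t ∉ C := fun h => ht1 (hinC t ht h)
    refine ⟨t, ⟨htC, hinC _ (mul_mem ht ht) (Subgroup.mul_self_mem_of_index_two hCi t)⟩, ht, fun t' ht'C ht' => ?_⟩
    have h1 : t'⁻¹ * t ∈ C := (Subgroup.mul_mem_iff_of_index_two hCi).2 ⟨fun h => absurd h (by
      rwa [inv_mem_iff]), fun h => absurd h htC⟩
    exact (inv_mul_eq_one.1 (hinC _ (mul_mem (inv_mem ht') ht) h1))
  let F : G → Submodule (ZMod q) V := fun t =>
    { carrier := {v | ρ t v = v}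
      add_mem' := fun {a b} ha hb => by
        show ρ t (a + b) = a + b
        rw [map_add, show ρ t a = a from ha, show ρ t b = b from hb]
      zero_mem' := map_zero (ρ t)
      smul_mem' := fun c v hv => by
        show ρ t (c • v) = c • v
        rw [map_smul, show ρ t v = v from hv] }
  have hF : ∀ t : G, t ∉ C → t * t = 1 → Nat.card (F t) * Nat.card (F t) = Nat.card V := by
    intro t htC ht
    have ht2 : t ^ 2 = 1 := by rw [pow_two, ht]
    -- `t z` is conjugate to `t`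
    obtain ⟨c, hc⟩ : ∃ c : G, c * t * c⁻¹ = t * z := by
      obtain ⟨c, hcC, hct⟩ : ∃ c ∈ C, c * t ≠ t * c := by
        by_contra h
        push Not at h
        obtain ⟨x, y, hxy⟩ := hna
        have hall : ∀ g : G, g ∈ C ∨ ∃ c ∈ C, g = c * t := fun g => by
          by_cases hg : g ∈ C
          · exact Or.inl hg
          · refine Or.inr ⟨g * t, (Subgroup.mul_mem_iff_of_index_two hCi).2 (iff_of_false hg htC), ?_⟩
            rw [mul_assoc, ht, mul_one]
        have hCc : ∀ c₁ ∈ C, ∀ c₂ ∈ C, c₁ * c₂ = c₂ * c₁ := fun c₁ h1 c₂ h2 =>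
          congrArg Subtype.val ((inferInstance : IsMulCommutative C).is_comm.comm ⟨c₁, h1⟩ ⟨c₂, h2⟩)
        have key : ∀ g : G, (∀ c ∈ C, c * g = g * c) ∧ t * g = g * t := by
          intro g
          rcases hall g with hg | ⟨c, hc, rfl⟩
          · exact ⟨fun c hc => hCc c hc g hg, (h g hg).symm⟩
          · refine ⟨fun c' hc' => ?_, ?_⟩
            · rw [← mul_assoc, hCc c' hc' c hc, mul_assoc, h c' hc', mul_assoc]
            · rw [← mul_assoc, ← h c hc]
        rcases hall x with hx | ⟨c, hc, rfl⟩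
        · exact hxy ((key y).1 x hx)
        · refine hxy ?_
          rw [mul_assoc, (key y).2, ← mul_assoc, (key y).1 c hc, mul_assoc]
      set d := c * t * c⁻¹ * t⁻¹ with hd
      have hdC : d ∈ C := by
        rw [hd, mul_assoc c t, mul_assoc]
        exact mul_mem hcC (hCn.conj_mem _ (inv_mem hcC) t)
      have hd1 : d ≠ 1 := fun h => hct (by
        rw [hd, mul_inv_eq_one, mul_inv_eq_iff_eq_mul] at h; exact h)
      obtain ⟨n, hn⟩ := Subgroup.mem_zpowers_iff.1 (hzC d hdC hd1)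
      refine ⟨c ^ n, ?_⟩
      have hcd : Commute c (t * c⁻¹ * t⁻¹) :=
        (congrArg Subtype.val ((inferInstance : IsMulCommutative C).is_comm.comm ⟨c, hcC⟩ ⟨_, hCn.conj_mem _ (inv_mem hcC) t⟩) :)
      rw [Subgroup.mem_center_iff.1 hz t, ← hn, hd, mul_assoc c t, mul_assoc c, hcd.mul_zpow, conj_zpow,
        inv_zpow]
      group
    have hFz : Nat.card (F (t * z)) = Nat.card (F t) := by
      refine (Nat.card_congr (Equiv.ofBijective (fun v : F t => (⟨ρ c v,
        image_fixed H (by rw [← hc]; group) v.2⟩ : F (t * z))) ⟨fun a b h => ?_, fun w => ?_⟩)).symm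
      · exact Subtype.ext ((ρ c).injective (congrArg Subtype.val h))
      · refine ⟨⟨ρ c⁻¹ w, image_fixed H (by rw [← hc]; group) w.2⟩, Subtype.ext ?_⟩
        show ρ c (ρ c⁻¹ w) = w
        rw [← mul_apply, mul_inv_cancel, one_apply]
    conv_lhs => arg 2; rw [← hFz]
    rw [← Nat.card_prod]
    have h2 : ((2 : ℕ) : ZMod q) ≠ 0 := fun h => hq2
      ((Nat.prime_dvd_prime_iff_eq (Fact.out : q.Prime) Nat.prime_two).1 ((ZMod.natCast_eq_zero_iff _ _).1 h))
    refine Nat.card_congr (Equiv.ofBijective (fun ab : F t × F (t * z) => (ab.1 : V) + ab.2) ⟨?_, ?_⟩)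
    · rintro ⟨a, b⟩ ⟨a', b'⟩ h
      have h1 := congrArg (P ρ 2 t) h
      simp only [P_add, P_fix 2 a.2, P_fix 2 a'.2, P_kill H hz hzp hz1 b.2, P_kill H hz hzp hz1 b'.2,
        add_zero] at h1
      have h3 := smul_inj H h1
      refine Prod.ext (Subtype.ext h3) (Subtype.ext ?_)
      simp only [h3] at h
      exact add_left_cancel h
    · intro v
      have htz : (t * z) ^ 2 = 1 := by simpa using pow_p_mul H hz hzo ht2 1
      refine ⟨(((2 : ℕ) : ZMod q)⁻¹ • ⟨_, P_mem 2 ht2 v⟩, ((2 : ℕ) : ZMod q)⁻¹ • ⟨_, P_mem 2 htz v⟩), ?_⟩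
      simp only [Submodule.coe_smul]
      have hd := decomp H hz hzo t v
      rw [Finset.sum_range_succ, Finset.sum_range_one, pow_zero, mul_one, pow_one] at hd
      rw [← smul_add, hd, ← Nat.cast_smul_eq_nsmul (ZMod q), smul_smul, inv_mul_cancel₀ h2, one_smul]
  -- counting
  set S := {t : G // t ∉ C ∧ t * t = 1} with hS
  obtain ⟨v1, hv1⟩ := exists_ne (0 : V)
  obtain ⟨t1, ht1, -⟩ := hout v1 hv1
  set x := Nat.card (F t1) with hx
  have hxx : x * x = Nat.card V := hF t1 ht1.1 ht1.2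
  have hall : ∀ t : S, Nat.card (F t.1) = x := fun t =>
    Nat.mul_self_inj.1 ((hF t.1 t.2.1 t.2.2).trans hxx.symm)
  have : Fintype S := Fintype.ofFinite _
  have hcount : Nat.card V - 1 = 2 ^ j * (x - 1) := by
    have e : Nat.card (Σ t : S, {v : F t.1 // v ≠ 0}) = Nat.card {v : V // v ≠ 0} := by
      refine Nat.card_congr (Equiv.ofBijective
        (fun tv => ⟨(tv.2.1 : V), fun h => tv.2.2 (Subtype.ext h)⟩) ⟨?_, ?_⟩)
      · rintro ⟨⟨t, ht⟩, ⟨⟨v, hv⟩, hv0⟩⟩ ⟨⟨t', ht'⟩, ⟨⟨v', hv'⟩, hv0'⟩⟩ h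
        have hvv : v = v' := congrArg Subtype.val h
        subst hvv
        obtain ⟨t'', -, -, huniq⟩ := hout v fun h0 => hv0 (Subtype.ext h0)
        obtain rfl : t = t' := (huniq t ht.1 hv).trans (huniq t' ht'.1 hv').symm
        rfl
      · rintro ⟨v, hv⟩
        obtain ⟨t, ht, htv, -⟩ := hout v hv
        exact ⟨⟨⟨t, ht⟩, ⟨⟨v, htv⟩, fun h => hv (congrArg Subtype.val h)⟩⟩, rfl⟩
    have hsub : ∀ (A : Type _) [Finite A] (a : A), Nat.card {v : A // v ≠ a} = Nat.card A - 1 := by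
      intro A _ a
      have : Fintype A := Fintype.ofFinite A
      rw [Nat.card_eq_fintype_card, Fintype.card_subtype_compl, Fintype.card_subtype_eq, Nat.card_eq_fintype_card]
    rw [hsub V 0, Nat.card_sigma] at e
    rw [← e, Finset.sum_congr rfl fun t _ => (hsub (F t.1) 0).trans (by rw [hall t]), Finset.sum_const,
      Finset.card_univ, ← Nat.card_eq_fintype_card, hj, smul_eq_mul]
  have hx1 : 1 < x := by
    have : 1 < Nat.card V := Finite.one_lt_card
    nlinarith
  have hxj : x + 1 = 2 ^ j := by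
    have h1 : (x + 1) * (x - 1) = 2 ^ j * (x - 1) := by
      rw [← hcount, ← hxx]
      obtain ⟨w, hwx⟩ : ∃ w, x = w + 1 := ⟨x - 1, by omega⟩
      rw [hwx]
      simp only [Nat.add_sub_cancel]
      have : (w + 1) * (w + 1) = (w + 1 + 1) * w + 1 := by ring
      omega
    exact Nat.eq_of_mul_eq_mul_right (by omega) h1
  have hxq : x = q ^ Module.finrank (ZMod q) (F t1) := by
    rw [hx, Module.natCard_eq_pow_finrank (K := ZMod q), Nat.card_zmod]
  have hj2 : 2 ≤ j := by
    by_contra h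
    interval_cases j <;> norm_num at hxj <;> omega
  have hone := Cfsg.Lib.TransPGroup.mersenne_cases (Fact.out : q.Prime) (n := j)
    (s := Module.finrank (ZMod q) (F t1)) (by rw [← hxq, ← hxj, Nat.add_sub_cancel]) hj2
  rw [hone, pow_one] at hxq
  exact ⟨by rw [← hxx, hxq, pow_two], by rw [← hxq, ← hxj, Nat.add_sub_cancel]⟩

end CaseTwo

theorem dihedral_count (n : ℕ) [NeZero n] {G : Type*} [Group G] (e : G ≃* DihedralGroup n) :
    ∃ C : Subgroup G, IsCyclic C ∧ C.index = 2 ∧ Nat.card {t : G // t ∉ C ∧ t * t = 1} = n := by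
  set C := Subgroup.zpowers (e.symm (.r 1)) with hC
  have hr : ∀ i : ZMod n, e.symm (.r i) ∈ C := fun i =>
    ⟨(i.val : ℤ), by
      show e.symm (.r 1) ^ (i.val : ℤ) = _
      rw [zpow_natCast, ← map_pow, DihedralGroup.r_one_pow, ZMod.natCast_zmod_val]⟩
  have hsr : ∀ i : ZMod n, e.symm (.sr i) ∉ C := fun i h => by
    obtain ⟨k, hk⟩ := Subgroup.mem_zpowers_iff.1 h
    rw [← map_zpow] at hk
    have hk' := e.symm.injective hk
    rw [DihedralGroup.r_one_zpow] at hk'
    cases hk'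
  refine ⟨C, inferInstance, ?_, ?_⟩
  · have h := Subgroup.card_mul_index C
    rw [Nat.card_zpowers, MulEquiv.orderOf_eq, DihedralGroup.orderOf_r_one, Nat.card_congr e.toEquiv,
      DihedralGroup.nat_card, mul_comm 2 n] at h
    exact Nat.eq_of_mul_eq_mul_left (Nat.pos_of_ne_zero (NeZero.ne n)) h
  · refine (Nat.card_congr (Equiv.ofBijective (fun i : ZMod n => (⟨e.symm (.sr i), hsr i, by
      rw [← map_mul, DihedralGroup.sr_mul_self, map_one]⟩ : {t : G // t ∉ C ∧ t * t = 1})) ⟨?_, ?_⟩)).symm.trans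
      (Nat.card_zmod n)
    · intro i i' h
      injection e.symm.injective (congrArg Subtype.val h)
    · rintro ⟨t, htC, -⟩
      rcases ht : e t with i | i
      · exact absurd (by rw [← e.symm_apply_apply t, ht]; exact hr i) htC
      · exact ⟨i, Subtype.ext (by show e.symm (.sr i) = t; rw [← ht, e.symm_apply_apply])⟩

theorem quasi_count {G : Type*} [Group G] [Finite G] (hG : Cfsg.IsQuasiDihedral G) :
    ∃ (m : ℕ) (C : Subgroup G), IsCyclic C ∧ C.index = 2 ∧ 3 ≤ m ∧ Nat.card G = 2 ^ (m + 1) ∧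
      Nat.card {t : G // t ∉ C ∧ t * t = 1} = 2 ^ (m - 1) := by
  obtain ⟨m, a, b, h⟩ := Cfsg.Lib.QD.exists_gen hG
  obtain ⟨hm, h⟩ := h
  refine ⟨m, Subgroup.zpowers a, inferInstance, Cfsg.Lib.CyclicMax.index_zpowers h, hm, h.card, ?_⟩
  obtain ⟨hp1, -, -⟩ := Cfsg.Lib.QD.pows ⟨hm, h⟩
  have hsq : ∀ i : ℤ, (a ^ i * b) * (a ^ i * b) = 1 ↔ (2 : ℤ) ∣ i := fun i => by
    rw [Cfsg.Lib.QD.sq_b ⟨hm, h⟩, Cfsg.Lib.CyclicMax.zpow_eq_one h, hp1]
    constructor
    · intro hd
      exact Int.dvd_of_mul_dvd_mul_right (pow_ne_zero _ two_ne_zero) hd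
    · exact fun hd => mul_dvd_mul_right hd _
  refine (Nat.card_congr (Equiv.ofBijective (fun i : Fin (2 ^ (m - 1)) =>
    (⟨a ^ (2 * (i : ℕ) : ℤ) * b, Cfsg.Lib.CyclicMax.notMem_mul h _, (hsq _).2 (dvd_mul_right _ _)⟩ :
      {t : G // t ∉ Subgroup.zpowers a ∧ t * t = 1})) ⟨?_, ?_⟩)).symm.trans (Nat.card_fin _)
  · intro i i' hii
    have h1 := (Cfsg.Lib.CyclicMax.b_eq_iff h _ _).1 (congrArg Subtype.val hii)
    rw [hp1, ← mul_sub] at h1
    have h2 := Int.dvd_of_mul_dvd_mul_left two_ne_zero h1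
    have h3 := Int.emod_eq_of_lt (a := ((i : ℕ) : ℤ)) (b := (2 : ℤ) ^ (m - 1)) (by positivity) (by exact_mod_cast i.2)
    have h4 := Int.emod_eq_of_lt (a := ((i' : ℕ) : ℤ)) (b := (2 : ℤ) ^ (m - 1)) (by positivity) (by exact_mod_cast i'.2)
    have h5 := Int.modEq_iff_dvd.2 h2
    rw [Int.ModEq, h3, h4] at h5
    exact Fin.ext (by exact_mod_cast h5)
  · rintro ⟨t, htC, htt⟩
    rcases Cfsg.Lib.CyclicMax.cases h t with ⟨k, rfl⟩ | ⟨k, rfl⟩
    · exact absurd ⟨k, rfl⟩ htC
    obtain ⟨k, rfl⟩ := (hsq k).1 htt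
    have hpos : (0 : ℤ) < 2 ^ (m - 1) := by positivity
    refine ⟨⟨(k % 2 ^ (m - 1)).toNat, ?_⟩, Subtype.ext ?_⟩
    · have h1 := Int.emod_lt_of_pos k hpos
      have h2 := Int.emod_nonneg k hpos.ne'
      rw [← Int.ofNat_lt, Int.toNat_of_nonneg h2]
      push_cast
      exact h1
    · show a ^ (2 * (((k % 2 ^ (m - 1)).toNat : ℕ) : ℤ)) * b = a ^ (2 * k) * b
      rw [Cfsg.Lib.CyclicMax.b_eq_iff h, Int.toNat_of_nonneg (Int.emod_nonneg k hpos.ne'), hp1, ← mul_sub]
      exact mul_dvd_mul_left _ (Int.dvd_self_sub_emod)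

theorem main (q : ℕ) [Fact q.Prime] {V : Type*} [AddCommGroup V] [Module (ZMod q) V] [Finite V] [Nontrivial V]
    {G : Type*} [Group G] [Finite G] (p : ℕ) [Fact p.Prime] (hG : IsPGroup p G)
    (ρ : G →* (V ≃ₗ[ZMod q] V)) (hρ : Function.Injective ρ)
    (hhalf : ∀ v w : V, v ≠ 0 → w ≠ 0 → Nat.card {u : V | ∃ g : G, ρ g v = u} = Nat.card {u : V | ∃ g : G, ρ g w = u}) :
    ((IsCyclic G ∨ ∃ n : ℕ, Nonempty (G ≃* QuaternionGroup n)) ∧ ∀ v : V, v ≠ 0 → ∀ g : G, ρ g v = v → g = 1) ∨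
    (Nat.card V = q ^ 2 ∧ ∃ m : ℕ, q = 2 ^ m - 1 ∧
      (Nonempty (G ≃* DihedralGroup (2 ^ m)) ∨ (Cfsg.IsQuasiDihedral G ∧ Nat.card G = 2 ^ (m + 2)))) ∨
    (Nat.card V = q ^ 2 ∧ (∃ m : ℕ, q = 2 ^ m + 1) ∧
      ∃ e : V ≃ₗ[ZMod q] (Fin 2 → ZMod q), ∀ f : (Fin 2 → ZMod q) ≃ₗ[ZMod q] (Fin 2 → ZMod q),
        (∃ g : G, f = e.symm.trans ((ρ g).trans e)) ↔
        ∃ a s : ZMod q, a ≠ 0 ∧ (s = 1 ∨ s = -1) ∧
          ((∀ v, f v = ![a * v 0, s * a⁻¹ * v 1]) ∨ (∀ v, f v = ![s * a⁻¹ * v 1, a * v 0]))) ∨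
    (Nat.card V = 81 ∧ q = 3 ∧ p = 2) := by
  have heq : ∀ v w : V, v ≠ 0 → w ≠ 0 → Nat.card (St ρ v) = Nat.card (St ρ w) := by
    intro v w hv hw
    have h1 := orbit_mul_St (ρ := ρ) v
    rw [hhalf v w hv hw, ← orbit_mul_St (ρ := ρ) w] at h1
    have : Nonempty {u : V | ∃ g : G, ρ g w = u} := ⟨⟨w, 1, one_apply w⟩⟩
    exact Nat.eq_of_mul_eq_mul_left Nat.card_pos h1
  by_cases hpq : p = q
  · subst hpq
    left
    -- a `p`-group fixes a non-zero vector
    let mact : MulAction G V :=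
      { smul := fun g v => ρ g v
        one_smul := fun v => one_apply v
        mul_smul := fun g h v => mul_apply g h v }
    have hdvd : p ∣ Nat.card V := by
      rw [Module.natCard_eq_pow_finrank (K := ZMod p), Nat.card_zmod]
      exact dvd_pow_self p Module.finrank_pos.ne'
    obtain ⟨b, hb, hb0⟩ := hG.exists_fixed_point_of_prime_dvd_card_of_fixed_point V hdvd
      (a := (0 : V)) (fun g => map_zero (ρ g))
    have htop : St ρ b = ⊤ := (Subgroup.eq_top_iff' _).2 fun g => hb g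
    have hone : ∀ g : G, g = 1 := fun g => faithful hρ fun v => by
      by_cases hv : v = 0
      · rw [hv, map_zero]
      have h2 : St ρ v = ⊤ := Subgroup.eq_top_of_card_eq _ (by rw [heq v b hv hb0.symm, htop, Subgroup.card_top])
      exact (h2 ▸ Subgroup.mem_top g : g ∈ St ρ v)
    have : Subsingleton G := ⟨fun a c => (hone a).trans (hone c).symm⟩
    exact ⟨Or.inl inferInstance, fun v hv g hg => hone g⟩
  have H : HT ρ p := ⟨hG, hρ, hpq, heq⟩
  by_cases hsr : ∃ v : V, v ≠ 0 ∧ St ρ v = ⊥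
  · obtain ⟨v0, hv0, hst⟩ := hsr
    have hall : ∀ v : V, v ≠ 0 → St ρ v = ⊥ := fun v hv =>
      Subgroup.eq_bot_of_card_eq _ (by rw [heq v v0 hv hv0, hst, Subgroup.card_bot])
    exact Or.inl ⟨cyclic_or_quaternion H hall,
      fun v hv g hg => Subgroup.mem_bot.1 (hall v hv ▸ (hg : g ∈ St ρ v))⟩
  push Not at hsr
  right
  obtain ⟨v0, hv0⟩ := exists_ne (0 : V)
  have : Nontrivial G := by
    obtain ⟨⟨g, hgm⟩, hg⟩ := Subgroup.ne_bot_iff_exists_ne_one.1 (hsr v0 hv0)
    exact nontrivial_of_ne g 1 fun h => hg (Subtype.ext h)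
  obtain ⟨z, -, hz, hzo⟩ := PGroups.exists_mem_center_of_normal_ne_bot hG (N := (⊤ : Subgroup G)) top_ne_bot
  by_cases hA : ∃ y : G, y ^ p = 1 ∧ y ∉ Subgroup.zpowers z ∧
      ∀ g : G, ∃ d ∈ Subgroup.zpowers z, g * y = (y * d) * g
  · obtain ⟨y, hy, hyz, hcomm⟩ := hA
    by_cases hp2 : p = 2
    · subst hp2
      rcases two_monomial H hz hzo hy hyz hcomm hsr with h | ⟨h1, h2⟩
      · exact Or.inr (Or.inl h)
      · exact Or.inr (Or.inr ⟨h1, h2, rfl⟩)
    · exact absurd (odd_false H hz hzo hy hyz hcomm hp2 hsr) id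
  -- every normal abelian subgroup is cyclic
  have hZn : (Subgroup.zpowers z).Normal := ⟨fun x hx g => by
    rw [Subgroup.mem_center_iff.1 (zpow_mem_facts H hz hzo hx).1 g, mul_inv_cancel_right]; exact hx⟩
  have hcyc : ∀ A : Subgroup G, A.Normal → IsMulCommutative A → IsCyclic A := by
    intro A hAn hAc
    by_contra hnc
    obtain ⟨x, hxA, hxp, hxz⟩ : ∃ x ∈ A, x ^ p = 1 ∧ x ∉ Subgroup.zpowers z := by
      by_contra h
      push Not at h
      rcases Cfsg.Lib.UniqueSub.isCyclic_or_quaternion (hG.to_subgroup A) (fun a b ha hb => by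
        have ha' := h a a.2 (by rw [← Subgroup.coe_pow, ← ha, pow_orderOf_eq_one]; rfl)
        have hb' := h b b.2 (by rw [← Subgroup.coe_pow, ← hb, pow_orderOf_eq_one]; rfl)
        have e : Subgroup.zpowers (a : G) = Subgroup.zpowers z :=
          Subgroup.eq_of_le_of_card_ge (Subgroup.zpowers_le.2 ha') (by
            rw [Nat.card_zpowers, Nat.card_zpowers, hzo, Subgroup.orderOf_coe, ha])
        obtain ⟨k, hk⟩ := Subgroup.mem_zpowers_iff.1 (e ▸ hb' : (b : G) ∈ Subgroup.zpowers (a : G))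
        exact Subgroup.mem_zpowers_iff.2 ⟨k, Subtype.ext hk⟩) with hc | ⟨-, n, ⟨e⟩⟩
      · exact hnc hc
      · have : NeZero (2 ^ n) := ⟨by positivity⟩
        have hcm : e.symm (.a 1) * e.symm (.xa 0) = e.symm (.xa 0) * e.symm (.a 1) := hAc.is_comm.comm _ _
        rw [← map_mul, ← map_mul] at hcm
        have h2 := e.symm.injective hcm
        simp only [QuaternionGroup.a_mul_xa, QuaternionGroup.xa_mul_a, zero_sub, zero_add] at h2
        injection h2 with h3
        have h4 : ((2 : ℕ) : ZMod (2 * 2 ^ n)) = 0 := by push_cast; linear_combination -h3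
        rw [ZMod.natCast_eq_zero_iff] at h4
        have := Nat.le_of_dvd two_pos h4
        rcases Nat.eq_zero_or_pos n with rfl | hn
        · have hc4 : IsCyclic A := by
            have : IsCyclic (QuaternionGroup (2 ^ 0)) := by
              rw [pow_zero]; exact QuaternionGroup.quaternionGroup_one_isCyclic
            exact isCyclic_of_surjective e.symm e.symm.surjective
          exact hnc hc4
        · have : 2 ≤ 2 ^ n := Nat.le_self_pow hn.ne' 2
          omega
    let N : Subgroup G :=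
      { carrier := {u | u ∈ A ∧ u ^ p = 1}
        one_mem' := ⟨one_mem A, one_pow p⟩
        mul_mem' := fun {a b} ha hb => ⟨mul_mem ha.1 hb.1, by
          rw [(show Commute a b from congrArg Subtype.val (hAc.is_comm.comm ⟨a, ha.1⟩ ⟨b, hb.1⟩)).mul_pow,
            ha.2, hb.2, one_mul]⟩
        inv_mem' := fun {a} ha => ⟨inv_mem ha.1, by rw [inv_pow, ha.2, inv_one]⟩ }
    have hNn : N.Normal := ⟨fun u hu g => ⟨hAn.conj_mem u hu.1 g, by rw [conj_pow, hu.2, mul_one, mul_inv_cancel]⟩⟩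
    have hmap : N.map (QuotientGroup.mk' (Subgroup.zpowers z)) ≠ ⊥ := by
      rw [Ne, Subgroup.map_eq_bot_iff, QuotientGroup.ker_mk']
      exact fun h => hxz (h ⟨hxA, hxp⟩)
    have : (N.map (QuotientGroup.mk' (Subgroup.zpowers z))).Normal :=
      hNn.map _ (QuotientGroup.mk'_surjective _)
    obtain ⟨yb, hyN, hyc, hyo⟩ := PGroups.exists_mem_center_of_normal_ne_bot (hG.to_quotient _) hmap
    obtain ⟨y, hy, rfl⟩ := hyN
    refine hA ⟨y, hy.2, fun h => ?_, fun g => ?_⟩
    · rw [QuotientGroup.mk'_apply, (QuotientGroup.eq_one_iff y).2 h, orderOf_one] at hyo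
      exact (Fact.out : p.Prime).ne_one hyo.symm
    · have hg := Subgroup.mem_center_iff.1 hyc (QuotientGroup.mk' _ g)
      rw [← map_mul, ← map_mul, QuotientGroup.mk'_eq_mk'] at hg
      obtain ⟨d, hd, hgd⟩ := hg
      have hdc := (zpow_mem_facts H hz hzo hd).1
      refine ⟨d⁻¹, inv_mem hd, ?_⟩
      rw [mul_assoc y, ← Subgroup.mem_center_iff.1 (inv_mem hdc) g, ← mul_assoc, ← hgd]
      group
  obtain ⟨⟨t0, ht0⟩, ht01'⟩ := Subgroup.ne_bot_iff_exists_ne_one.1 (hsr v0 hv0)
  have ht01 : t0 ≠ 1 := fun h => ht01' (Subtype.ext h)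
  obtain ⟨x, hxo, hxv⟩ : ∃ x, orderOf x = p ∧ ρ x v0 = v0 := by
    obtain ⟨k, hk⟩ := IsPGroup.iff_orderOf.1 hG t0
    exact ⟨t0 ^ (orderOf t0 / p), orderOf_pow_orderOf_div (orderOf_pos _).ne' (hG.dvd_orderOf ht01),
      (pow_fix ht0 _)⟩
  have hxz : x ∉ Subgroup.zpowers z := fun h => by
    obtain ⟨h1, h2⟩ := zpow_mem_facts H hz hzo h
    exact hv0 (central_fpf H h1 h2 (fun h => by rw [h, orderOf_one] at hxo; exact (Fact.out : p.Prime).ne_one hxo.symm) hxv)
  have hB : ∃ B : Subgroup G, IsMulCommutative B ∧ ¬ IsCyclic B := by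
    refine ⟨Subgroup.closure {z, x}, ?_, fun hc => hxz ?_⟩
    · refine Subgroup.isMulCommutative_closure ?_
      have hzc := Subgroup.mem_center_iff.1 hz
      rintro a (rfl | rfl) b (rfl | rfl)
      · rfl
      · exact (hzc _).symm
      · exact hzc _
      · rfl
    · classical
      set B := Subgroup.closure ({z, x} : Set G)
      have hzB : z ∈ B := Subgroup.subset_closure (Or.inl rfl)
      have hxB : x ∈ B := Subgroup.subset_closure (Or.inr rfl)
      have : Fintype B := Fintype.ofFinite _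
      have hle := IsCyclic.card_pow_eq_one_le (α := B) (Fact.out : p.Prime).pos
      by_contra hxz'
      have hsub : insert (⟨x, hxB⟩ : B) ((Finset.range p).image fun i => (⟨z, hzB⟩ : B) ^ i) ⊆
          Finset.univ.filter (fun a : B => a ^ p = 1) := by
        intro a ha
        rw [Finset.mem_filter]
        refine ⟨Finset.mem_univ _, Subtype.ext ?_⟩
        rcases Finset.mem_insert.1 ha with rfl | ha
        · show x ^ p = 1
          rw [← hxo, pow_orderOf_eq_one]
        · obtain ⟨i, -, rfl⟩ := Finset.mem_image.1 ha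
          show (z ^ i) ^ p = 1
          rw [← pow_mul, mul_comm, pow_mul, ← hzo, pow_orderOf_eq_one, one_pow]
      have h1 := (Finset.card_le_card hsub).trans hle
      rw [Finset.card_insert_of_notMem, Finset.card_image_of_injOn, Finset.card_range] at h1
      · omega
      · intro i hi i' hi' h
        exact pow_injOn_Iio_orderOf (by simpa [hzo] using hi) (by simpa [hzo] using hi')
          (congrArg Subtype.val h)
      · rintro h
        obtain ⟨i, -, hi⟩ := Finset.mem_image.1 h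
        have hi' : z ^ i = x := congrArg Subtype.val hi
        exact hxz' (hi' ▸ Subgroup.npow_mem_zpowers z i)
  obtain ⟨hp2, hcases⟩ := Cfsg.Agent.S0519.result p hG hcyc hB
  subst hp2
  have hna : ∃ a b : G, a * b ≠ b * a := by
    by_contra h
    push Not at h
    obtain ⟨B, -, hBnc⟩ := hB
    have : IsCyclic (⊤ : Subgroup G) := hcyc ⊤ inferInstance ⟨⟨fun a b => Subtype.ext (h _ _)⟩⟩
    exact hBnc (isCyclic_of_injective (Subgroup.inclusion le_top) (Subgroup.inclusion_injective le_top))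
  rcases hcases with ⟨n, ⟨e⟩⟩ | ⟨n, hn, ⟨e⟩⟩ | hQD
  · -- quaternion groups have a unique involution
    exfalso
    rcases Nat.eq_zero_or_pos n with rfl | hn
    · have := e.toEquiv.finite_iff.1 inferInstance
      have := Finite.of_equiv _ QuaternionGroup.quaternionGroupZeroEquivDihedralGroupZero.toEquiv
      exact not_finite (DihedralGroup 0)
    have : NeZero n := ⟨hn.ne'⟩
    have hu : ∀ u : G, orderOf u = 2 → e u = .a (n : ZMod (2 * n)) := fun u hu => by
      have h1 : orderOf (e u) = 2 := by rw [MulEquiv.orderOf_eq, hu]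
      rcases hi : e u with i | i
      · rw [hi] at h1
        have h2 := pow_orderOf_eq_one (QuaternionGroup.a i)
        rw [h1, pow_two, QuaternionGroup.a_mul_a, ← QuaternionGroup.a_zero] at h2
        injection h2 with h3
        rcases Cfsg.Lib.PGroups.CyclicCentralisers.two_torsion h3 with h4 | h4
        · rw [h4, QuaternionGroup.a_zero, orderOf_one] at h1; norm_num at h1
        · rw [h4]
      · rw [hi, QuaternionGroup.orderOf_xa] at h1; norm_num at h1
    exact hxz (e.injective ((hu x hxo).trans (hu z hzo).symm) ▸ Subgroup.mem_zpowers z)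
  · have : NeZero n := ⟨by omega⟩
    obtain ⟨C, hC, hCi, hCn⟩ := dihedral_count n e
    obtain ⟨k, hk⟩ := IsPGroup.iff_card.1 hG
    rw [Nat.card_congr e.toEquiv, DihedralGroup.nat_card] at hk
    obtain ⟨j, -, hj⟩ := (Nat.dvd_prime_pow Nat.prime_two).1 (⟨2, by rw [← hk]; ring⟩ : n ∣ 2 ^ k)
    obtain ⟨h1, h2⟩ := index_two_count H C hC hCi hz hzo hsr hna j (hCn.trans hj)
    exact Or.inl ⟨h1, j, h2, Or.inl ⟨hj ▸ e⟩⟩
  · obtain ⟨m, C, hC, hCi, hm, hcard, hCn⟩ := quasi_count hQD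
    obtain ⟨h1, h2⟩ := index_two_count H C hC hCi hz hzo hsr hna (m - 1) hCn
    exact Or.inl ⟨h1, m - 1, h2, Or.inr ⟨hQD, by rw [hcard]; congr 1; omega⟩⟩

end Cfsg.Lib.HalfTrans
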