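import Cfsg.Agent.S3546
import Mathlib.GroupTheory.GroupAction.Blocks
import Mathlib.GroupTheory.GroupAction.Primitive
import Mathlib.Tactic

/-!
The index of the subgroup generated by the derangements.
-/

namespace Cfsg.Lib.DerangementIndex

open MulAction
open scoped Pointwise

theorem dvd_ncard_of_invariant {H X : Type*} [Group H] [MulAction H X] [Finite X] {d : ℕ} {S : Set X}
    (hS : ∀ (h : H) (x : X), x ∈ S → h • x ∈ S) (hd : ∀ x ∈ S, d ∣ (stabilizer H x).index) : d ∣ S.ncard := by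
  induction hn : S.ncard using Nat.strong_induction_on generalizing S with
  | h n IH =>
    subst hn
    rcases S.eq_empty_or_nonempty with rfl | ⟨x, hx⟩
    · simp
    have hsub : orbit H x ⊆ S := by rintro y ⟨h, rfl⟩; exact hS h x hx
    rw [← Set.ncard_sdiff_add_ncard_of_subset hsub]
    refine dvd_add (IH _ ?_ ?_ (fun y hy => hd y hy.1) rfl) (index_stabilizer H x ▸ hd x hx)
    · refine Set.ncard_lt_ncard ⟨Set.sdiff_subset, fun h => (h hx).2 (mem_orbit_self x)⟩ S.toFinite
    · intro h y hy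
      refine ⟨hS h y hy.1, fun hm => hy.2 ?_⟩
      obtain ⟨k, hk⟩ := hm
      exact ⟨h⁻¹ * k, by show (h⁻¹ * k) • x = y; rw [mul_smul, show k • x = h • y from hk, inv_smul_smul]⟩

theorem card_eq_orbit_mul {G X : Type*} [Group G] [MulAction G X] (H : Subgroup G) (x : X) :
    Nat.card H = (orbit H x).ncard * Nat.card ↥(H ⊓ stabilizer G x) := by
  rw [← index_stabilizer, ← Nat.card_congr (⟨fun z => ⟨z.1.1, z.1.2, z.2⟩, fun z => ⟨⟨z.1, z.2.1⟩, z.2.2⟩,
    fun _ => rfl, fun _ => rfl⟩ : stabilizer H x ≃ ↥(H ⊓ stabilizer G x)), Subgroup.index_mul_card]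

variable {G Ω : Type*} [Group G] [Finite G] [MulAction G Ω] [FaithfulSMul G Ω] [Finite Ω]

/-- The subgroup generated by the derangements. -/
def dergroup (G Ω : Type*) [Group G] [MulAction G Ω] : Subgroup G :=
  Subgroup.closure {g : G | ∀ ω : Ω, g • ω ≠ ω}

variable [htrans : IsPretransitive G Ω]

theorem trans_dergroup : IsPretransitive (dergroup G Ω) Ω := (Cfsg.Agent.S3546.result (G := G) (Ω := Ω) htrans).1

theorem fixed_unique {g : G} (hg : g ∉ dergroup G Ω) {x y : Ω} (hx : g • x = x) (hy : g • y = y) : x = y := by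
  by_contra hne
  refine hg ((Cfsg.Agent.S3546.result (G := G) (Ω := Ω) htrans).2 g fun h => ?_)
  obtain ⟨h1, -⟩ := Nat.card_eq_one_iff_unique.mp h
  exact hne (congrArg Subtype.val (h1.elim ⟨x, hx⟩ ⟨y, hy⟩))

theorem relIndex_stabilizer (a : Ω) : (dergroup G Ω).relIndex (stabilizer G a) = (dergroup G Ω).index := by
  haveI : Nonempty Ω := ⟨a⟩
  haveI := trans_dergroup (G := G) (Ω := Ω)
  set K := dergroup G Ω with hK
  have hn : 0 < Nat.card Ω := Nat.card_pos
  have h1 := Subgroup.relIndex_mul_index (inf_le_left : K ⊓ stabilizer G a ≤ K)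
  have h2 := Subgroup.relIndex_mul_index (inf_le_right : K ⊓ stabilizer G a ≤ stabilizer G a)
  rw [← h2, Subgroup.inf_relIndex_right, Subgroup.inf_relIndex_left, index_stabilizer_of_transitive] at h1
  rw [show (stabilizer G a).relIndex K = Nat.card Ω from (congrArg Subgroup.index (show (stabilizer G a).subgroupOf K = stabilizer K a from Subgroup.ext fun k => Iff.rfl)).trans (index_stabilizer_of_transitive K a), mul_comm] at h1
  exact (Nat.eq_of_mul_eq_mul_right hn h1).symm

/-- Orbit lengths of a point stabiliser in an action whose two-point stabilisers lie in the subgroup. -/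
theorem dvd_index_stabilizer {X : Type*} [MulAction G X] (a : Ω) (x : X)
    (h : ∀ g : G, g • a = a → g • x = x → g ∈ dergroup G Ω) :
    (dergroup G Ω).index ∣ (stabilizer (stabilizer G a) x).index := by
  rw [← relIndex_stabilizer a]
  refine Subgroup.index_dvd_of_le (H := stabilizer (stabilizer G a) x) ?_
  intro g hg
  exact h g g.2 hg

theorem stabilizer_le_dergroup {a b : Ω} (hab : a ≠ b) {g : G} (ha : g • a = a) (hb : g • b = b) :
    g ∈ dergroup G Ω := by_contra fun hg => hab (fixed_unique hg ha hb)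

theorem index_dvd_sub_one (a : Ω) {B : Set Ω} (haB : a ∈ B) (hB : ∀ g : G, g • a = a → ∀ x ∈ B, g • x ∈ B) :
    (dergroup G Ω).index ∣ B.ncard - 1 := by
  rw [← Set.ncard_sdiff_singleton_of_mem haB]
  refine dvd_ncard_of_invariant (H := stabilizer G a) (fun h x hx => ⟨hB h h.2 x hx.1, fun e => hx.2 ?_⟩)
    fun x hx => dvd_index_stabilizer a x fun g hga hgx => stabilizer_le_dergroup (fun e => hx.2 e.symm) hga hgx
  have e' : (h : G) • x = (h : G) • a := (show (h : G) • x = a from e).trans h.2.symm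
  exact smul_left_cancel _ e'

/-- An element outside fixing a point and a block fixes a point of the block. -/
theorem exists_fixed_in_block {C : Set Ω} (hC : IsBlock G C) (hne : C.Nonempty) {g : G} (hg : g ∉ dergroup G Ω)
    (hgC : g • C = C) : ∃ x ∈ C, g • x = x := by
  classical
  haveI := trans_dergroup (G := G) (Ω := Ω)
  set K := dergroup G Ω
  set KC := K ⊓ stabilizer G C
  have hmem : ∀ k ∈ KC, ∀ x ∈ C, k • x ∈ C := fun k hk x hx =>
    (mem_stabilizer_iff.mp hk.2) ▸ Set.smul_mem_smul_set hx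
  have hstab : ∀ k : G, ∀ x ∈ C, k • x ∈ C → k • C = C := fun k x hx hk => hC.smul_eq_of_mem hx hk
  have htr : ∀ x ∈ C, ∀ y ∈ C, ∃ k ∈ KC, k • x = y := fun x hx y hy => by
    obtain ⟨k, hk⟩ := exists_smul_eq K x y
    exact ⟨k, ⟨k.2, hstab k x hx (show (k : G) • x ∈ C from (show (k : G) • x = y from hk) ▸ hy)⟩, hk⟩
  have horb : ∀ x ∈ C, orbit KC x = C := fun x hx => Set.ext fun y => ⟨by rintro ⟨k, rfl⟩; exact hmem k k.2 x hx, fun hy => by
    obtain ⟨k, hk, e⟩ := htr x hx y hy; exact ⟨⟨k, hk⟩, e⟩⟩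
  have hginv : ∀ x ∈ C, g⁻¹ • x ∈ C := fun x hx => by
    have e : g⁻¹ • C = C := by rw [inv_smul_eq_iff, hgC]
    exact e ▸ Set.smul_mem_smul_set hx
  let Φ : (Σ x : C, {k : KC // (k : G) • (x : Ω) = g⁻¹ • (x : Ω)}) → KC := fun z => z.2.1
  have hinj : Function.Injective Φ := by
    rintro ⟨x, k, hk⟩ ⟨y, l, hl⟩ (e : k = l)
    subst e
    have hgk : g * (k : G) ∉ K := fun h => hg ((K.mul_mem_cancel_right k.2.1).mp h)
    have : (x : Ω) = y := fixed_unique hgk (by rw [mul_smul, hk, smul_inv_smul]) (by rw [mul_smul, hl, smul_inv_smul])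
    obtain rfl := Subtype.ext this
    rfl
  have hsize : ∀ x : C, Nat.card {k : KC // (k : G) • (x : Ω) = g⁻¹ • (x : Ω)} * C.ncard = Nat.card KC := fun x => by
    obtain ⟨k₀, hk₀, e₀⟩ := htr x x.2 _ (hginv x x.2)
    rw [card_eq_orbit_mul KC (x : Ω), horb x x.2, mul_comm]
    congr 1
    refine Nat.card_congr ⟨fun k => ⟨k₀⁻¹ * (k.1 : G), KC.mul_mem (KC.inv_mem hk₀) k.1.2, ?_⟩,
      fun s => ⟨⟨k₀ * (s : G), mul_mem hk₀ s.2.1⟩, ?_⟩, fun k => ?_, fun s => ?_⟩
    · show (k₀⁻¹ * (k.1 : G)) • (x : Ω) = x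
      rw [mul_smul, k.2, inv_smul_eq_iff, e₀]
    · show (k₀ * (s : G)) • (x : Ω) = g⁻¹ • (x : Ω)
      rw [mul_smul, show (s : G) • (x : Ω) = x from s.2.2, e₀]
    · exact Subtype.ext (Subtype.ext (mul_inv_cancel_left k₀ _))
    · exact Subtype.ext (inv_mul_cancel_left k₀ _)
  have hcard : Nat.card (Σ x : C, {k : KC // (k : G) • (x : Ω) = g⁻¹ • (x : Ω)}) = Nat.card KC := by
    haveI := Fintype.ofFinite C
    have hpos : 0 < C.ncard := (Set.ncard_pos C.toFinite).mpr hne
    rw [Nat.card_sigma]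
    refine Nat.eq_of_mul_eq_mul_right hpos ?_
    rw [Finset.sum_mul, Finset.sum_congr rfl (fun x _ => hsize x), Finset.sum_const, Finset.card_univ, smul_eq_mul,
      ← Nat.card_eq_fintype_card, Nat.card_coe_set_eq, mul_comm]
  obtain ⟨⟨x, k, hk⟩, hk1⟩ := ((Nat.bijective_iff_injective_and_card Φ).mpr ⟨hinj, hcard⟩).2 1
  refine ⟨x, x.2, ?_⟩
  have : (k : G) = 1 := congrArg Subtype.val (show k = 1 from hk1)
  rw [this, one_smul] at hk
  exact eq_inv_smul_iff.mp hk

theorem index_succ_sq_le (himp : ¬ IsPreprimitive G Ω) : ((dergroup G Ω).index + 1) ^ 2 ≤ Nat.card Ω := by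
  obtain ⟨B, hB, hnt⟩ : ∃ B : Set Ω, IsBlock G B ∧ ¬ IsTrivialBlock B := by
    by_contra h
    push Not at h
    exact himp { isTrivialBlock_of_isBlock := fun {B} hB => h B hB }
  simp only [IsTrivialBlock, not_or, Set.not_subsingleton_iff] at hnt
  obtain ⟨⟨a, haB, a', ha'B, hne⟩, hBu⟩ := hnt
  set d := (dergroup G Ω).index
  have hd1 : d ∣ B.ncard - 1 := index_dvd_sub_one a haB fun g hga x hx => by
    have : g • B = B := hB.smul_eq_of_mem haB (by rw [hga]; exact haB)
    exact this ▸ Set.smul_mem_smul_set hx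
  set S := orbit G B with hSdef
  have hBS : B ∈ S := mem_orbit_self B
  have hstB : ∀ g : G, g • a = a → g • B = B := fun g hga => hB.smul_eq_of_mem haB (by rw [hga]; exact haB)
  have hd2 : d ∣ S.ncard - 1 := by
    rw [← Set.ncard_sdiff_singleton_of_mem hBS]
    refine dvd_ncard_of_invariant (H := stabilizer G a) (fun h C hC => ⟨?_, fun e => hC.2 ?_⟩)
      fun C hC => dvd_index_stabilizer a C fun g hga hgC => ?_
    · obtain ⟨k, rfl⟩ := hC.1
      exact ⟨(h : G) * k, mul_smul _ _ _⟩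
    · have e' : (h : G) • C = (h : G) • B := (show (h : G) • C = B from e).trans (hstB h h.2).symm
      exact smul_left_cancel _ e'
    · by_contra hg
      obtain ⟨k, hk⟩ := hC.1
      change k • B = C at hk
      have hCb : IsBlock G C := hk ▸ hB.translate k
      obtain ⟨x, hxC, hx⟩ := exists_fixed_in_block hCb ⟨k • a, hk ▸ Set.smul_mem_smul_set haB⟩ hg hgC
      obtain rfl : x = a := fixed_unique hg hx hga
      refine hC.2 (hk.symm.trans (hB.smul_eq_of_mem (a := k⁻¹ • x) ?_ ?_))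
      · rw [← Set.mem_smul_set_iff_inv_smul_mem, hk]; exact hxC
      · rw [smul_inv_smul]; exact haB
  have hprod := hB.ncard_block_mul_ncard_orbit_eq ⟨a, haB⟩
  rw [← hSdef] at hprod
  have hb : 2 ≤ B.ncard := (Set.one_lt_ncard).mpr ⟨a, haB, a', ha'B, hne⟩
  have hlt : B.ncard < Nat.card Ω := by
    rw [← Set.ncard_univ]
    exact Set.ncard_lt_ncard ((Set.ssubset_univ_iff).mpr hBu)
  have hm : 2 ≤ S.ncard := by
    by_contra h
    rcases (show S.ncard = 0 ∨ S.ncard = 1 by omega) with e | e <;> rw [e] at hprod <;> omega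
  have h1 : d + 1 ≤ B.ncard := by have := Nat.le_of_dvd (by omega) hd1; omega
  have h2 : d + 1 ≤ S.ncard := by have := Nat.le_of_dvd (by omega) hd2; omega
  rw [pow_two, ← hprod]
  exact Nat.mul_le_mul h1 h2

end Cfsg.Lib.DerangementIndex
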