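import Mathlib.LinearAlgebra.Transvection.Basic
import Mathlib.LinearAlgebra.FiniteDimensional.Basic
import Mathlib.LinearAlgebra.Dual.Lemmas
import Mathlib.Algebra.Field.ZMod
import Mathlib.Tactic

/-!
# Extending linear and affine maps
-/

namespace Cfsg.Lib.AffineExtend

variable {K V : Type*} [Field K] [AddCommGroup V] [Module K V] [FiniteDimensional K V]

theorem exists_equiv_extend {ι : Type*} [Finite ι] {v w : ι → V} (hv : LinearIndependent K v)
    (hw : LinearIndependent K w) : ∃ A : V ≃ₗ[K] V, ∀ i, A (v i) = w i := by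
  obtain ⟨A, hA⟩ := Submodule.exists_linearEquiv_restrict_eq ((Module.Basis.span hv).equiv (Module.Basis.span hw) (Equiv.refl ι))
  refine ⟨A, fun i => ?_⟩
  rw [← Module.Basis.coe_span_apply hv i, ← hA, Module.Basis.equiv_apply, Equiv.refl_apply, Module.Basis.coe_span_apply]

theorem exists_det_fix {W : Submodule K V} (hW : W < ⊤) {c : K} (hc : c ≠ 0) :
    ∃ D : V ≃ₗ[K] V, LinearMap.det (D : V →ₗ[K] V) = c ∧ ∀ x ∈ W, D x = x := by
  obtain ⟨x, -, hx⟩ := SetLike.exists_of_lt hW
  obtain ⟨f, hfx, hf⟩ := Submodule.exists_dual_map_eq_bot_of_notMem hx inferInstance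
  have hdet : (LinearMap.transvection f (((c - 1) / f x) • x)).det = c := by
    rw [LinearMap.transvection.det, map_smul, smul_eq_mul, div_mul_cancel₀ _ hfx]; ring
  have hu : IsUnit (LinearMap.transvection f (((c - 1) / f x) • x)).det := by rw [hdet]; exact isUnit_iff_ne_zero.mpr hc
  refine ⟨LinearMap.equivOfIsUnitDet hu, ?_, fun y hy => ?_⟩
  · rw [LinearMap.coe_equivOfIsUnitDet, hdet]
  · rw [LinearMap.equivOfIsUnitDet_apply]
    have : f y = 0 := by
      have := Submodule.mem_map_of_mem (f := f) hy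
      rwa [hf, Submodule.mem_bot] at this
    rw [LinearMap.transvection.apply, this, zero_smul, add_zero]

omit [FiniteDimensional K V] in
/-- A bijection which is affine on each triple is affine (characteristic not two). -/
theorem affine_of_triples [Finite V] (h2 : (2 : K) ≠ 0) (σ : Equiv.Perm V)
    (h : ∀ t : Fin 3 → V, ∃ (A : V ≃ₗ[K] V) (b : V), ∀ i, σ (t i) = A (t i) + b) :
    ∃ A : V ≃ₗ[K] V, ∀ x, σ x = A x + σ 0 := by
  set T : V → V := fun x => σ x - σ 0 with hT
  have hsmul : ∀ (c : K) (x : V), T (c • x) = c • T x := fun c x => by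
    obtain ⟨A, b, hA⟩ := h ![0, x, c • x]
    have h0 : σ 0 = b := by simpa using hA 0
    have h1 : σ x = A x + b := by simpa using hA 1
    have h3 : σ (c • x) = A (c • x) + b := by simpa using hA 2
    simp [hT, h0, h1, h3]
  have hmid : ∀ x y : V, T ((2 : K)⁻¹ • (x + y)) = (2 : K)⁻¹ • (T x + T y) := fun x y => by
    obtain ⟨A, b, hA⟩ := h ![x, y, (2 : K)⁻¹ • (x + y)]
    have h0 : σ x = A x + b := by simpa using hA 0
    have h1 : σ y = A y + b := by simpa using hA 1
    have h3 : σ ((2 : K)⁻¹ • (x + y)) = A ((2 : K)⁻¹ • (x + y)) + b := by simpa using hA 2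
    simp only [hT, h0, h1, h3, map_smul, map_add]
    match_scalars <;> field_simp <;> ring
  have hadd : ∀ x y : V, T (x + y) = T x + T y := fun x y => by
    have e := hmid x y
    rw [hsmul] at e
    exact smul_right_injective V (inv_ne_zero h2) e
  let L : V →ₗ[K] V := { toFun := T, map_add' := hadd, map_smul' := hsmul }
  have hinj : Function.Injective L := fun x y e => σ.injective (sub_left_injective e)
  refine ⟨LinearEquiv.ofBijective L ⟨hinj, Finite.injective_iff_surjective.mp hinj⟩, fun x => ?_⟩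
  show σ x = (σ x - σ 0) + σ 0
  rw [sub_add_cancel]

end Cfsg.Lib.AffineExtend
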