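import Mathlib

/-!
The groups `x ↦ c x + v` of a finite field, with `c` in a subgroup of units.
-/

namespace Cfsg.Lib.AffField

variable (K : Type) [Field K]

/-- Units acting on the multiplicative copy of the additive group. -/
def act : Kˣ →* MulAut (Multiplicative K) where
  toFun c :=
    { toFun := fun v => Multiplicative.ofAdd ((c : K) * v.toAdd)
      invFun := fun v => Multiplicative.ofAdd ((↑c⁻¹ : K) * v.toAdd)
      left_inv := fun v => by simp
      right_inv := fun v => by simp
      map_mul' := fun v w => by rw [toAdd_mul, mul_add, ofAdd_add] }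
  map_one' := by ext v; simp
  map_mul' c d := MulEquiv.ext fun v => by simp [mul_assoc]

/-- The affine group of a subgroup of units. -/
abbrev Aff (C : Subgroup Kˣ) : Type := SemidirectProduct (Multiplicative K) C ((act K).comp C.subtype)

instance [Finite K] (C : Subgroup Kˣ) : Finite (Aff K C) :=
  Finite.of_equiv _ SemidirectProduct.equivProd.symm

variable {K} {C : Subgroup Kˣ}

theorem card_aff : Nat.card (Aff K C) = Nat.card K * Nat.card C := by
  rw [Nat.card_congr SemidirectProduct.equivProd, Nat.card_prod]; rfl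

/-- An element with nontrivial linear part is conjugate to its linear part. -/
theorem isConj_inr {g : Aff K C} (h : g.right ≠ 1) : IsConj (SemidirectProduct.inr g.right) g := by
  have hc : (1 : K) - ((g.right : Kˣ) : K) ≠ 0 := fun e => h (Subtype.ext (Units.ext (sub_eq_zero.mp e).symm))
  rw [isConj_iff]
  refine ⟨SemidirectProduct.inl (Multiplicative.ofAdd (g.left.toAdd / (1 - ((g.right : Kˣ) : K)))), ?_⟩
  refine SemidirectProduct.ext ?_ (by simp)
  set v := g.left.toAdd
  have e : g.left = Multiplicative.ofAdd v := rfl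
  rw [e, SemidirectProduct.mul_left, SemidirectProduct.mul_left, SemidirectProduct.inv_left,
    SemidirectProduct.mul_right]
  simp only [SemidirectProduct.left_inl, SemidirectProduct.right_inl, SemidirectProduct.left_inr,
    SemidirectProduct.right_inr, map_one, inv_one, MulAut.one_apply, one_mul, mul_one]
  show Multiplicative.ofAdd (v / (1 - ((g.right : Kˣ) : K))) *
    Multiplicative.ofAdd (((g.right : Kˣ) : K) * -(v / (1 - ((g.right : Kˣ) : K)))) = Multiplicative.ofAdd v
  rw [← ofAdd_add]
  congr 1
  field_simp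
  ring

theorem orderOf_inr (c : C) : orderOf (SemidirectProduct.inr c : Aff K C) = orderOf c :=
  orderOf_injective _ SemidirectProduct.inr_injective c

theorem orderOf_eq_right {g : Aff K C} (h : g.right ≠ 1) : orderOf g = orderOf g.right := by
  obtain ⟨u, hu⟩ := isConj_iff.mp (isConj_inr h)
  rw [← orderOf_inr g.right]
  conv_lhs => rw [← hu]
  exact orderOf_injective (MulAut.conj u).toMonoidHom (MulAut.conj u).injective _

variable (p : ℕ) [Fact p.Prime] [CharP K p]

theorem pow_char_eq_one (v : Multiplicative K) : v ^ p = 1 := by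
  apply Multiplicative.toAdd.injective
  rw [toAdd_pow, nsmul_eq_mul, CharP.cast_eq_zero, zero_mul, toAdd_one]

theorem orderOf_dvd_of_right {g : Aff K C} (h : g.right = 1) : orderOf g ∣ p := by
  have : g = SemidirectProduct.inl g.left := SemidirectProduct.ext rfl h
  rw [this, orderOf_injective _ SemidirectProduct.inl_injective]
  exact orderOf_dvd_of_pow_eq_one (pow_char_eq_one p _)

theorem exists_orderOf_char : ∃ g : Aff K C, orderOf g = p := by
  refine ⟨SemidirectProduct.inl (Multiplicative.ofAdd 1), ?_⟩
  rw [orderOf_injective _ SemidirectProduct.inl_injective]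
  refine orderOf_eq_prime (pow_char_eq_one p _) fun h => one_ne_zero (α := K) ?_
  simpa using congrArg Multiplicative.toAdd h

variable [Finite K]

theorem exists_orderOf_dvd_char {m : ℕ} (hm : m ∣ p) : ∃ g : Aff K C, orderOf g = m := by
  rcases (Nat.dvd_prime Fact.out).mp hm with rfl | rfl
  · exact ⟨1, orderOf_one⟩
  · exact exists_orderOf_char _

theorem exists_orderOf_dvd_gen {ζ : Kˣ} {m : ℕ} (hm : m ∣ orderOf ζ) :
    ∃ g : Aff K (Subgroup.zpowers ζ), orderOf g = m := by
  let x : Subgroup.zpowers ζ := ⟨ζ, Subgroup.mem_zpowers ζ⟩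
  have hx : orderOf x = orderOf ζ := Subgroup.orderOf_mk ..
  refine ⟨SemidirectProduct.inr (x ^ (orderOf x / m)), ?_⟩
  rw [orderOf_inr, orderOf_pow, Nat.gcd_eq_right (Nat.div_dvd_of_dvd (hx.symm ▸ hm)),
    Nat.div_div_self (hx.symm ▸ hm) (orderOf_pos x).ne']

/-- The element orders. -/
theorem mem_spectrum_iff (ζ : Kˣ) (m : ℕ) :
    m ∈ Set.range (orderOf : Aff K (Subgroup.zpowers ζ) → ℕ) ↔ m ∣ p ∨ m ∣ orderOf ζ := by
  constructor
  · rintro ⟨g, rfl⟩
    by_cases h : g.right = 1
    · exact Or.inl (orderOf_dvd_of_right p h)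
    · refine Or.inr ?_
      rw [orderOf_eq_right h]
      exact (orderOf_dvd_natCard g.right).trans (Nat.card_zpowers ζ).dvd
  · rintro (h | h)
    exacts [exists_orderOf_dvd_char p h, exists_orderOf_dvd_gen h]

theorem exists_unit_orderOf {d : ℕ} (hd : d ∣ Nat.card K - 1) : ∃ ζ : Kˣ, orderOf ζ = d := by
  have : Fintype K := Fintype.ofFinite K
  obtain ⟨g, hg⟩ := IsCyclic.exists_generator (α := Kˣ)
  have hd' : d ∣ orderOf g := by rwa [orderOf_eq_card_of_forall_mem_zpowers hg, Nat.card_units]
  refine ⟨g ^ (orderOf g / d), ?_⟩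
  rw [orderOf_pow, Nat.gcd_eq_right (Nat.div_dvd_of_dvd hd'), Nat.div_div_self hd' (orderOf_pos g).ne']

end Cfsg.Lib.AffField
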