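import Cfsg.Agent.Known.AltSpectrum
import Mathlib.LinearAlgebra.Matrix.SpecialLinearGroup
import Mathlib.FieldTheory.Finite.Basic
import Mathlib.Algebra.Polynomial.AlgebraMap
import Mathlib.Tactic

/-!
The group `2^4 : SL(2,4)` as matrices, and its element orders.
-/

namespace Cfsg.Lib.AffineFour

open Matrix Polynomial

variable {F : Type*} [Field F]

/-- The matrices with last row `(0,0,1)`. -/
def aff (F : Type*) [Field F] : Subgroup (Matrix.SpecialLinearGroup (Fin 3) F) where
  carrier := {M | (M : Matrix (Fin 3) (Fin 3) F) 2 0 = 0 ∧ (M : Matrix (Fin 3) (Fin 3) F) 2 1 = 0 ∧ (M : Matrix (Fin 3) (Fin 3) F) 2 2 = 1}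
  one_mem' := by simp
  mul_mem' := fun {a b} ha hb => by
    obtain ⟨a0, a1, a2⟩ := ha
    obtain ⟨b0, b1, b2⟩ := hb
    simp [Matrix.mul_apply, Fin.sum_univ_three, a0, a1, a2, b0, b1, b2]
  inv_mem' := fun {a} ha => by
    obtain ⟨a0, a1, a2⟩ := ha
    have h : ∀ j, ((a : Matrix (Fin 3) (Fin 3) F) * (↑(a⁻¹) : Matrix (Fin 3) (Fin 3) F)) 2 j = (1 : Matrix (Fin 3) (Fin 3) F) 2 j := fun j => by
      rw [← Matrix.SpecialLinearGroup.coe_mul, mul_inv_cancel, Matrix.SpecialLinearGroup.coe_one]
    have h0 := h 0; have h1 := h 1; have h2 := h 2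
    simp only [Matrix.mul_apply, Fin.sum_univ_three, a0, a1, a2, zero_mul, one_mul, zero_add] at h0 h1 h2
    refine ⟨h0.trans ?_, h1.trans ?_, h2.trans ?_⟩ <;> simp

/-- The top left block. -/
def top (F : Type*) [Field F] : aff F →* Matrix (Fin 2) (Fin 2) F where
  toFun x := !![(x.1 : Matrix (Fin 3) (Fin 3) F) 0 0, (x.1 : Matrix (Fin 3) (Fin 3) F) 0 1; (x.1 : Matrix (Fin 3) (Fin 3) F) 1 0, (x.1 : Matrix (Fin 3) (Fin 3) F) 1 1]
  map_one' := by
    ext i j; fin_cases i <;> fin_cases j <;> simp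
  map_mul' x y := by
    obtain ⟨y0, y1, y2⟩ := y.2
    ext i j; fin_cases i <;> fin_cases j <;> simp [Matrix.mul_apply, Fin.sum_univ_three, Fin.sum_univ_two, y0, y1]

theorem char_poly (h2 : (2 : F) = 0) (x : aff F) {a : F}
    (ha : a = (x.1 : Matrix (Fin 3) (Fin 3) F) 0 0 + (x.1 : Matrix (Fin 3) (Fin 3) F) 1 1 + 1) :
    aeval (x.1 : Matrix (Fin 3) (Fin 3) F) (X ^ 3 + C a * X ^ 2 + C a * X + 1 : F[X]) = 0 := by
  obtain ⟨x0, x1, x2⟩ := x.2
  have hdet := x.1.2
  rw [Matrix.det_fin_three, x0, x1, x2] at hdet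
  subst ha
  set M := (x.1 : Matrix (Fin 3) (Fin 3) F) with hM
  have key : M * M * M + (M 0 0 + M 1 1 + 1) • (M * M) + (M 0 0 + M 1 1 + 1) • M + 1 = 0 := by
    ext i j
    fin_cases i <;> fin_cases j <;>
      simp [Matrix.mul_apply, Fin.sum_univ_three, Matrix.smul_apply, x0, x1, x2] <;> grind
  simpa [pow_succ, Algebra.algebraMap_eq_smul_one, add_smul, add_mul, map_add, add_assoc] using key

theorem pow_eq_one [Fintype F] (hF : Fintype.card F = 4) (x : aff F) :
    x ^ 4 = 1 ∨ x ^ 3 = 1 ∨ x ^ 5 = 1 := by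
  have h4 : ∀ t : F, t ^ 4 = t := fun t => by rw [← hF]; exact FiniteField.pow_card t
  have h2 : (2 : F) = 0 := by
    have : ((Fintype.card F : ℕ) : F) = 0 := FiniteField.cast_card_eq_zero F
    rw [hF] at this
    have h22 : (2 : F) * 2 = 0 := by rw [← this]; norm_num
    exact mul_self_eq_zero.mp h22
  set M := (x.1 : Matrix (Fin 3) (Fin 3) F) with hM
  set a := M 0 0 + M 1 1 + 1 with ha
  have hP := char_poly h2 x ha
  have lift : ∀ n : ℕ, aeval M (X ^ n + 1 : F[X]) = 0 → x ^ n = 1 := by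
    intro n hn
    apply Subtype.ext
    apply Subtype.ext
    simp only [SubmonoidClass.coe_pow, Matrix.SpecialLinearGroup.coe_pow, OneMemClass.coe_one,
      Matrix.SpecialLinearGroup.coe_one]
    simp only [map_add, map_pow, aeval_X, map_one] at hn
    rw [← hM]
    ext i j
    have h := congrFun (congrFun hn i) j
    simp only [Matrix.add_apply, Matrix.zero_apply] at h
    linear_combination h - (1 : Matrix (Fin 3) (Fin 3) F) i j * h2
  have key : ∀ Q R : F[X], (X ^ 3 + C a * X ^ 2 + C a * X + 1) * Q = R → aeval M R = 0 :=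
    fun Q R h => by rw [← h, map_mul, hP, zero_mul]
  have hC : (C (2 : F) : F[X]) = 0 := by rw [h2, map_zero]
  rw [C_ofNat] at hC
  rcases eq_or_ne a 0 with a0 | a0
  · exact Or.inr (Or.inl (lift 3 (key 1 _ (by simp [a0]))))
  rcases eq_or_ne a 1 with a1 | a1
  · exact Or.inl (lift 4 (key (X + 1) _ (by rw [a1]; simp only [map_one]; linear_combination (X ^ 3 + X ^ 2 + X) * hC)))
  · have hq : a ^ 2 + a + 1 = 0 := by
      have e : a * (a - 1) * (a ^ 2 + a + 1) = 0 := by linear_combination h4 a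
      rcases mul_eq_zero.mp e with e | e
      · rcases mul_eq_zero.mp e with e | e
        · exact absurd e a0
        · exact absurd (sub_eq_zero.mp e) a1
      · exact e
    have hq' : (C a : F[X]) ^ 2 + C a + 1 = 0 := by
      rw [← map_pow, ← map_add, ← map_one C, ← map_add, hq, map_zero]
    refine Or.inr (Or.inr (lift 5 (key (X ^ 2 + C a * X + 1) _ ?_)))
    linear_combination (X ^ 3 + X ^ 2) * hq' + (C a * X ^ 4 + C a * X) * hC

theorem two_eq_zero [Fintype F] (hF : Fintype.card F = 4) : (2 : F) = 0 := by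
  have : ((Fintype.card F : ℕ) : F) = 0 := FiniteField.cast_card_eq_zero F
  rw [hF] at this
  have h22 : (2 : F) * 2 = 0 := by rw [← this]; norm_num
  exact mul_self_eq_zero.mp h22

/-- An element of the group from its matrix. -/
def mk' (A : Matrix (Fin 3) (Fin 3) F) (hd : A.det = 1) (h : A 2 0 = 0 ∧ A 2 1 = 0 ∧ A 2 2 = 1) : aff F :=
  ⟨⟨A, hd⟩, h⟩

theorem mk'_pow_eq_one (A : Matrix (Fin 3) (Fin 3) F) (hd h) (n : ℕ) :
    mk' A hd h ^ n = 1 ↔ A ^ n = 1 := by
  have hc : ((mk' A hd h ^ n : aff F).1 : Matrix (Fin 3) (Fin 3) F) = A ^ n := by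
    rw [SubmonoidClass.coe_pow, Matrix.SpecialLinearGroup.coe_pow]; rfl
  rw [← hc]
  constructor
  · intro e
    rw [e]; rfl
  · intro e
    exact Subtype.ext (Subtype.ext e)

theorem range_orderOf [Fintype F] (hF : Fintype.card F = 4) :
    Set.range (orderOf : aff F → ℕ) = Set.range (orderOf : alternatingGroup (Fin 6) → ℕ) := by
  rw [Cfsg.Lib.Known.AltSpec.range_alt 6 [1, 2, 3, 4, 5] (by decide) (by decide)]
  ext m
  simp only [Set.mem_range, Set.mem_setOf_eq, List.mem_cons, List.not_mem_nil, or_false]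
  have h2 := two_eq_zero hF
  constructor
  · rintro ⟨x, rfl⟩
    rcases pow_eq_one hF x with h | h | h
    · have := Nat.le_of_dvd (by norm_num) (orderOf_dvd_of_pow_eq_one h)
      have := orderOf_dvd_of_pow_eq_one h
      interval_cases hm : orderOf x <;> simp_all (config := { decide := true })
    · rcases (Nat.dvd_prime Nat.prime_three).mp (orderOf_dvd_of_pow_eq_one h) with e | e <;> simp [e]
    · rcases (Nat.dvd_prime Nat.prime_five).mp (orderOf_dvd_of_pow_eq_one h) with e | e <;> simp [e]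
  · rintro (rfl | rfl | rfl | rfl | rfl)
    · exact ⟨1, orderOf_one⟩
    · haveI := Fact.mk Nat.prime_two
      refine ⟨mk' !![1, 1, 0; 0, 1, 0; 0, 0, 1] (by simp [Matrix.det_fin_three]) (by simp), orderOf_eq_prime ?_ ?_⟩
      · rw [mk'_pow_eq_one]
        ext i j; fin_cases i <;> fin_cases j <;> simp [pow_two, Matrix.mul_apply, Fin.sum_univ_three] <;> grind
      · intro e
        have := congrArg (fun y : aff F => (y.1 : Matrix (Fin 3) (Fin 3) F) 0 1) e
        simp [mk'] at this
    · haveI := Fact.mk Nat.prime_three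
      refine ⟨mk' !![0, 1, 0; 1, 1, 0; 0, 0, 1] (by simp [Matrix.det_fin_three]; grind) (by simp), orderOf_eq_prime ?_ ?_⟩
      · rw [mk'_pow_eq_one]
        ext i j; fin_cases i <;> fin_cases j <;> simp [pow_succ, Matrix.mul_apply, Fin.sum_univ_three] <;> grind
      · intro e
        have := congrArg (fun y : aff F => (y.1 : Matrix (Fin 3) (Fin 3) F) 0 1) e
        simp [mk'] at this
    · refine ⟨mk' !![1, 1, 0; 0, 1, 1; 0, 0, 1] (by simp [Matrix.det_fin_three]) (by simp), ?_⟩
      refine orderOf_eq_prime_pow (p := 2) (n := 1) ?_ ?_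
      · rw [mk'_pow_eq_one]
        intro e
        have := congrFun (congrFun e 0) 2
        simp [pow_two, Matrix.mul_apply, Fin.sum_univ_three] at this
      · rw [mk'_pow_eq_one]
        ext i j; fin_cases i <;> fin_cases j <;> simp [pow_succ, Matrix.mul_apply, Fin.sum_univ_three] <;> grind
    · haveI := Fact.mk Nat.prime_five
      classical
      obtain ⟨t, t0, t1⟩ : ∃ t : F, t ≠ 0 ∧ t ≠ 1 := by
        by_contra hc
        push Not at hc
        have : Finset.univ ⊆ ({0, 1} : Finset F) := fun t _ => by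
          by_cases t = 0 <;> simp_all
        have := (Finset.card_le_card this).trans Finset.card_le_two
        simp [hF] at this
      have ht : t ^ 2 + t + 1 = 0 := by
        have h4 : t ^ 4 = t := by rw [← hF]; exact FiniteField.pow_card t
        have e : t * (t - 1) * (t ^ 2 + t + 1) = 0 := by linear_combination h4
        rcases mul_eq_zero.mp e with e | e
        · rcases mul_eq_zero.mp e with e | e
          · exact absurd e t0
          · exact absurd (sub_eq_zero.mp e) t1
        · exact e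
      refine ⟨mk' !![0, 1, 0; 1, t, 0; 0, 0, 1] (by simp [Matrix.det_fin_three]; grind) (by simp), orderOf_eq_prime ?_ ?_⟩
      · rw [mk'_pow_eq_one]
        ext i j; fin_cases i <;> fin_cases j <;> simp [pow_succ, Matrix.mul_apply, Fin.sum_univ_three] <;> grind
      · intro e
        have := congrArg (fun y : aff F => (y.1 : Matrix (Fin 3) (Fin 3) F) 0 1) e
        simp [mk'] at this

end Cfsg.Lib.AffineFour
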