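import Mathlib.GroupTheory.Perm.Cycle.Type
import Mathlib.Tactic

/-!
A criterion for an automorphism group to be a 2-group.
-/

namespace Cfsg.Lib.AutFixed

variable {T : Type*} [Group T] [Finite T]

theorem exists_fixed_mem (φ : MulAut T) {r : ℕ} [hr : Fact r.Prime] (hr2 : r ≠ 2) (hord : φ ^ r = 1) (P : T → Prop)
    (hP : ∀ x, P x → P (φ x)) {k : ℕ} (hk : Nat.card {x // P x} = 2 ^ k) : ∃ x, P x ∧ φ x = x := by
  classical
  haveI := Fintype.ofFinite T
  let f : Function.End {x // P x} := fun x => ⟨φ x.1, hP x.1 x.2⟩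
  have hit : ∀ (i : ℕ) (x : {x // P x}), ((f^[i] x : {x // P x}) : T) = (φ ^ i) x.1 := by
    intro i
    induction i with
    | zero => intro x; rfl
    | succ i ih => intro x; rw [Function.iterate_succ_apply', pow_succ', MulAut.mul_apply, ← ih x]
  have hfr : f^[r ^ 1] = id := funext fun x => Subtype.ext (by rw [hit, pow_one, hord]; rfl)
  have hmod := Equiv.Perm.card_fixedPoints_modEq (p := r) (n := 1) hfr
  rw [← Nat.card_eq_fintype_card, hk] at hmod
  by_contra hno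
  push Not at hno
  haveI : IsEmpty (Function.fixedPoints f) := ⟨fun x => hno x.1.1 x.1.2 (congrArg Subtype.val x.2)⟩
  rw [Fintype.card_eq_zero] at hmod
  exact hr2 ((Nat.prime_dvd_prime_iff_eq hr.out Nat.prime_two).mp (hr.out.dvd_of_dvd_pow (Nat.modEq_zero_iff_dvd.mp hmod)))

theorem isPGroup_two (h : ∀ φ : MulAut T, ∀ r : ℕ, r.Prime → r ≠ 2 → φ ^ r = 1 → φ = 1) : IsPGroup 2 (MulAut T) := by
  haveI : Finite (MulAut T) := Finite.of_injective (fun f => (f : T → T)) fun a b e => MulEquiv.ext (congrFun e)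
  refine IsPGroup.iff_card.mpr ⟨(Nat.card (MulAut T)).primeFactorsList.length, ?_⟩
  by_contra hne
  obtain ⟨r, hr, hrd, hr2⟩ : ∃ r, r.Prime ∧ r ∣ Nat.card (MulAut T) ∧ r ≠ 2 := by
    by_contra hno
    push Not at hno
    exact hne (Nat.eq_prime_pow_of_unique_prime_dvd Nat.card_pos.ne' fun hd hdd => hno _ hd hdd)
  haveI := Fact.mk hr
  obtain ⟨φ, hφ⟩ := exists_prime_orderOf_dvd_card' r hrd
  have := h φ r hr hr2 (hφ ▸ pow_orderOf_eq_one φ)
  rw [this, orderOf_one] at hφ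
  exact hr.ne_one hφ.symm

theorem two_mul_card_le {G : Type*} [Group G] [Finite G] {H K : Subgroup G} (h : H ≤ K) (hne : ∃ x ∈ K, x ∉ H) :
    2 * Nat.card H ≤ Nat.card K := by
  obtain ⟨x, hxK, hxH⟩ := hne
  obtain ⟨c, hc⟩ := Subgroup.card_dvd_of_le h
  rcases (show c = 0 ∨ c = 1 ∨ 2 ≤ c by omega) with rfl | rfl | hc2
  · rw [mul_zero] at hc; exact absurd hc Nat.card_pos.ne'
  · exact absurd (Subgroup.eq_of_le_of_card_ge h (by rw [hc, mul_one]) ▸ hxK) hxH
  · rw [hc, mul_comm]; exact Nat.mul_le_mul_left _ hc2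

end Cfsg.Lib.AutFixed
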