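import Mathlib

/-!
When every permutation of prime order fixes a partition into `b` parts of size `a`.
-/

namespace Cfsg.Lib.EquiPart

open Finset

/-- The reachable numbers of cycles. -/
def Reach (a b r k : ℕ) : Prop := ∃ m, m * r ≤ b ∧ m * a ≤ k ∧ k ≤ m * a + (b - m * r) * (a / r)

/-- One step inside consecutive blocks of length `r`, below `L * r`. -/
def cyc (r L x : ℕ) : ℕ := if x < L * r then x / r * r + (x % r + 1) % r else x

theorem cyc_iterate {r : ℕ} (hr : 0 < r) (L x t : ℕ) :
    (cyc r L)^[t] x = if x < L * r then x / r * r + (x % r + t) % r else x := by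
  induction t with
  | zero =>
    split_ifs with h
    · simp [Nat.div_add_mod']
    · rfl
  | succ t ih =>
    rw [Function.iterate_succ_apply', ih]
    split_ifs with h
    · have hq : x / r < L := Nat.div_lt_iff_lt_mul hr |>.mpr h
      have hm := Nat.mod_lt (x % r + t) hr
      have hlt : x / r * r + (x % r + t) % r < L * r := by
        calc x / r * r + (x % r + t) % r < x / r * r + r := by omega
          _ = (x / r + 1) * r := by ring
          _ ≤ L * r := Nat.mul_le_mul_right r hq
      rw [cyc, if_pos hlt, add_comm (x / r * r), Nat.add_mul_div_right _ _ hr, Nat.div_eq_of_lt hm, zero_add,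
        Nat.add_mul_mod_self_right, Nat.mod_mod, Nat.mod_add_mod, add_assoc, add_comm]
    · rw [cyc, if_neg h]

theorem cyc_lt {r L n x : ℕ} (hr : 0 < r) (hL : L * r ≤ n) (hx : x < n) : cyc r L x < n := by
  unfold cyc
  split_ifs with h
  · have hq : x / r < L := Nat.div_lt_iff_lt_mul hr |>.mpr h
    have hm := Nat.mod_lt (x % r + 1) hr
    calc x / r * r + (x % r + 1) % r < x / r * r + r := by omega
      _ = (x / r + 1) * r := by ring
      _ ≤ L * r := Nat.mul_le_mul_right r hq
      _ ≤ n := hL
  · exact hx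

theorem cyc_ne {r L x : ℕ} (hr : 2 ≤ r) (hx : x < L * r) : cyc r L x ≠ x := by
  rw [cyc, if_pos hx]
  intro h
  have h1 : x / r * r + (x % r + 1) % r = x / r * r + x % r := h.trans (Nat.div_add_mod' x r).symm
  have h2 := Nat.add_left_cancel h1
  rcases Nat.lt_or_ge (x % r + 1) r with h3 | h3
  · rw [Nat.mod_eq_of_lt h3] at h2; omega
  · have := Nat.mod_lt x (by omega : 0 < r)
    have h4 : x % r + 1 = r := by omega
    rw [h4, Nat.mod_self] at h2; omega

theorem cyc_pow_self {r : ℕ} (hr : 0 < r) (L x : ℕ) : (cyc r L)^[r] x = x := by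
  rw [cyc_iterate hr]
  split_ifs with h
  · rw [Nat.add_mod_right, Nat.mod_mod, Nat.div_add_mod']
  · rfl

/-- Greedy filling. -/
def fill (A d i : ℕ) : ℕ := min A (d - A * i)

theorem sum_fill (A d N : ℕ) : ∑ i ∈ range N, fill A d i = min d (N * A) := by
  induction N with
  | zero => simp
  | succ N ih =>
    rw [sum_range_succ, ih, fill, Nat.succ_mul, mul_comm A N]
    omega

variable {X : Type*} [Fintype X] [DecidableEq X] {r : ℕ}

theorem dvd_card_support (hr : r.Prime) {σ : Equiv.Perm X} (hσ : σ ^ r = 1) : r ∣ σ.support.card := by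
  by_cases h1 : σ = 1
  · simp [h1]
  have := Fact.mk hr
  have ho : orderOf σ = r := orderOf_eq_prime hσ h1
  obtain ⟨n, hn⟩ := Equiv.Perm.cycleType_prime_order (σ := σ) (ho ▸ hr)
  rw [← σ.sum_cycleType, hn, Multiset.sum_replicate, smul_eq_mul, ho]
  exact dvd_mul_left _ _

theorem isConj_of_card_support (hr : r.Prime) {σ τ : Equiv.Perm X} (hσ : σ ^ r = 1) (hτ : τ ^ r = 1)
    (h : σ.support.card = τ.support.card) : IsConj σ τ := by
  have := Fact.mk hr
  rcases eq_or_ne σ 1 with rfl | h1
  · have : τ = 1 := by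
      rw [← Equiv.Perm.support_eq_empty_iff, ← Finset.card_eq_zero, ← h]; simp
    rw [this]
  · have h2 : τ ≠ 1 := fun e => h1 (by
      rw [← Equiv.Perm.support_eq_empty_iff, ← Finset.card_eq_zero, h, e]; simp)
    have o1 := orderOf_eq_prime hσ h1
    have o2 := orderOf_eq_prime hτ h2
    obtain ⟨n, hn⟩ := Equiv.Perm.cycleType_prime_order (σ := σ) (o1 ▸ hr)
    obtain ⟨m, hm⟩ := Equiv.Perm.cycleType_prime_order (σ := τ) (o2 ▸ hr)
    rw [← σ.sum_cycleType, ← τ.sum_cycleType, hn, hm, o1, o2, Multiset.sum_replicate, Multiset.sum_replicate,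
      smul_eq_mul, smul_eq_mul, Nat.mul_left_inj hr.pos.ne'] at h
    rw [Equiv.Perm.isConj_iff_cycleType_eq, hn, hm, o1, o2, h]

/-- An invariant equipartition of a permutation with `k` cycles shows that `k` is reachable. -/
theorem reach_of_invariant (hr : r.Prime) {a b k : ℕ} {σ : Equiv.Perm X} (hσ : σ ^ r = 1)
    (hk : σ.support.card = k * r) (f : X → Fin b) (ha : 0 < a) (hf : ∀ j, Nat.card {x // f x = j} = a)
    (π : Equiv.Perm (Fin b)) (hπ : ∀ x, f (σ x) = π (f x)) : Reach a b r k := by
  classical
  have hfib : ∀ j, (univ.filter fun x => f x = j).card = a := fun j => by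
    rw [← hf j, Nat.card_eq_fintype_card, Fintype.card_subtype]
  have hne : ∀ j, ∃ x, f x = j := fun j => by
    obtain ⟨x, hx⟩ := Finset.card_pos.mp (hfib j ▸ ha)
    exact ⟨x, (Finset.mem_filter.mp hx).2⟩
  have hπr : π ^ r = 1 := by
    have key : ∀ t x, f ((σ ^ t) x) = (π ^ t) (f x) := by
      intro t
      induction t with
      | zero => simp
      | succ t ih => intro x; rw [pow_succ', Equiv.Perm.mul_apply, hπ, ih, pow_succ', Equiv.Perm.mul_apply]
    ext j
    obtain ⟨x, rfl⟩ := hne j
    rw [← key, hσ]; simp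
  obtain ⟨m, hm⟩ := dvd_card_support hr hπr
  set g : Fin b → ℕ := fun j => (σ.support.filter fun x => f x = j).card with hg
  have hsum : ∑ j, g j = k * r := by
    rw [← hk]; exact (Finset.card_eq_sum_card_fiberwise (fun x _ => Finset.mem_univ _)).symm
  have hmov : ∀ j ∈ π.support, g j = a := by
    intro j hj
    rw [hg]; simp only
    rw [← hfib j]
    congr 1
    ext x
    simp only [Finset.mem_filter, Finset.mem_univ, true_and, Equiv.Perm.mem_support]
    refine ⟨fun h => h.2, fun h => ⟨fun e => (Equiv.Perm.mem_support.mp hj) ?_, h⟩⟩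
    rw [← h, ← hπ, e]
  have hfix : ∀ j ∉ π.support, ∃ c, c ≤ a / r ∧ g j = r * c := by
    intro j hj
    rw [Equiv.Perm.notMem_support] at hj
    have hinv : ∀ x, f (σ x) = j ↔ f x = j := fun x => by
      rw [hπ]; exact ⟨fun h => π.injective (h.trans hj.symm), fun h => by rw [h, hj]⟩
    set τ := σ.subtypePerm (p := fun x => f x = j) hinv with hτ
    have hτr : τ ^ r = 1 := by rw [hτ, Equiv.Perm.subtypePerm_pow]; ext x; simp [hσ]
    have hc : τ.support.card = g j := by
      rw [hg]; simp only
      refine Finset.card_bij (fun x _ => x.1) ?_ ?_ ?_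
      · intro x hx
        simp only [Finset.mem_filter, Equiv.Perm.mem_support] at hx ⊢
        exact ⟨fun h => hx (Subtype.ext (by simpa [hτ] using h)), x.2⟩
      · intro x _ y _ h; exact Subtype.ext h
      · intro x hx
        simp only [Finset.mem_filter, Equiv.Perm.mem_support] at hx
        exact ⟨⟨x, hx.2⟩, Equiv.Perm.mem_support.mpr fun h => hx.1 (by simpa [hτ] using congrArg Subtype.val h), rfl⟩
    obtain ⟨c, hc'⟩ := hc ▸ dvd_card_support hr hτr
    refine ⟨c, (Nat.le_div_iff_mul_le hr.pos).mpr ?_, hc'⟩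
    rw [mul_comm, ← hc', hg]
    exact le_trans (Finset.card_le_card fun x hx => by
      simp only [Finset.mem_filter, Finset.mem_univ, true_and] at hx ⊢; exact hx.2) (hfib j).le
  rw [← Finset.sum_add_sum_compl π.support, Finset.sum_congr rfl hmov, Finset.sum_const, smul_eq_mul, hm] at hsum
  choose c hc1 hc2 using hfix
  have hex : ∃ C, C ≤ (b - m * r) * (a / r) ∧ ∑ j ∈ π.supportᶜ, g j = r * C := by
    refine ⟨∑ j ∈ π.supportᶜ, g j / r, ?_, ?_⟩
    · refine le_trans (Finset.sum_le_card_nsmul _ _ (a / r) fun j hj => ?_) ?_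
      · rw [hc2 j (Finset.mem_compl.mp hj), Nat.mul_div_cancel_left _ hr.pos]; exact hc1 j (Finset.mem_compl.mp hj)
      · rw [smul_eq_mul, Finset.card_compl, Fintype.card_fin, hm, mul_comm r m]
    · rw [Finset.mul_sum]
      exact Finset.sum_congr rfl fun j hj =>
        (Nat.mul_div_cancel' ⟨_, hc2 j (Finset.mem_compl.mp hj)⟩).symm
  obtain ⟨C, hC1, hC2⟩ := hex
  rw [hC2, show r * m * a + r * C = (m * a + C) * r by ring] at hsum
  have := Nat.eq_of_mul_eq_mul_right hr.pos hsum
  refine ⟨m, ?_, by omega, by omega⟩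
  have := π.support.card_le_univ
  rw [hm, Fintype.card_fin, mul_comm] at this
  exact this

/-- A model permutation with an invariant partition. -/
theorem exists_model (hr : r.Prime) {a b k : ℕ} (h : Reach a b r k) :
    ∃ (τ : Equiv.Perm (Fin b × Fin a)) (π : Equiv.Perm (Fin b)),
      τ ^ r = 1 ∧ τ.support.card = k * r ∧ ∀ x, (τ x).1 = π x.1 := by
  classical
  obtain ⟨m, hm, hlo, hhi⟩ := h
  set A := a / r
  set d := k - m * a with hd
  have hA : A * r ≤ a := Nat.div_mul_le_self a r
  let c : ℕ → ℕ := fun j => if j < m * r then 0 else fill A d (j - m * r)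
  have hcA : ∀ j, c j * r ≤ a := fun j => by
    refine le_trans (Nat.mul_le_mul_right r ?_) hA
    simp only [c, fill]
    split_ifs
    · exact Nat.zero_le _
    · exact min_le_left _ _
  let F : Fin b × Fin a → Fin b × Fin a := fun x =>
    (⟨cyc r m x.1, cyc_lt hr.pos hm x.1.2⟩, ⟨cyc r (c x.1) x.2, cyc_lt hr.pos (hcA _) x.2.2⟩)
  have hcc : ∀ j, c (cyc r m j) = c j := by
    intro j
    by_cases hj : j < m * r
    · simp only [c, if_pos hj, if_pos (cyc_lt hr.pos le_rfl hj)]
    · simp only [cyc, if_neg hj]
  have hiter : ∀ t x, ((F^[t] x).1 : ℕ) = (cyc r m)^[t] x.1 ∧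
      ((F^[t] x).2 : ℕ) = (cyc r (c x.1))^[t] x.2 ∧ c ((F^[t] x).1 : ℕ) = c x.1 := by
    intro t
    induction t with
    | zero => intro x; simp
    | succ t ih =>
      intro x
      obtain ⟨h1, h2, h3⟩ := ih x
      rw [Function.iterate_succ_apply', Function.iterate_succ_apply', Function.iterate_succ_apply']
      refine ⟨congrArg (cyc r m) h1, ?_, ?_⟩
      · show cyc r (c ((F^[t] x).1 : ℕ)) _ = _
        rw [h3, h2]
      · show c (cyc r m _) = _
        rw [hcc, h3]
  have hF : ∀ x, F^[r] x = x := fun x => by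
    obtain ⟨h1, h2, -⟩ := hiter r x
    rw [cyc_pow_self hr.pos] at h1 h2
    exact Prod.ext (Fin.ext h1) (Fin.ext h2)
  have hr1 : r - 1 + 1 = r := by have := hr.two_le; omega
  let τ : Equiv.Perm (Fin b × Fin a) :=
    { toFun := F
      invFun := F^[r - 1]
      left_inv := fun x => by rw [← Function.iterate_succ_apply, Nat.succ_eq_add_one, hr1, hF]
      right_inv := fun x => by rw [← Function.iterate_succ_apply' F, Nat.succ_eq_add_one, hr1, hF] }
  let G : Fin b → Fin b := fun j => ⟨cyc r m j, cyc_lt hr.pos hm j.2⟩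
  have hG : ∀ t j, ((G^[t] j : Fin b) : ℕ) = (cyc r m)^[t] j := by
    intro t
    induction t with
    | zero => intro j; rfl
    | succ t ih => intro j; rw [Function.iterate_succ_apply', Function.iterate_succ_apply']; exact congrArg (cyc r m) (ih j)
  let π : Equiv.Perm (Fin b) :=
    { toFun := G
      invFun := G^[r - 1]
      left_inv := fun j => by
        rw [← Function.iterate_succ_apply, Nat.succ_eq_add_one, hr1]
        exact Fin.ext (by rw [hG, cyc_pow_self hr.pos])
      right_inv := fun j => by
        rw [← Function.iterate_succ_apply' G, Nat.succ_eq_add_one, hr1]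
        exact Fin.ext (by rw [hG, cyc_pow_self hr.pos]) }
  refine ⟨τ, π, ?_, ?_, fun x => rfl⟩
  · ext1 x
    rw [Equiv.Perm.coe_pow]
    exact hF x
  · have hsupp : ∀ j : Fin b, ∀ i : Fin a, (j, i) ∈ τ.support ↔ ((j : ℕ) < m * r ∨ (i : ℕ) < c j * r) := by
      intro j i
      rw [Equiv.Perm.mem_support]
      show F (j, i) ≠ (j, i) ↔ _
      constructor
      · intro h
        by_contra hc
        push Not at hc
        refine h (Prod.ext (Fin.ext ?_) (Fin.ext ?_))
        · show cyc r m j = j
          rw [cyc, if_neg (by omega)]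
        · show cyc r (c j) i = i
          rw [cyc, if_neg (by omega)]
      · rintro (h | h) e
        · exact cyc_ne hr.two_le h (congrArg (fun p : Fin b × Fin a => (p.1 : ℕ)) e)
        · exact cyc_ne hr.two_le h (congrArg (fun p : Fin b × Fin a => (p.2 : ℕ)) e)
    have hrow : ∀ j : Fin b, (τ.support.filter fun x => x.1 = j).card = if (j : ℕ) < m * r then a else c j * r := by
      intro j
      have : (τ.support.filter fun x => x.1 = j).card =
          (Finset.univ.filter fun i : Fin a => (j : ℕ) < m * r ∨ (i : ℕ) < c j * r).card := by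
        refine Finset.card_bij (fun x _ => x.2) ?_ ?_ ?_
        · rintro ⟨u, i⟩ hx
          simp only [Finset.mem_filter] at hx ⊢
          obtain ⟨hx, rfl⟩ := hx
          exact ⟨Finset.mem_univ _, (hsupp u i).mp hx⟩
        · rintro ⟨u, i⟩ hx ⟨u', i'⟩ hx' e
          simp only [Finset.mem_filter] at hx hx'
          exact Prod.ext (hx.2.trans hx'.2.symm) e
        · intro i hi
          simp only [Finset.mem_filter, Finset.mem_univ, true_and] at hi
          exact ⟨(j, i), Finset.mem_filter.mpr ⟨(hsupp j i).mpr hi, rfl⟩, rfl⟩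
      rw [this]
      split_ifs with h
      · simp [h]
      · simp only [h, false_or, Fin.card_filter_val_lt, min_eq_right (hcA _)]
    rw [Finset.card_eq_sum_card_fiberwise (f := Prod.fst) (t := univ) (fun x _ => Finset.mem_univ _)]
    simp only [hrow]
    rw [Fin.sum_univ_eq_sum_range (fun j => if j < m * r then a else c j * r),
      ← Finset.sum_range_add_sum_Ico _ hm, Finset.sum_congr rfl (g := fun _ => a) (fun j hj => if_pos (Finset.mem_range.mp hj)),
      Finset.sum_const, Finset.card_range, smul_eq_mul, Finset.sum_Ico_eq_sum_range,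
      Finset.sum_congr rfl (g := fun i => fill A d i * r) (fun i _ => by
        simp only [c, if_neg (show ¬ (m * r + i < m * r) by omega), Nat.add_sub_cancel_left]),
      ← Finset.sum_mul, sum_fill, min_eq_left (show d ≤ (b - m * r) * A by omega)]
    rw [show m * r * a = m * a * r by ring, ← add_mul, hd, Nat.add_sub_cancel' hlo]

/-- The existence of an invariant equipartition depends only on the number of cycles. -/
theorem exists_invariant (hr : r.Prime) {a b k : ℕ} (h : Reach a b r k) (hX : Fintype.card X = a * b)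
    {σ : Equiv.Perm X} (hσ : σ ^ r = 1) (hk : σ.support.card = k * r) :
    ∃ f : X → Fin b, (∀ j, Nat.card {x // f x = j} = a) ∧ ∃ π : Equiv.Perm (Fin b), ∀ x, f (σ x) = π (f x) := by
  classical
  obtain ⟨τ, π, hτ, hτk, hπ⟩ := exists_model hr h
  let e : Fin b × Fin a ≃ X := Fintype.equivOfCardEq (by simp [hX, mul_comm])
  set τ' := e.permCongr τ with hτ'
  have h1 : τ' ^ r = 1 := by
    show (e.permCongrHom τ) ^ r = 1
    rw [← map_pow, hτ, map_one]
  have h2 : τ'.support.card = τ.support.card := by
    refine (Finset.card_bij (fun x _ => e x) ?_ (fun x _ y _ h => e.injective h) ?_).symm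
    · intro x hx; simpa [hτ'] using hx
    · intro y hy
      exact ⟨e.symm y, by simpa [hτ', ← Equiv.eq_symm_apply] using hy, e.apply_symm_apply y⟩
  obtain ⟨g, hg⟩ := isConj_iff.mp (isConj_of_card_support hr h1 hσ (by rw [h2, hτk, hk]))
  refine ⟨fun x => (e.symm (g.symm x)).1, fun j => ?_, π, fun x => ?_⟩
  · have : {x // (e.symm (g.symm x)).1 = j} ≃ Fin a :=
      { toFun := fun x => (e.symm (g.symm x.1)).2
        invFun := fun i => ⟨g (e (j, i)), by simp⟩
        left_inv := fun ⟨x, hx⟩ => Subtype.ext (by
          show g (e (j, _)) = x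
          rw [show (j, (e.symm (g.symm x)).2) = e.symm (g.symm x) from Prod.ext hx.symm rfl]
          simp)
        right_inv := fun i => by simp }
    rw [Nat.card_congr this, Nat.card_fin]
  · rw [← hg, ← hπ]
    simp [hτ']

omit [Fintype X] [DecidableEq X] in
/-- The arithmetic of the reachable numbers. -/
theorem forall_reach_iff {a b : ℕ} (ha : 2 ≤ a) (hb : 2 ≤ b) (hr : 2 ≤ r) (hra : r ≤ a * b) :
    (∀ k, 1 ≤ k → k * r ≤ a * b → Reach a b r k) ↔
      (r ≤ a ∧ (a % r = 0 ∨ (b % r = 0 ∧ a % r = 1) ∨
        (a % r ≠ 0 ∧ b % r ≠ 0 ∧ (b % r) * (a % r) < r ∧ (b < r ∨ (b % r + r) * (a % r) ≤ (b % r) * a + r)))) := by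
  set A := a / r with hA
  set α := a % r with hα
  set B := b / r with hB
  set β := b % r with hβ
  have ea : a = r * A + α := (Nat.div_add_mod a r).symm
  have eb : b = r * B + β := (Nat.div_add_mod b r).symm
  have hαr : α < r := Nat.mod_lt _ (by omega)
  have hβr : β < r := Nat.mod_lt _ (by omega)
  have hmB : ∀ m, m * r ≤ b ↔ m ≤ B := fun m => by rw [hB, Nat.le_div_iff_mul_le (by omega)]
  have hend : ∀ m, m ≤ B → m * a + (b - m * r) * A = b * A + m * α := by
    intro m hm
    obtain ⟨n, hn⟩ : ∃ n, b = m * r + n := ⟨b - m * r, by have := (hmB m).mpr hm; omega⟩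
    rw [hn, Nat.add_sub_cancel_left, ea]; ring
  have hK : ∀ k, k * r ≤ a * b → β * α < r → k ≤ b * A + B * α := by
    intro k hk h
    have e : a * b = (b * A + B * α) * r + β * α := by rw [ea, eb]; ring
    by_contra hc
    have : (b * A + B * α + 1) * r ≤ k * r := Nat.mul_le_mul_right r (by omega)
    rw [add_mul, one_mul] at this
    omega
  have hgap : ∀ m, m + 1 ≤ B → (β + r) * A ≤ (b - m * r) * A := by
    intro m hm
    refine Nat.mul_le_mul_right A ?_
    have : (m + 1) * r ≤ B * r := Nat.mul_le_mul_right r hm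
    rw [add_mul, one_mul, mul_comm B r] at this
    omega
  constructor
  · intro h
    have hra' : r ≤ a := by
      by_contra hc
      obtain ⟨m, -, h1, h2⟩ := h 1 le_rfl (by simpa using hra)
      rw [Nat.div_eq_of_lt (not_le.mp hc), mul_zero, add_zero] at h2
      rcases Nat.eq_zero_or_pos m with rfl | hm
      · simp at h2
      · have := Nat.le_mul_of_pos_left a hm; omega
    refine ⟨hra', ?_⟩
    by_cases hα0 : α = 0
    · exact Or.inl hα0
    have htop : β * α < r := by
      by_contra hc
      have e : a * b = (b * A + B * α) * r + β * α := by rw [ea, eb]; ring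
      obtain ⟨m, hm, -, h2⟩ := h (b * A + B * α + 1) (by omega) (by rw [add_mul, one_mul]; omega)
      rw [hend m ((hmB m).mp hm)] at h2
      have := Nat.mul_le_mul_right α ((hmB m).mp hm)
      omega
    have hgap' : 1 ≤ B → a ≤ (β + r) * A + 1 := by
      intro hB1
      by_contra hc
      obtain ⟨n, hn⟩ : ∃ n, B = n + 1 := ⟨B - 1, by omega⟩
      have hbn : b - n * r = β + r := by
        have : b = n * r + (β + r) := by rw [eb, hn]; ring
        omega
      have hAb : (β + r) * A + 1 < a := by omega
      obtain ⟨m, hm, h1, h2⟩ := h (n * a + (β + r) * A + 1) (by omega) (by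
        have e : a * b = n * a * r + (β + r) * (A * r) + (β + r) * α := by rw [ea, eb, hn]; ring
        have : r ≤ (β + r) * α := le_trans (by omega) (Nat.le_mul_of_pos_right _ (Nat.pos_of_ne_zero hα0))
        rw [e, add_mul, add_mul, one_mul, mul_assoc (β + r)]
        omega)
      rw [hend m ((hmB m).mp hm)] at h2
      have h3 : n * a + (β + r) * A = b * A + n * α := by
        rw [← hbn]; exact hend n (by omega)
      rcases Nat.lt_or_ge n m with hlt | hge
      · have := Nat.mul_le_mul_right a hlt
        rw [Nat.succ_mul] at this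
        omega
      · have := Nat.mul_le_mul_right α hge
        omega
    by_cases hβ0 : β = 0
    · have hB1 : 1 ≤ B := by
        rcases Nat.eq_zero_or_pos B with h0 | h0
        · rw [h0, hβ0] at eb; simp at eb; omega
        · exact h0
      have := hgap' hB1
      rw [hβ0, zero_add] at this
      exact Or.inr (Or.inl ⟨hβ0, by omega⟩)
    refine Or.inr (Or.inr ⟨hα0, hβ0, htop, ?_⟩)
    by_cases hbr : b < r
    · exact Or.inl hbr
    right
    have h1 := Nat.mul_le_mul_left r (hgap' (Nat.div_pos (by omega) (by omega)))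
    rw [ea] at h1 ⊢
    nlinarith
  · rintro ⟨hra', hcond⟩
    have htop : β * α < r := by
      rcases hcond with h | ⟨h, -⟩ | ⟨-, -, h, -⟩
      · rw [h, mul_zero]; omega
      · rw [h, zero_mul]; omega
      · exact h
    have hstep : ∀ m, m + 1 ≤ B → a ≤ (β + r) * A + 1 := by
      intro m hm
      rcases hcond with h | ⟨-, h⟩ | ⟨-, -, -, h⟩
      · rw [ea, h, add_zero]
        exact le_trans (Nat.mul_le_mul_right A (by omega)) (Nat.le_succ _)
      · rw [ea, h]
        exact Nat.add_le_add_right (Nat.mul_le_mul_right A (by omega)) 1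
      · have hbr : ¬ b < r := by
          intro hlt
          rw [hB, Nat.div_eq_of_lt hlt] at hm; omega
        have h' := h.resolve_left hbr
        have hmul : r * a ≤ r * ((β + r) * A + 1) := by
          rw [ea] at h' ⊢
          nlinarith
        exact Nat.le_of_mul_le_mul_left hmul (by omega)
    intro k hk1 hk
    have hcover : ∀ M, M ≤ B → k ≤ b * A + M * α → ∃ m, m * r ≤ b ∧ m * a ≤ k ∧ k ≤ m * a + (b - m * r) * A := by
      intro M
      induction M with
      | zero => intro _ hk; exact ⟨0, by simp, by simp, by simpa using hk⟩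
      | succ M ih =>
        intro hM hk
        rcases Nat.lt_or_ge k ((M + 1) * a) with hlt | hge
        · refine ih (by omega) ?_
          rw [← hend M (by omega)]
          have := hgap M hM
          have := hstep M hM
          rw [Nat.succ_mul] at hlt
          omega
        · exact ⟨M + 1, (hmB _).mpr hM, hge, by rw [hend _ hM]; exact hk⟩
    exact hcover B le_rfl (hK k hk htop)

theorem main {a b : ℕ} (ha : 2 ≤ a) (hb : 2 ≤ b) (hr : r.Prime)
    (hrd : r ∣ (a * b).factorial / (a.factorial ^ b * b.factorial)) :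
    (∀ σ : Equiv.Perm (Fin (a * b)), orderOf σ = r →
        ∃ f : Fin (a * b) → Fin b, (∀ j : Fin b, Nat.card {x : Fin (a * b) // f x = j} = a) ∧
          ∃ π : Equiv.Perm (Fin b), ∀ x : Fin (a * b), f (σ x) = π (f x)) ↔
      (r ≤ a ∧ (a % r = 0 ∨ (b % r = 0 ∧ a % r = 1) ∨
        (a % r ≠ 0 ∧ b % r ≠ 0 ∧ (b % r) * (a % r) < r ∧ (b < r ∨ (b % r + r) * (a % r) ≤ (b % r) * a + r)))) := by
  have hdiv : a.factorial ^ b * b.factorial ∣ (a * b).factorial := by
    refine ⟨Nat.uniformBell b a, ?_⟩
    rw [mul_comm a b, ← Nat.uniformBell_mul_eq b (by omega : a ≠ 0)]; ring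
  have hrab : r ≤ a * b := (hr.dvd_factorial).mp (hrd.trans (Nat.div_dvd_of_dvd hdiv))
  rw [← forall_reach_iff (r := r) ha hb hr.two_le hrab]
  constructor
  · intro h k hk1 hk
    let σ : Equiv.Perm (Fin (a * b)) :=
      { toFun := fun x => ⟨cyc r k x, cyc_lt hr.pos hk x.2⟩
        invFun := fun x => ⟨(cyc r k)^[r - 1] x, by
          have : ∀ t (y : ℕ), y < a * b → (cyc r k)^[t] y < a * b := by
            intro t
            induction t with
            | zero => intro y hy; exact hy
            | succ t ih => intro y hy; rw [Function.iterate_succ_apply']; exact cyc_lt hr.pos hk (ih y hy)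
          exact this _ _ x.2⟩
        left_inv := fun x => Fin.ext (by
          show (cyc r k)^[r - 1] (cyc r k x) = x
          rw [← Function.iterate_succ_apply, Nat.succ_eq_add_one, Nat.sub_add_cancel hr.pos, cyc_pow_self hr.pos])
        right_inv := fun x => Fin.ext (by
          show cyc r k ((cyc r k)^[r - 1] x) = x
          rw [← Function.iterate_succ_apply' (cyc r k), Nat.succ_eq_add_one, Nat.sub_add_cancel hr.pos, cyc_pow_self hr.pos]) }
    have hval : ∀ t (x : Fin (a * b)), (((σ ^ t) x : Fin (a * b)) : ℕ) = (cyc r k)^[t] x := by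
      intro t
      induction t with
      | zero => intro x; simp
      | succ t ih => intro x; rw [pow_succ', Equiv.Perm.mul_apply, Function.iterate_succ_apply', ← ih]; rfl
    have hpow : σ ^ r = 1 := Equiv.ext fun x => Fin.ext (by rw [hval, cyc_pow_self hr.pos]; rfl)
    have hsupp : σ.support.card = k * r := by
      have : σ.support = Finset.univ.filter fun x : Fin (a * b) => (x : ℕ) < k * r := by
        ext x
        simp only [Equiv.Perm.mem_support, Finset.mem_filter, Finset.mem_univ, true_and]
        constructor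
        · intro h
          by_contra hc
          exact h (Fin.ext (show cyc r k x = x by rw [cyc, if_neg hc]))
        · intro h e
          exact cyc_ne hr.two_le h (congrArg Fin.val e)
      rw [this, Fin.card_filter_val_lt, min_eq_right hk]
    have hσ1 : σ ≠ 1 := by
      intro e
      rw [e] at hsupp
      simp at hsupp
      rcases hsupp with h | h
      · omega
      · exact hr.ne_zero h
    have := Fact.mk hr
    obtain ⟨f, hf, π, hπ⟩ := h σ (orderOf_eq_prime hpow hσ1)
    exact reach_of_invariant hr hpow hsupp f (by omega) hf π hπ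
  · intro h σ hσ
    have hpow : σ ^ r = 1 := hσ ▸ pow_orderOf_eq_one σ
    obtain ⟨k, hk'⟩ := dvd_card_support hr hpow
    have hk : σ.support.card = k * r := hk'.trans (mul_comm r k)
    clear hk'
    have hk1 : 1 ≤ k := by
      rcases Nat.eq_zero_or_pos k with rfl | hp
      · rw [zero_mul, Finset.card_eq_zero, Equiv.Perm.support_eq_empty_iff] at hk
        rw [hk, orderOf_one] at hσ
        exact absurd hσ.symm hr.one_lt.ne'
      · exact hp
    have hle : k * r ≤ a * b := by rw [← hk]; exact (Finset.card_le_univ _).trans (Fintype.card_fin _).le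
    exact exists_invariant hr (h k hk1 hle) (Fintype.card_fin _) hpow hk

end Cfsg.Lib.EquiPart
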