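import Mathlib.GroupTheory.GroupAction.Primitive
import Mathlib.GroupTheory.GroupAction.Jordan
import Mathlib.GroupTheory.GroupAction.Quotient
import Mathlib.Tactic

/-!
Primitive groups whose point stabilizers act primitively on each of their orbits.
-/

namespace Cfsg.Lib.ExtremelyPrimitive

open MulAction Subgroup
open scoped Pointwise

variable {G Ω : Type*} [Group G] [MulAction G Ω]

/-- A normal subgroup of a group primitive on an orbit fixes it pointwise or is transitive on it. -/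
theorem orbit_eq_or_fixed {H M : Subgroup G} (hMH : M ≤ H) (hMn : H ≤ normalizer (M : Set G)) {ω : Ω}
    (hp : IsPreprimitive H (orbit H ω)) :
    (∀ x ∈ orbit H ω, ∀ m ∈ M, m • x = x) ∨ orbit M ω = orbit H ω := by
  let M' : Subgroup H := M.subgroupOf H
  haveI : M'.Normal := ⟨fun n hn h => (mem_normalizer_iff.mp (hMn h.2) n).mp hn⟩
  by_cases hfix : ∀ x ∈ orbit H ω, ∀ m ∈ M, m • x = x
  · exact Or.inl hfix
  refine Or.inr (Set.Subset.antisymm (fun x ⟨m, hm⟩ => ⟨⟨m, hMH m.2⟩, hm⟩) ?_)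
  push Not at hfix
  obtain ⟨y, hy, m, hm, hne⟩ := hfix
  rcases hp.isTrivialBlock_of_isBlock (IsBlock.orbit_of_normal (G := H) (N := M') (⟨y, hy⟩ : orbit H ω)) with ht | ht
  · exact absurd (congrArg Subtype.val (ht ⟨⟨⟨m, hMH hm⟩, hm⟩, rfl⟩ (mem_orbit_self _))) hne
  · have key : ∀ x ∈ orbit H ω, x ∈ orbit M y := fun x hx => by
      obtain ⟨k, hk⟩ := Set.eq_univ_iff_forall.mp ht ⟨x, hx⟩
      exact ⟨⟨_, k.2⟩, congrArg Subtype.val hk⟩
    intro x hx
    rw [orbit_eq_iff.mpr (key ω (mem_orbit_self ω))]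
    exact key x hx

theorem ncard_orbit_mul [Finite G] (K : Subgroup G) (x : Ω) :
    (orbit K x).ncard * Nat.card ↥(K ⊓ stabilizer G x) = Nat.card K := by
  have h := Nat.card_congr (orbitProdStabilizerEquivGroup K x)
  rw [Nat.card_prod, Nat.card_coe_set_eq] at h
  rw [← h]
  congr 1
  exact Nat.card_congr
    ⟨fun a => ⟨⟨a.1, a.2.1⟩, a.2.2⟩, fun a => ⟨a.1.1, a.1.2, a.2⟩, fun _ => rfl, fun _ => rfl⟩

theorem card_stabilizer_eq [Finite G] [IsPretransitive G Ω] (a b : Ω) :
    Nat.card (stabilizer G a) = Nat.card (stabilizer G b) := by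
  obtain ⟨g, rfl⟩ := exists_smul_eq G a b
  exact Nat.card_congr (stabilizerEquivStabilizer (g := g) rfl).toEquiv

/-- A point stabilizer is faithful on each of its orbits other than the fixed point. -/
theorem faithful_suborbit [Finite G] [FaithfulSMul G Ω] (hprim : IsPreprimitive G Ω)
    (hep : ∀ α ω : Ω, IsPreprimitive (stabilizer G α) (orbit (stabilizer G α) ω))
    {α ω : Ω} (hω : ω ≠ α) {h : G} (hh : h • α = α)
    (hfix : ∀ x ∈ orbit (stabilizer G α) ω, h • x = x) : h = 1 := by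
  haveI := hprim.toIsPretransitive
  haveI : Nontrivial Ω := ⟨ω, α, hω⟩
  set H := stabilizer G α with hH
  set D := orbit H ω with hD
  have hinv : ∀ k ∈ H, k • D = D := fun k hk => smul_orbit (⟨k, hk⟩ : H) ω
  set K : Subgroup G := H ⊓ fixingSubgroup G D with hK
  have hKfix : ∀ k ∈ K, ∀ x ∈ D, k • x = x := fun k hk => (mem_fixingSubgroup_iff G).mp hk.2
  have hKconj : ∀ g ∈ H, ∀ k ∈ K, g * k * g⁻¹ ∈ K := by
    intro g hg k hk
    refine ⟨H.mul_mem (H.mul_mem hg hk.1) (inv_mem hg), (mem_fixingSubgroup_iff G).mpr fun x hx => ?_⟩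
    have hx' : g⁻¹ • x ∈ D := by
      rw [← hinv g hg] at hx
      exact Set.mem_smul_set_iff_inv_smul_mem.mp hx
    rw [mul_smul, mul_smul, hKfix k hk _ hx', smul_inv_smul]
  have hKn : H ≤ normalizer (K : Set G) := fun g hg => mem_normalizer_iff.mpr fun k =>
    ⟨fun hk => hKconj g hg k hk, fun hk => by simpa [mul_assoc] using hKconj g⁻¹ (inv_mem hg) _ hk⟩
  -- the kernel fixes everything at distance two
  have step : ∀ g : G, g • α ∈ D → ∀ x ∈ g • D, ∀ k ∈ K, k • x = x := by
    intro g hg x hx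
    obtain ⟨x0, ⟨h0, rfl⟩, rfl⟩ := hx
    by_contra hmove
    push Not at hmove
    obtain ⟨k0, hk0, hk0ne⟩ := hmove
    set γ := g • h0 • ω with hγ
    have htrans : orbit K γ = orbit H γ :=
      (orbit_eq_or_fixed inf_le_left hKn (hep α γ)).resolve_left fun hf => hk0ne (hf γ (mem_orbit_self γ) k0 hk0)
    set a : G := g * h0 with ha
    have haα : a • α = g • α := by rw [ha, mul_smul, MulAction.mem_stabilizer_iff.mp h0.2]
    have haω : a • ω = γ := by rw [ha, mul_smul]; rfl
    set I : Set Ω := {x | ∃ b : G, b • α = x ∧ b • ω = γ} with hI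
    have hDI : D ⊆ I := by
      intro x hx
      have hgD : orbit H (g • α) = D := orbit_eq_iff.mpr hg
      rw [← hgD] at hx
      obtain ⟨⟨m, hm⟩, rfl⟩ := hx
      -- write `m` as an element fixing `γ` times an element of the kernel
      obtain ⟨⟨k, hk⟩, hkm⟩ : m⁻¹ • γ ∈ orbit K γ := htrans.symm ▸ ⟨⟨m⁻¹, inv_mem hm⟩, rfl⟩
      replace hkm : k • γ = m⁻¹ • γ := hkm
      refine ⟨m * k * a, ?_, ?_⟩
      · show (m * k * a) • α = m • g • α
        rw [mul_smul, haα, mul_smul, hKfix k hk _ hg]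
      · rw [mul_smul, haω, mul_smul, hkm, smul_inv_smul]
    have hIeq : I = a • orbit (stabilizer G ω) α := by
      ext x
      constructor
      · rintro ⟨b, hb1, hb2⟩
        exact ⟨(a⁻¹ * b) • α, ⟨⟨a⁻¹ * b, by rw [mem_stabilizer_iff, mul_smul, hb2, ← haω, inv_smul_smul]⟩, rfl⟩,
          by show a • (a⁻¹ * b) • α = x; rw [← mul_smul, mul_inv_cancel_left, hb1]⟩
      · rintro ⟨_, ⟨b, rfl⟩, rfl⟩
        exact ⟨a * b, mul_smul a (b : G) α, by rw [mul_smul, mem_stabilizer_iff.mp b.2, haω]⟩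
    have hfinI : I.Finite := (Set.finite_range fun b : G => b • α).subset fun x ⟨b, hb, _⟩ => ⟨b, hb⟩
    have hcard : I.ncard = D.ncard := by
      rw [hIeq, Set.ncard_smul_set]
      have e1 := ncard_orbit_mul H ω
      have e2 := ncard_orbit_mul (stabilizer G ω) α
      rw [inf_comm, card_stabilizer_eq ω α, ← e1] at e2
      exact Nat.eq_of_mul_eq_mul_right Nat.card_pos e2
    have hID : D = I := Set.eq_of_subset_of_ncard_le hDI hcard.le hfinI
    have hγstab : stabilizer G γ ≤ stabilizer G D := fun b hb => by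
      rw [mem_stabilizer_iff, hID]
      refine (Set.eq_of_subset_of_ncard_le ?_ (Set.ncard_smul_set b I).ge hfinI)
      rintro _ ⟨y, ⟨c, hc1, hc2⟩, rfl⟩
      exact ⟨b * c, by show (b * c) • α = b • y; rw [mul_smul, hc1], by rw [mul_smul, hc2]; exact hb⟩
    rcases ((isCoatom_stabilizer_iff_preprimitive G α).mpr hprim).le_iff.mp
      (show H ≤ stabilizer G D from fun k hk => hinv k hk) with e | e
    · obtain ⟨b, hb⟩ := exists_smul_eq G ω α
      have hbD : b • D = D := mem_stabilizer_iff.mp (e ▸ mem_top b)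
      have : α ∈ D := by rw [← hbD]; exact ⟨ω, mem_orbit_self ω, hb⟩
      obtain ⟨k, hk⟩ := this
      replace hk : (k : G) • ω = α := hk
      have := k.2
      rw [mem_stabilizer_iff] at this
      exact hω (smul_left_cancel (k : G) (hk.trans this.symm))
    · rw [e] at hγstab
      have : stabilizer G γ = H := Subgroup.eq_of_le_of_card_ge hγstab (card_stabilizer_eq α γ).le
      exact hk0ne (mem_stabilizer_iff.mp (this.symm ▸ hk0.1 : k0 ∈ stabilizer G γ))
  have hKbot : K = ⊥ := by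
    obtain ⟨g, hg⟩ := exists_smul_eq G α ω
    have hgD : g • α ∈ D := hg ▸ mem_orbit_self ω
    have hle : K ≤ K.map (MulAut.conj g).toMonoidHom := fun k hk => by
      refine ⟨g⁻¹ * k * g, ⟨?_, (mem_fixingSubgroup_iff G).mpr fun x hx => ?_⟩, by simp [mul_assoc]⟩
      · show (g⁻¹ * k * g) • α = α
        rw [mul_smul, mul_smul, hKfix k hk _ hgD, inv_smul_smul]
      · rw [mul_smul, mul_smul, step g hgD _ ⟨x, hx, rfl⟩ k hk, inv_smul_smul]
    have heq := Subgroup.eq_of_le_of_card_ge hle (le_of_eq (Nat.card_congr (equivMapOfInjective K _ (MulAut.conj g).injective).toEquiv).symm)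
    have hgN : g ∈ normalizer (K : Set G) := mem_normalizer_iff.mpr fun k => by
      refine ⟨fun hk => heq ▸ ⟨k, hk, rfl⟩, fun hk => ?_⟩
      obtain ⟨k', hk', e⟩ := heq ▸ hk
      exact ((MulAut.conj g).injective e) ▸ hk'
    have htop : normalizer (K : Set G) = ⊤ := by
      refine (((isCoatom_stabilizer_iff_preprimitive G α).mpr hprim).le_iff.mp hKn).resolve_right fun e => hω ?_
      rw [e] at hgN
      exact hg.symm.trans hgN
    refine (Subgroup.eq_bot_iff_forall _).mpr fun k hk => FaithfulSMul.eq_of_smul_eq_smul (α := Ω) fun x => ?_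
    obtain ⟨b, rfl⟩ := exists_smul_eq G α x
    have : b⁻¹ * k * b ∈ H := (by
      have := (mem_normalizer_iff.mp (htop ▸ mem_top b⁻¹) k).mp hk
      simpa using this.1)
    rw [mem_stabilizer_iff, mul_smul, mul_smul, inv_smul_eq_iff] at this
    rw [one_smul, this]
  have : h ∈ K := ⟨hh, (mem_fixingSubgroup_iff G).mpr hfix⟩
  rw [hKbot] at this
  exact mem_bot.mp this

end Cfsg.Lib.ExtremelyPrimitive
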