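import Mathlib.GroupTheory.Solvable
import Mathlib.GroupTheory.Perm.Cycle.Type
import Mathlib.Tactic

/-!
Fibre powers over a quotient by a normal subgroup of prime exponent keep the element orders.
-/

namespace Cfsg.Lib.FiberSpectrum

open Subgroup
open scoped commutatorElement

variable {G : Type*} [Group G] [Finite G]

omit [Finite G] in
/-- The fibre power. -/
def fiber (V : Subgroup G) [V.Normal] (k : ℕ) : Subgroup (Fin (k + 1) → G) where
  carrier := {f | ∀ i, QuotientGroup.mk' V (f i) = QuotientGroup.mk' V (f 0)}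
  one_mem' := fun _ => rfl
  mul_mem' := fun {f g} hf hg i => by simp only [Pi.mul_apply, map_mul, hf i, hg i]
  inv_mem' := fun {f} hf i => by simp only [Pi.inv_apply, map_inv, hf i]

theorem card_fiber_ge (V : Subgroup G) [V.Normal] (k : ℕ) : Nat.card V ^ k ≤ Nat.card (fiber V k) := by
  have h : Nat.card (Fin k → V) ≤ Nat.card (fiber V k) := by
    refine Nat.card_le_card_of_injective (fun f => ⟨Fin.cons 1 fun i => (f i : G), fun i => ?_⟩) fun f g e => ?_
    · refine Fin.cases ?_ (fun j => ?_) i
      · rfl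
      · simp only [Fin.cons_succ, Fin.cons_zero, map_one]
        exact (QuotientGroup.eq_one_iff _).mpr (f j).2
    · funext j
      have := congrFun (congrArg Subtype.val e) j.succ
      simp only [Fin.cons_succ] at this
      exact Subtype.ext this
  rwa [Nat.card_fun, Nat.card_fin] at h

theorem range_orderOf_fiber (V : Subgroup G) [V.Normal] {p : ℕ} (hp : p.Prime) (hV : ∀ v ∈ V, v ^ p = 1) (k : ℕ) :
    Set.range (orderOf : fiber V k → ℕ) = Set.range (orderOf : G → ℕ) := by
  ext n
  constructor
  · rintro ⟨⟨f, hf⟩, rfl⟩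
    set O := orderOf (QuotientGroup.mk' V (f 0))
    have hcase : ∀ i, orderOf (f i) = O ∨ orderOf (f i) = p * O := fun i => by
      have h1 : O ∣ orderOf (f i) := by
        have := orderOf_map_dvd (QuotientGroup.mk' V) (f i)
        rwa [hf i] at this
      have h2 : orderOf (f i) ∣ p * O := orderOf_dvd_of_pow_eq_one (by
        rw [mul_comm, pow_mul]
        refine hV _ ((QuotientGroup.eq_one_iff _).mp ?_)
        show QuotientGroup.mk' V (f i ^ O) = 1
        rw [map_pow, hf i, pow_orderOf_eq_one])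
      obtain ⟨c, hc⟩ := h1
      have hO : 0 < O := orderOf_pos _
      have : c ∣ p := by
        rw [hc, mul_comm p] at h2
        exact Nat.dvd_of_mul_dvd_mul_left hO h2
      rcases (Nat.dvd_prime hp).mp this with rfl | rfl
      · exact Or.inl (by rw [hc, mul_one])
      · exact Or.inr (by rw [hc, mul_comm])
    rw [Subgroup.orderOf_mk]
    have hdvd : ∀ i, orderOf (f i) ∣ orderOf f := fun i =>
      orderOf_map_dvd (Pi.evalMonoidHom (fun _ : Fin (k + 1) => G) i) f
    by_cases hall : ∀ i, orderOf (f i) = O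
    · refine ⟨f 0, Nat.dvd_antisymm (hdvd 0) (orderOf_dvd_of_pow_eq_one (funext fun i => ?_))⟩
      rw [Pi.pow_apply, Pi.one_apply, ← orderOf_dvd_iff_pow_eq_one, hall i, hall 0]
    · push Not at hall
      obtain ⟨i, hi⟩ := hall
      refine ⟨f i, Nat.dvd_antisymm (hdvd i) (orderOf_dvd_of_pow_eq_one (funext fun j => ?_))⟩
      rw [Pi.pow_apply, Pi.one_apply, ← orderOf_dvd_iff_pow_eq_one, (hcase i).resolve_left hi]
      rcases hcase j with e | e <;> rw [e]
      exact dvd_mul_left _ _
  · rintro ⟨g, rfl⟩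
    refine ⟨⟨fun _ => g, fun _ => rfl⟩, ?_⟩
    rw [← Subgroup.orderOf_coe]
    exact orderOf_injective (Pi.constMonoidHom (Fin (k + 1)) G) (fun a b e => congrFun e 0) g

theorem exists_large (V : Subgroup G) [V.Normal] (hne : V ≠ ⊥) {p : ℕ} (hp : p.Prime) (hV : ∀ v ∈ V, v ^ p = 1) (N : ℕ) :
    ∃ (H : Type) (_ : Group H) (_ : Fintype H), N < Fintype.card H ∧ Set.range (orderOf : H → ℕ) = Set.range (orderOf : G → ℕ) := by
  set F := fiber V N
  haveI : Fintype F := Fintype.ofFinite _
  let e : F ≃ {i : Fin (Fintype.card F) // True} :=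
    (Fintype.equivFin F).trans (Equiv.subtypeUnivEquiv fun _ => trivial).symm
  letI : Group {i : Fin (Fintype.card F) // True} := e.symm.group
  let E : {i : Fin (Fintype.card F) // True} ≃* F := e.symm.mulEquiv
  refine ⟨{i : Fin (Fintype.card F) // True}, inferInstance, inferInstance, ?_, ?_⟩
  · rw [← Nat.card_eq_fintype_card, ← Nat.card_congr e]
    refine lt_of_lt_of_le (Nat.lt_two_pow_self (n := N)) ((Nat.pow_le_pow_left ?_ N).trans (card_fiber_ge V N))
    exact (one_lt_card_iff_ne_bot V).mpr hne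
  · rw [← range_orderOf_fiber V hp hV N]
    refine Set.Subset.antisymm ?_ ?_
    · rintro _ ⟨x, rfl⟩; exact ⟨E x, E.orderOf_eq x⟩
    · rintro _ ⟨x, rfl⟩; exact ⟨E.symm x, E.symm.orderOf_eq x⟩

theorem exists_prime_exponent_normal (K : Subgroup G) [K.Normal] (hK : K ≠ ⊥) (hs : Group.IsSolvable K) :
    ∃ V : Subgroup G, V.Normal ∧ V ≠ ⊥ ∧ ∃ p, p.Prime ∧ ∀ v ∈ V, v ^ p = 1 := by
  induction hn : Nat.card K using Nat.strong_induction_on generalizing K with
  | h n IH =>
    subst hn
    haveI : Nontrivial K := (nontrivial_iff_ne_bot K).mpr hK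
    by_cases hab : ⁅K, K⁆ = ⊥
    · have hc : ∀ a ∈ K, ∀ b ∈ K, a * b = b * a := fun a ha b hb => by
        have := (eq_bot_iff.mp hab) (commutator_mem_commutator ha hb)
        exact commutatorElement_eq_one_iff_mul_comm.mp (Subgroup.mem_bot.mp this)
      obtain ⟨p, hp, hpd⟩ := Nat.exists_prime_and_dvd (Finite.one_lt_card (α := K)).ne'
      haveI := Fact.mk hp
      let V : Subgroup G :=
        { carrier := {x | x ∈ K ∧ x ^ p = 1}
          one_mem' := ⟨one_mem K, one_pow p⟩
          mul_mem' := fun {a b} ha hb => ⟨mul_mem ha.1 hb.1, by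
            rw [(show Commute a b from hc a ha.1 b hb.1).mul_pow, ha.2, hb.2, one_mul]⟩
          inv_mem' := fun {a} ha => ⟨inv_mem ha.1, by rw [inv_pow, ha.2, inv_one]⟩ }
      refine ⟨V, ⟨fun x hx g => ⟨Subgroup.Normal.conj_mem inferInstance x hx.1 g, by rw [conj_pow, hx.2, mul_one, mul_inv_cancel]⟩⟩, fun e => ?_,
        p, hp, fun v hv => hv.2⟩
      obtain ⟨x, hx⟩ := exists_prime_orderOf_dvd_card' p hpd
      have : (x : G) ∈ V := ⟨x.2, by rw [← hx, ← Subgroup.orderOf_coe, pow_orderOf_eq_one]⟩
      rw [e, Subgroup.mem_bot] at this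
      exact hp.ne_one (by rw [← hx, ← Subgroup.orderOf_coe, this, orderOf_one])
    · haveI := hs
      have hlt : ⁅K, K⁆ < K := by
        refine lt_of_le_of_ne (commutator_le_self K) fun e => ?_
        have h1 := Group.IsSolvable.commutator_lt_top_of_nontrivial (G := K)
        refine h1.ne ?_
        apply map_injective K.subtype_injective
        rw [map_subtype_commutator, ← MonoidHom.range_eq_map, K.range_subtype]
        exact e
      exact IH _ (by
        by_contra hge
        exact hlt.ne (Subgroup.eq_of_le_of_card_ge hlt.le (not_lt.mp hge))) _ hab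
        (Group.isSolvable_of_isSolvable_injective (f := Subgroup.inclusion hlt.le) (Subgroup.inclusion_injective _)) rfl

end Cfsg.Lib.FiberSpectrum
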