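import Mathlib.FieldTheory.Finite.GaloisField
import Mathlib.GroupTheory.PGroup
import Mathlib.Tactic

/-!
An element of prime order acting irreducibly: its normalizer is semilinear.
-/

namespace Cfsg.Lib.FpfSemilinear

open Module Polynomial

variable {p : ℕ} [Fact p.Prime] {V : Type*} [AddCommGroup V] [Module (ZMod p) V] [Finite V]

/-- An invariant subspace of a fixed-point-free element of prime order `q` has order one more
than a multiple of `q`. -/
theorem dvd_card_sub_one {q : ℕ} [Fact q.Prime] (x : (Module.End (ZMod p) V)ˣ) (hx : x ^ q = 1)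
    (hfpf : ∀ v : V, (x : Module.End (ZMod p) V) v = v → v = 0) (W : Submodule (ZMod p) V)
    (hW : ∀ w ∈ W, (x : Module.End (ZMod p) V) w ∈ W) : q ∣ Nat.card W - 1 := by
  classical
  have hW' : ∀ (g : Subgroup.zpowers x), ∀ w ∈ W, ((g : (Module.End (ZMod p) V)ˣ) : Module.End (ZMod p) V) w ∈ W := by
    rintro ⟨g, hg⟩ w hw
    haveI : Finite (Module.End (ZMod p) V) := Finite.of_injective (fun f => (f : V → V)) DFunLike.coe_injective
    obtain ⟨n, rfl⟩ := (isOfFinOrder_of_finite x).mem_powers_iff_mem_zpowers.mpr hg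
    show ((x ^ n : (Module.End (ZMod p) V)ˣ) : Module.End (ZMod p) V) w ∈ W
    clear hg
    induction n generalizing w with
    | zero => simpa using hw
    | succ n ih =>
      rw [pow_succ, Units.val_mul, Module.End.mul_apply]
      exact ih _ (hW w hw)
  letI : MulAction (Subgroup.zpowers x) W :=
    { smul := fun g w => ⟨((g : (Module.End (ZMod p) V)ˣ) : Module.End (ZMod p) V) w, hW' g w w.2⟩
      one_smul := fun w => Subtype.ext (by show ((1 : (Module.End (ZMod p) V)ˣ) : Module.End (ZMod p) V) w = w; simp)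
      mul_smul := fun g h w => Subtype.ext (by
        show (((g * h : Subgroup.zpowers x) : (Module.End (ZMod p) V)ˣ) : Module.End (ZMod p) V) w = _
        rw [Subgroup.coe_mul, Units.val_mul, Module.End.mul_apply]; rfl) }
  have hP : IsPGroup q (Subgroup.zpowers x) := by
    refine fun g => ⟨1, Subtype.ext ?_⟩
    obtain ⟨n, hn⟩ := Subgroup.mem_zpowers_iff.mp g.2
    rw [pow_one, SubgroupClass.coe_pow, ← hn, ← zpow_natCast, ← zpow_mul, mul_comm, zpow_mul, zpow_natCast, hx,
      one_zpow, Subgroup.coe_one]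
  have hfix : Nat.card (MulAction.fixedPoints (Subgroup.zpowers x) W) = 1 := by
    refine Nat.card_eq_one_iff_unique.mpr ⟨⟨fun a b => Subtype.ext (Subtype.ext ?_)⟩, ⟨⟨0, fun g => Subtype.ext (map_zero _)⟩⟩⟩
    have key : ∀ a : MulAction.fixedPoints (Subgroup.zpowers x) W, ((a : W) : V) = 0 := fun a =>
      hfpf _ (congrArg Subtype.val (a.2 ⟨x, Subgroup.mem_zpowers x⟩))
    rw [key a, key b]
  have h := hP.card_modEq_card_fixedPoints W
  rw [hfix] at h
  exact (Nat.modEq_iff_dvd' Nat.card_pos).mp h.symm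

/-- An element without invariant subspaces has order primitive at the dimension, and a group
normalizing it and meeting its centralizer trivially has order dividing the dimension. -/
theorem irreducible_facts {q : ℕ} [Fact q.Prime] {d : ℕ} (hV : Nat.card V = p ^ d)
    (x : (Module.End (ZMod p) V)ˣ) (hx : x ^ q = 1) (hx1 : x ≠ 1)
    (hirr : ∀ W : Submodule (ZMod p) V, (∀ w ∈ W, (x : Module.End (ZMod p) V) w ∈ W) → W = ⊥ ∨ W = ⊤) :
    (∀ i : ℕ, 0 < i → i < d → ¬ q ∣ p ^ i - 1) ∧
    ∀ (C : Type*) [Group C] (ρ : C →* (Module.End (ZMod p) V)ˣ),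
      (∀ c, ∃ k : ℕ, ρ c * x * (ρ c)⁻¹ = x ^ k) → (∀ c, ρ c * x = x * ρ c → c = 1) → Nat.card C ∣ d := by
  classical
  haveI : Nontrivial V := by
    by_contra h
    rw [not_nontrivial_iff_subsingleton] at h
    exact hx1 (Units.ext (LinearMap.ext fun v => Subsingleton.elim _ _))
  haveI : Finite (Module.End (ZMod p) V) := Finite.of_injective (fun f => (f : V → V)) DFunLike.coe_injective
  let A := Module.End (ZMod p) V
  let E : Subalgebra (ZMod p) A := (aeval (x : A)).range
  have hcomm : ∀ g ∈ E, ∀ g' ∈ E, g * g' = g' * g := by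
    rintro _ ⟨P, rfl⟩ _ ⟨Q, rfl⟩
    show aeval (x : A) P * aeval (x : A) Q = aeval (x : A) Q * aeval (x : A) P
    rw [← map_mul, mul_comm, map_mul]
  have hxE : (x : A) ∈ E := ⟨X, aeval_X _⟩
  -- nonzero elements are injective
  have hinjE : ∀ g ∈ E, g ≠ 0 → LinearMap.ker g = ⊥ := by
    intro g hg hg0
    have hW : ∀ w ∈ LinearMap.ker g, (x : A) w ∈ LinearMap.ker g := fun w hw => by
      rw [LinearMap.mem_ker, ← Module.End.mul_apply, hcomm g hg _ hxE, Module.End.mul_apply,
        LinearMap.mem_ker.mp hw, map_zero]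
    refine (hirr _ hW).resolve_right fun e => hg0 ?_
    exact LinearMap.ker_eq_top.mp e
  letI : CommRing E := { (inferInstance : Ring E) with mul_comm := fun a b => Subtype.ext (hcomm a a.2 b b.2) }
  haveI : Nontrivial E := ⟨0, 1, fun e => by
    obtain ⟨v, hv⟩ := exists_ne (0 : V)
    exact hv (LinearMap.congr_fun (congrArg Subtype.val e) v).symm⟩
  haveI : NoZeroDivisors E := ⟨fun {a b} hab => by
    by_contra hc
    push Not at hc
    refine hc.2 (Subtype.ext (LinearMap.ext fun v => ?_))
    have : (a : A) ((b : A) v) = 0 := LinearMap.congr_fun (congrArg Subtype.val hab) v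
    have h1 := hinjE a a.2 fun e => hc.1 (Subtype.ext e)
    exact LinearMap.ker_eq_bot'.mp h1 _ this⟩
  haveI : IsDomain E := NoZeroDivisors.to_isDomain _
  letI : Field E := (Finite.isField_of_domain E).toField
  haveI : Finite E := inferInstance
  have hdim : Module.finrank (ZMod p) E = d := by
    obtain ⟨v0, hv0⟩ := exists_ne (0 : V)
    have hle : Nat.card E ≤ Nat.card V := Nat.card_le_card_of_injective (fun g : E => (g : A) v0) fun g g' hgg => by
      by_contra hne
      refine hv0 (LinearMap.ker_eq_bot'.mp (hinjE ((g : A) - g') (sub_mem g.2 g'.2) fun e => hne (Subtype.ext (sub_eq_zero.mp e))) v0 ?_)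
      rw [LinearMap.sub_apply]
      exact sub_eq_zero.mpr hgg
    have hpow : Nat.card E = p ^ Module.finrank (ZMod p) E := by
      rw [Module.natCard_eq_pow_finrank (K := ZMod p), Nat.card_zmod]
    have hge : Nat.card V ≤ Nat.card E := by
      let W : Submodule (ZMod p) V := LinearMap.range ((LinearMap.applyₗ v0).comp E.val.toLinearMap)
      have hW : ∀ w ∈ W, (x : A) w ∈ W := by
        rintro _ ⟨g, rfl⟩
        exact ⟨⟨x, hxE⟩ * g, rfl⟩
      have htop := (hirr W hW).resolve_left fun e => hv0 (by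
        have : v0 ∈ W := ⟨1, rfl⟩
        rwa [e, Submodule.mem_bot] at this)
      exact Nat.card_le_card_of_surjective (fun g : E => (g : A) v0) fun v => by
        obtain ⟨g, hg⟩ := (LinearMap.range_eq_top.mp htop) v
        exact ⟨g, hg⟩
    exact Nat.pow_right_injective (Fact.out : p.Prime).two_le (hpow.symm.trans ((le_antisymm hle hge).trans hV))
  refine ⟨fun i hi0 hi hdvd => ?_, fun C _ ρ hconj hinj => ?_⟩
  · -- every element of the field is fixed by the `i`-th power of the Frobenius map
    obtain ⟨k, hk⟩ := hdvd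
    have hxq : (⟨x, hxE⟩ : E) ^ (p ^ i) = ⟨x, hxE⟩ := by
      apply Subtype.ext
      show (x : A) ^ (p ^ i) = x
      have h1 : p ^ i = q * k + 1 := by
        have := Nat.one_le_pow i p (Fact.out : p.Prime).pos
        omega
      rw [← Units.val_pow_eq_pow_val, h1, pow_succ, pow_mul, hx, one_pow, one_mul]
    haveI : CharP E p := charP_of_injective_algebraMap (algebraMap (ZMod p) E).injective p
    have hall : ∀ g : E, g ^ (p ^ i) = g := by
      rintro ⟨_, P, rfl⟩
      have e : (⟨aeval (x : A) P, ⟨P, rfl⟩⟩ : E) = aeval (⟨x, hxE⟩ : E) P := by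
        apply Subtype.ext
        exact (Polynomial.aeval_algHom_apply E.val ⟨x, hxE⟩ P)
      show (⟨aeval (x : A) P, _⟩ : E) ^ (p ^ i) = ⟨aeval (x : A) P, _⟩
      rw [e, ← iterateFrobenius_def (R := E) p i]
      conv_rhs => rw [← hxq, ← iterateFrobenius_def (R := E) p i]
      rw [Polynomial.aeval_def, Polynomial.hom_eval₂, Polynomial.aeval_def]
      congr 1
      exact Subsingleton.elim _ _
    have hcard : Nat.card E ≤ p ^ i := by
      haveI := Fintype.ofFinite E
      have hne : (X ^ (p ^ i) - X : E[X]) ≠ 0 :=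
        FiniteField.X_pow_card_pow_sub_X_ne_zero E hi0.ne' (Fact.out : p.Prime).one_lt
      have h1 : (Finset.univ : Finset E) ⊆ (X ^ (p ^ i) - X : E[X]).roots.toFinset := fun g _ => by
        rw [Multiset.mem_toFinset, mem_roots hne]
        simp [hall g]
      have h2 := (Finset.card_le_card h1).trans ((Multiset.toFinset_card_le _).trans (card_roots' _))
      rwa [Finset.card_univ, FiniteField.X_pow_card_pow_sub_X_natDegree_eq E hi0.ne' (Fact.out : p.Prime).one_lt,
        ← Nat.card_eq_fintype_card] at h2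
    rw [Module.natCard_eq_pow_finrank (K := ZMod p), Nat.card_zmod, hdim,
      Nat.pow_le_pow_iff_right (Fact.out : p.Prime).one_lt] at hcard
    omega
  -- conjugation
  have hmem : ∀ c, ∀ g ∈ E, (ρ c : A) * g * ((ρ c)⁻¹ : (A)ˣ) ∈ E := by
    intro c g hg
    obtain ⟨k, hk⟩ := hconj c
    have hk' : (ρ c : A) * x * ((ρ c)⁻¹ : Aˣ) ∈ E := by
      rw [← Units.val_mul, ← Units.val_mul, hk, Units.val_pow_eq_pow_val]
      exact pow_mem hxE k
    obtain ⟨P, rfl⟩ := hg
    show (ρ c : A) * aeval (x : A) P * ((ρ c)⁻¹ : Aˣ) ∈ E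
    induction P using Polynomial.induction_on' with
    | add P Q hP hQ => rw [map_add, mul_add, add_mul]; exact add_mem hP hQ
    | monomial n a =>
      rw [aeval_monomial, ← Algebra.smul_def, mul_smul_comm, smul_mul_assoc, ← Units.conj_pow]
      exact E.smul_mem (pow_mem hk' n) a
  let φ : C →* (E →ₐ[ZMod p] E) :=
    { toFun := fun c =>
        { toFun := fun g => ⟨(ρ c : A) * g * ((ρ c)⁻¹ : Aˣ), hmem c g g.2⟩
          map_one' := Subtype.ext (by simp)
          map_mul' := fun g g' => Subtype.ext (by simp [mul_assoc])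
          map_zero' := Subtype.ext (by simp)
          map_add' := fun g g' => Subtype.ext (by simp [mul_add, add_mul])
          commutes' := fun a => Subtype.ext (by
            show (ρ c : A) * algebraMap (ZMod p) A a * ((ρ c)⁻¹ : Aˣ) = algebraMap (ZMod p) A a
            rw [← Algebra.commutes, mul_assoc, Units.mul_inv, mul_one]) }
      map_one' := AlgHom.ext fun g => Subtype.ext (by simp)
      map_mul' := fun c c' => AlgHom.ext fun g => Subtype.ext (by simp [mul_assoc]) }
  let ψ := (AlgEquiv.algHomUnitsEquiv (ZMod p) E).toMonoidHom.comp φ.toHomUnits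
  have hψ : Function.Injective ψ := by
    rw [injective_iff_map_eq_one]
    intro c hc
    refine hinj c ?_
    have h1 : φ.toHomUnits c = 1 := (AlgEquiv.algHomUnitsEquiv (ZMod p) E).injective (hc.trans (map_one _).symm)
    have h2 : (ρ c : A) * x * ((ρ c)⁻¹ : Aˣ) = x :=
      congrArg (fun f : (E →ₐ[ZMod p] E)ˣ => (((f : E →ₐ[ZMod p] E) ⟨x, hxE⟩ : E) : A)) h1
    apply Units.ext
    rw [Units.val_mul, Units.val_mul]
    conv_rhs => rw [← h2, mul_assoc, Units.inv_mul, mul_one]
  haveI : Algebra.IsAlgebraic (ZMod p) E := Algebra.IsAlgebraic.of_finite _ _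
  have := Subgroup.card_dvd_of_injective ψ hψ
  rwa [IsGalois.card_aut_eq_finrank, hdim] at this

end Cfsg.Lib.FpfSemilinear
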