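import Cfsg.Agent.Elementary.AffineField

/-!
Frobenius groups of order `p ^ o * q` with irreducible kernel, and products of them over disjoint pairs of
primes: minimal groups for their sets of element orders.
-/

namespace Cfsg.Lib.FrobMin

open Cfsg.Lib.AffField SemidirectProduct

/-- The degree of the smallest field of characteristic `p` with a unit of order `q`. -/
noncomputable def deg (p q : ℕ) : ℕ := orderOf (p : ZMod q)

variable {p q : ℕ} [Fact p.Prime] [Fact q.Prime] (hpq : p ≠ q)
include hpq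

theorem natCast_ne_zero : (p : ZMod q) ≠ 0 := by
  rw [Ne, ZMod.natCast_eq_zero_iff]
  exact fun h => hpq ((Nat.prime_dvd_prime_iff_eq Fact.out Fact.out).mp h).symm

theorem deg_pos : 0 < deg p q :=
  orderOf_pos_iff.mpr ((Units.mk0 _ (natCast_ne_zero hpq)).isUnit.isOfFinOrder)

theorem deg_dvd_of {i : ℕ} (h : q ∣ p ^ i - 1) : deg p q ∣ i := by
  refine orderOf_dvd_of_pow_eq_one ?_
  rw [← Nat.cast_pow, ← sub_eq_zero, ← Nat.cast_one, ← Nat.cast_sub (Nat.one_le_pow _ _ (Fact.out : p.Prime).pos),
    ZMod.natCast_eq_zero_iff]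
  exact h

theorem dvd_pow_deg : q ∣ p ^ deg p q - 1 := by
  rw [← ZMod.natCast_eq_zero_iff, Nat.cast_sub (Nat.one_le_pow _ _ (Fact.out : p.Prime).pos), Nat.cast_pow,
    Nat.cast_one, deg, pow_orderOf_eq_one, sub_self]

/-- A unit of order `q`. -/
theorem exists_zeta : ∃ ζ : (GaloisField p (deg p q))ˣ, orderOf ζ = q :=
  exists_unit_orderOf (by rw [GaloisField.card p _ (deg_pos hpq).ne']; exact dvd_pow_deg hpq)

omit hpq in
/-- The chosen unit of order `q`. -/
noncomputable def zeta (p q : ℕ) [Fact p.Prime] [Fact q.Prime] : (GaloisField p (deg p q))ˣ :=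
  if h : p ≠ q then (exists_zeta h).choose else 1

theorem orderOf_zeta : orderOf (zeta p q) = q := by
  rw [zeta, dif_pos hpq]; exact (exists_zeta hpq).choose_spec

omit hpq in
/-- The minimal Frobenius group. -/
abbrev X (p q : ℕ) [Fact p.Prime] [Fact q.Prime] : Type :=
  Aff (GaloisField p (deg p q)) (Subgroup.zpowers (zeta p q))

theorem card_X : Nat.card (X p q) = p ^ deg p q * q := by
  rw [card_aff, GaloisField.card p _ (deg_pos hpq).ne', Nat.card_zpowers, orderOf_zeta hpq]

theorem spectrum_X (m : ℕ) : m ∈ Set.range (orderOf : X p q → ℕ) ↔ m = 1 ∨ m = p ∨ m = q := by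
  rw [mem_spectrum_iff p, orderOf_zeta hpq, Nat.dvd_prime Fact.out, Nat.dvd_prime Fact.out]
  tauto

/-- A nonzero additive subgroup invariant under the unit is everything. -/
theorem invariant_eq_top (W : AddSubgroup (GaloisField p (deg p q))) (hW : W ≠ ⊥)
    (hinv : ∀ w ∈ W, ((zeta p q : (GaloisField p (deg p q))ˣ) : GaloisField p (deg p q)) * w ∈ W) : W = ⊤ := by
  classical
  set K := GaloisField p (deg p q)
  set ζ := zeta p q
  have hK : Nat.card K = p ^ deg p q := GaloisField.card p _ (deg_pos hpq).ne'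
  obtain ⟨i, hi, hWc⟩ := (Nat.dvd_prime_pow (Fact.out : p.Prime)).mp (hK ▸ AddSubgroup.card_addSubgroup_dvd_card W)
  let S : Set Kˣ := {u | (u : K) ∈ W}
  have hpowers : ∀ c ∈ Subgroup.zpowers ζ, ∀ w ∈ W, (c : K) * w ∈ W := by
    intro c hc
    obtain ⟨n, rfl⟩ := mem_powers_iff_mem_zpowers.mpr hc
    induction n with
    | zero => intro w hw; simpa using hw
    | succ n ih => intro w hw; simpa [pow_succ, mul_assoc] using ih (Submonoid.mem_powers_iff _ _ |>.mpr ⟨n, rfl⟩ |> mem_powers_iff_mem_zpowers.mp) _ (hinv w hw)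
  have hS : S = QuotientGroup.mk ⁻¹' (QuotientGroup.mk '' S : Set (Kˣ ⧸ Subgroup.zpowers ζ)) := by
    refine Set.Subset.antisymm (Set.subset_preimage_image _ _) ?_
    rintro u ⟨v, hv, he⟩
    have := hpowers _ (QuotientGroup.eq.mp he) _ hv
    show (u : K) ∈ W
    convert this using 1
    rw [← Units.val_mul]; congr 1
    rw [mul_comm v⁻¹ u, inv_mul_cancel_right]
  have hdvd : q ∣ Nat.card S := by
    rw [hS, Nat.card_congr (QuotientGroup.preimageMkEquivSubgroupProdSet _ _), Nat.card_prod, Nat.card_zpowers,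
      orderOf_zeta hpq]
    exact dvd_mul_right _ _
  have hSc : Nat.card S = Nat.card W - 1 := by
    let e : S ≃ {w : W // w ≠ 0} :=
      { toFun := fun u => ⟨⟨(u.1 : K), u.2⟩, fun h => u.1.ne_zero (congrArg Subtype.val h)⟩
        invFun := fun w => ⟨Units.mk0 (w.1 : K) (fun h => w.2 (Subtype.ext h)), w.1.2⟩
        left_inv := fun u => Subtype.ext (Units.ext rfl)
        right_inv := fun w => Subtype.ext (Subtype.ext rfl) }
    have : Fintype W := Fintype.ofFinite W
    rw [Nat.card_congr e, Nat.card_eq_fintype_card, Fintype.card_subtype_compl, Fintype.card_subtype_eq,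
      Nat.card_eq_fintype_card]
  rw [hSc, hWc] at hdvd
  have hi0 : i ≠ 0 := fun h => hW (AddSubgroup.eq_bot_of_card_eq W (by rw [hWc, h, pow_zero]))
  have : i = deg p q := le_antisymm hi (Nat.le_of_dvd (Nat.pos_of_ne_zero hi0) (deg_dvd_of hpq hdvd))
  exact AddSubgroup.eq_top_of_card_eq W (by rw [hWc, this, hK])

omit hpq in
/-- The part of a subgroup lying in the kernel. -/
noncomputable def kerPart (H : Subgroup (X p q)) : AddSubgroup (GaloisField p (deg p q)) :=
  Subgroup.toAddSubgroup' (H.comap (inl : Multiplicative (GaloisField p (deg p q)) →* X p q))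

omit hpq in
theorem mem_kerPart {H : Subgroup (X p q)} {w : GaloisField p (deg p q)} :
    w ∈ kerPart H ↔ (inl (Multiplicative.ofAdd w) : X p q) ∈ H := Iff.rfl

omit hpq in
theorem conj_inl (c : Subgroup.zpowers (zeta p q)) (w : Multiplicative (GaloisField p (deg p q))) :
    (inr c : X p q) * inl w * (inr c)⁻¹ =
      inl (Multiplicative.ofAdd (((c : (GaloisField p (deg p q))ˣ) : GaloisField p (deg p q)) * w.toAdd)) := by
  rw [← map_inv, ← inl_aut]; rfl

theorem range_inl_le {H : Subgroup (X p q)} (hne : kerPart H ≠ ⊥)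
    (hconj : ∀ w, (inl w : X p q) ∈ H → (inr ⟨zeta p q, Subgroup.mem_zpowers _⟩ : X p q) * inl w * (inr ⟨zeta p q, Subgroup.mem_zpowers _⟩)⁻¹ ∈ H) :
    (inl : Multiplicative (GaloisField p (deg p q)) →* X p q).range ≤ H := by
  have htop : kerPart H = ⊤ := invariant_eq_top hpq _ hne fun w hw => by
    have := hconj _ (mem_kerPart.mp hw)
    rw [conj_inl] at this
    exact this
  rintro _ ⟨w, rfl⟩
  exact mem_kerPart.mp (htop.symm ▸ AddSubgroup.mem_top (Multiplicative.toAdd w))

/-- A nontrivial normal subgroup contains the kernel. -/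
theorem card_kernel_dvd {N : Subgroup (X p q)} (hN : N.Normal) (hne : N ≠ ⊥) : p ^ deg p q ∣ Nat.card N := by
  have hk : kerPart N ≠ ⊥ := by
    obtain ⟨g, hg, hg1⟩ := (Subgroup.ne_bot_iff_exists_ne_one.mp hne) |> fun ⟨⟨g, hg⟩, h⟩ =>
      (⟨g, hg, fun e => h (Subtype.ext e)⟩ : ∃ g, g ∈ N ∧ g ≠ 1)
    intro hbot
    have key : ∀ w, (inl w : X p q) ∈ N → w = 1 := fun w hw =>
      (AddSubgroup.mem_bot.mp (hbot ▸ (mem_kerPart.mpr hw : Multiplicative.toAdd w ∈ kerPart N)) :)
    by_cases hr : g.right = 1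
    · have : g = inl g.left := SemidirectProduct.ext rfl hr
      exact hg1 (by rw [this, key g.left (this ▸ hg), map_one])
    · obtain ⟨u, hu⟩ := isConj_iff.mp (isConj_inr hr)
      have hc : (inr g.right : X p q) ∈ N := by
        have := hN.conj_mem g hg u⁻¹
        rwa [← hu, show u⁻¹ * (u * inr g.right * u⁻¹) * u⁻¹⁻¹ = inr g.right by group] at this
      have h1 := mul_mem hc (hN.conj_mem _ (inv_mem hc) (inl (Multiplicative.ofAdd 1)))
      have e : (inr g.right : X p q) * (inl (Multiplicative.ofAdd 1) * (inr g.right)⁻¹ * (inl (Multiplicative.ofAdd 1))⁻¹) =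
          inl (Multiplicative.ofAdd (((g.right : (GaloisField p (deg p q))ˣ) : GaloisField p (deg p q)) - 1)) := by
        rw [← mul_assoc, ← mul_assoc, conj_inl, ← map_inv, ← map_mul]
        refine congrArg inl ?_
        show Multiplicative.ofAdd (_ * (1 : GaloisField p (deg p q))) * (Multiplicative.ofAdd 1)⁻¹ = _
        rw [mul_one, ← ofAdd_neg, ← ofAdd_add, sub_eq_add_neg]
      rw [e] at h1
      have := congrArg Multiplicative.toAdd (key _ h1)
      rw [toAdd_ofAdd, toAdd_one, sub_eq_zero] at this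
      exact hr (Subtype.ext (Units.ext this))
  have hle := range_inl_le hpq hk fun w hw => hN.conj_mem _ hw _
  have := Subgroup.card_dvd_of_le hle
  rwa [← Nat.card_congr (MonoidHom.ofInjective inl_injective).toEquiv,
    show Nat.card (Multiplicative (GaloisField p (deg p q))) = p ^ deg p q from GaloisField.card p _ (deg_pos hpq).ne'] at this

/-- A subgroup with order divisible by both primes is everything. -/
theorem eq_top_of_dvd {H : Subgroup (X p q)} (hp : p ∣ Nat.card H) (hq : q ∣ Nat.card H) : H = ⊤ := by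
  obtain ⟨a, ha⟩ := exists_prime_orderOf_dvd_card' (G := H) p hp
  obtain ⟨b, hb⟩ := exists_prime_orderOf_dvd_card' (G := H) q hq
  rw [← Subgroup.orderOf_coe] at ha hb
  have har : (a : X p q).right = 1 := by
    by_contra h
    have := orderOf_dvd_natCard (a : X p q).right
    rw [← orderOf_eq_right h, ha, Nat.card_zpowers, orderOf_zeta hpq] at this
    exact hpq ((Nat.prime_dvd_prime_iff_eq Fact.out Fact.out).mp this)
  have hbr : (b : X p q).right ≠ 1 := by
    intro h
    have := orderOf_dvd_of_right p h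
    rw [hb] at this
    exact hpq ((Nat.prime_dvd_prime_iff_eq Fact.out Fact.out).mp this).symm
  have hC : Nat.card (Subgroup.zpowers (zeta p q)) = q := by rw [Nat.card_zpowers, orderOf_zeta hpq]
  have hgen : ∀ c : Subgroup.zpowers (zeta p q), ∃ n : ℤ, (b : X p q).right ^ n = c := fun c =>
    Subgroup.mem_zpowers_iff.mp (mem_zpowers_of_prime_card hC hbr)
  have hk : kerPart H ≠ ⊥ := by
    intro hbot
    have e : (a : X p q) = inl (a : X p q).left := SemidirectProduct.ext rfl har
    have h0 : Multiplicative.toAdd (a : X p q).left = 0 :=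
      AddSubgroup.mem_bot.mp (hbot ▸ mem_kerPart.mpr (show inl (a : X p q).left ∈ H from e ▸ a.2))
    have : (a : X p q) = 1 := by
      rw [e, show (a : X p q).left = 1 from Multiplicative.toAdd.injective h0, map_one]
    rw [this, orderOf_one] at ha
    exact (Fact.out : p.Prime).one_lt.ne ha
  have hconj : ∀ w, (inl w : X p q) ∈ H → (inr ⟨zeta p q, Subgroup.mem_zpowers _⟩ : X p q) * inl w * (inr ⟨zeta p q, Subgroup.mem_zpowers _⟩)⁻¹ ∈ H := by
    intro w hw
    obtain ⟨n, hn⟩ := hgen ⟨zeta p q, Subgroup.mem_zpowers _⟩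
    set g := (b : X p q) ^ n with hg
    have hgr : g.right = ⟨zeta p q, Subgroup.mem_zpowers _⟩ := by
      rw [hg, ← rightHom_eq_right, map_zpow, rightHom_eq_right, hn]
    have hgH : g ∈ H := zpow_mem b.2 n
    have h1 := mul_mem (mul_mem hgH hw) (inv_mem hgH)
    have e : g * inl w * g⁻¹ = inr g.right * inl w * (inr g.right)⁻¹ := by
      conv_lhs => rw [← inl_left_mul_inr_right g]
      rw [mul_inv_rev, conj_inl, show inl g.left * inr g.right * inl w * ((inr g.right)⁻¹ * (inl g.left)⁻¹) =
        inl g.left * (inr g.right * inl w * (inr g.right)⁻¹) * (inl g.left : X p q)⁻¹ by group, conj_inl,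
        ← map_inv, ← map_mul, ← map_mul, mul_comm g.left, mul_inv_cancel_right]
    rwa [e, hgr] at h1
  have hle := range_inl_le hpq hk hconj
  rw [eq_top_iff]
  intro x _
  obtain ⟨n, hn⟩ := hgen x.right
  have h1 : x * ((b : X p q) ^ n)⁻¹ ∈ H := hle <| by
    rw [range_inl_eq_ker_rightHom, MonoidHom.mem_ker, map_mul, map_inv, map_zpow, rightHom_eq_right, hn,
      mul_inv_cancel]
  simpa using mul_mem h1 (zpow_mem b.2 n)

end Cfsg.Lib.FrobMin
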