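import Cfsg.Agent.Elementary.FrobeniusMinimal

/-!
`2 ^ s` pairwise non-isomorphic groups with one set of element orders, all minimal.
-/

namespace Cfsg.Lib.FrobMin

variable {s : ℕ} {p : Fin s → Fin 2 → ℕ} [hp : ∀ j i, Fact (p j i).Prime]

/-- The chosen orientation: the prime of the kernel. -/
def bit (a : Fin (2 ^ s)) (j : Fin s) : Fin 2 := finFunctionFinEquiv.symm a j

/-- The factor at `j`. -/
abbrev factor (p : Fin s → Fin 2 → ℕ) [∀ j i, Fact (p j i).Prime] (a : Fin (2 ^ s)) (j : Fin s) : Type :=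
  X (p j (bit a j)) (p j (1 - bit a j))

variable (hinj : ∀ j i j' i', p j i = p j' i' → j = j' ∧ i = i')
include hinj

theorem ne_of_bit (a : Fin (2 ^ s)) (j : Fin s) : p j (bit a j) ≠ p j (1 - bit a j) := fun h => by
  have := (hinj _ _ _ _ h).2
  revert this
  generalize bit a j = b
  revert b
  decide

theorem spectrum_factor (a : Fin (2 ^ s)) (j : Fin s) (m : ℕ) :
    m ∈ Set.range (orderOf : factor p a j → ℕ) ↔ m = 1 ∨ m = p j 0 ∨ m = p j 1 := by
  rw [spectrum_X (ne_of_bit hinj a j)]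
  generalize bit a j = b
  fin_cases b <;> simp <;> tauto

theorem card_factor (a : Fin (2 ^ s)) (j : Fin s) :
    Nat.card (factor p a j) = p j (bit a j) ^ deg (p j (bit a j)) (p j (1 - bit a j)) * p j (1 - bit a j) :=
  card_X (ne_of_bit hinj a j)

theorem prime_dvd_factor_iff {a : Fin (2 ^ s)} {j : Fin s} {r : ℕ} (hr : r.Prime) :
    r ∣ Nat.card (factor p a j) ↔ ∃ i, r = p j i := by
  rw [card_factor hinj, hr.dvd_mul]
  constructor
  · rintro (h | h)
    · exact ⟨_, (Nat.prime_dvd_prime_iff_eq hr (hp _ _).out).mp (hr.dvd_of_dvd_pow h)⟩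
    · exact ⟨_, (Nat.prime_dvd_prime_iff_eq hr (hp _ _).out).mp h⟩
  · rintro ⟨i, rfl⟩
    have h0 : ∀ b : Fin 2, b = bit a j ∨ b = 1 - bit a j := by
      generalize bit a j = b; revert b; decide
    rcases h0 i with rfl | rfl
    · exact Or.inl (dvd_pow_self _ (deg_pos (ne_of_bit hinj a j)).ne')
    · exact Or.inr dvd_rfl

theorem coprime_factor (a b : Fin (2 ^ s)) {j k : Fin s} (hjk : j ≠ k) :
    (Nat.card (factor p a j)).Coprime (Nat.card (factor p b k)) := by
  apply Nat.coprime_of_dvd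
  intro r hr h1 h2
  obtain ⟨i, rfl⟩ := (prime_dvd_factor_iff hinj hr).mp h1
  obtain ⟨i', h⟩ := (prime_dvd_factor_iff hinj hr).mp h2
  exact hjk (hinj _ _ _ _ h).1

omit hp hinj in
theorem prod_dvd_of_coprime {ι : Type*} {S : Finset ι} {f : ι → ℕ} {m : ℕ}
    (hc : ∀ i ∈ S, ∀ k ∈ S, i ≠ k → (f i).Coprime (f k)) (hd : ∀ i ∈ S, f i ∣ m) : ∏ i ∈ S, f i ∣ m := by
  classical
  induction S using Finset.induction with
  | empty => simp
  | insert a T ha ih =>
    rw [Finset.prod_insert ha]
    refine Nat.Coprime.mul_dvd_of_dvd_of_dvd (Nat.Coprime.prod_right fun i hi => hc a (Finset.mem_insert_self a T) i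
      (Finset.mem_insert_of_mem hi) (by rintro rfl; exact ha hi)) (hd a (Finset.mem_insert_self a T)) (ih ?_ ?_)
    · exact fun i hi k hk h => hc i (Finset.mem_insert_of_mem hi) k (Finset.mem_insert_of_mem hk) h
    · exact fun i hi => hd i (Finset.mem_insert_of_mem hi)

theorem orderOf_pi_eq_prod {a : Fin (2 ^ s)} (x : ∀ j, factor p a j) : orderOf x = ∏ j, orderOf (x j) := by
  apply Nat.dvd_antisymm
  · refine orderOf_dvd_of_pow_eq_one (funext fun j => ?_)
    exact orderOf_dvd_iff_pow_eq_one.mp (Finset.dvd_prod_of_mem _ (Finset.mem_univ j))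
  · refine prod_dvd_of_coprime (fun j _ k _ hjk => ?_)
      fun j _ => orderOf_dvd_of_pow_eq_one (congrFun (pow_orderOf_eq_one x) j)
    exact ((coprime_factor hinj a a hjk).coprime_dvd_left (orderOf_dvd_natCard _)).coprime_dvd_right
      (orderOf_dvd_natCard _)

theorem spectrum_pi (a : Fin (2 ^ s)) :
    Set.range (orderOf : (∀ j, factor p a j) → ℕ) =
      {m : ℕ | ∃ c : Fin s → ℕ, (∀ j, c j = 1 ∨ c j = p j 0 ∨ c j = p j 1) ∧ m = ∏ j, c j} := by
  ext m
  constructor
  · rintro ⟨x, rfl⟩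
    exact ⟨fun j => orderOf (x j), fun j => (spectrum_factor hinj a j _).mp ⟨x j, rfl⟩, orderOf_pi_eq_prod hinj x⟩
  · rintro ⟨c, hc, rfl⟩
    choose x hx using fun j => (spectrum_factor hinj a j (c j)).mpr (hc j)
    exact ⟨x, by rw [orderOf_pi_eq_prod hinj]; exact Finset.prod_congr rfl fun j _ => hx j⟩

theorem prime_mem (a : Fin (2 ^ s)) (j : Fin s) (i : Fin 2) :
    p j i ∈ Set.range (orderOf : (∀ j, factor p a j) → ℕ) := by
  rw [spectrum_pi hinj a]
  refine ⟨Function.update 1 j (p j i), fun k => ?_, ?_⟩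
  · rcases eq_or_ne k j with rfl | h
    · right; fin_cases i <;> simp
    · left; simp [h]
  · rw [Finset.prod_update_of_mem (Finset.mem_univ j)]; simp

theorem not_iso (a b : Fin (2 ^ s)) (hab : a ≠ b) : ¬ Nonempty ((∀ j, factor p a j) ≃* (∀ j, factor p b j)) := by
  rintro ⟨e⟩
  obtain ⟨j, hj⟩ : ∃ j, bit a j ≠ bit b j := by
    by_contra h
    push Not at h
    exact hab (finFunctionFinEquiv.symm.injective (funext h))
  have hc := Nat.card_congr e.toEquiv
  rw [Nat.card_pi, Nat.card_pi] at hc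
  have key : ∀ a b : Fin (2 ^ s), ∏ k, Nat.card (factor p a k) = ∏ k, Nat.card (factor p b k) →
      Nat.card (factor p a j) ∣ Nat.card (factor p b j) := by
    intro a b h
    have h1 : Nat.card (factor p a j) ∣ ∏ k, Nat.card (factor p b k) := h ▸ Finset.dvd_prod_of_mem _ (Finset.mem_univ j)
    rw [← Finset.mul_prod_erase _ _ (Finset.mem_univ j)] at h1
    refine (Nat.Coprime.dvd_of_dvd_mul_right ?_ h1)
    exact Nat.Coprime.prod_right fun k hk => coprime_factor hinj a b (Finset.ne_of_mem_erase hk).symm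
  have heq := Nat.dvd_antisymm (key a b hc) (key b a hc.symm)
  have hb : bit b j = 1 - bit a j := by
    revert hj; generalize bit a j = u; generalize bit b j = v; revert u v; decide
  have hb' : 1 - bit b j = bit a j := by rw [hb]; generalize bit a j = u; revert u; decide
  rw [card_factor hinj, card_factor hinj, hb, show (1 : Fin 2) - (1 - bit a j) = bit a j from hb ▸ hb'] at heq
  have hne := ne_of_bit hinj a j
  have big : ∀ P Q : ℕ, P.Prime → Q.Prime → P ≠ Q → ∀ o o' : ℕ, 0 < o' → P ^ o * Q = Q ^ o' * P → o = 1 := by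
    intro P Q hP hQ hne o o' ho' h
    have := congrArg (fun n => n.factorization P) h
    simpa [Nat.factorization_mul, hP.pos.ne', hQ.pos.ne', hP.factorization_pow, hQ.factorization_pow,
      hP.factorization, hQ.factorization, Finsupp.single_apply, hne.symm] using this
  have o1 := big _ _ (hp j (bit a j)).out (hp j _).out hne _ _ (deg_pos hne.symm) heq
  have o2 := big _ _ (hp j (1 - bit a j)).out (hp j _).out hne.symm _ _ (deg_pos hne) heq.symm
  have d1 := dvd_pow_deg hne
  have d2 := dvd_pow_deg hne.symm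
  rw [o1, pow_one] at d1
  rw [o2, pow_one] at d2
  have := (hp j (bit a j)).out.two_le
  have := (hp j (1 - bit a j)).out.two_le
  have := Nat.le_of_dvd (by omega) d1
  have := Nat.le_of_dvd (by omega) d2
  omega

theorem minimal (a : Fin (2 ^ s)) (H : Subgroup (∀ j, factor p a j)) (N : Subgroup H) [N.Normal]
    (hHN : H ≠ ⊤ ∨ N ≠ ⊥) :
    Set.range (orderOf : (H ⧸ N) → ℕ) ≠
      {m : ℕ | ∃ c : Fin s → ℕ, (∀ j, c j = 1 ∨ c j = p j 0 ∨ c j = p j 1) ∧ m = ∏ j, c j} := by
  intro heq
  have hdvd : ∀ j i, p j i ∣ Nat.card (H ⧸ N) := by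
    intro j i
    obtain ⟨x, hx⟩ : p j i ∈ Set.range (orderOf : (H ⧸ N) → ℕ) := by
      rw [heq, ← spectrum_pi hinj a]; exact prime_mem hinj a j i
    exact hx ▸ orderOf_dvd_natCard x
  have hH : H = ⊤ := by
    have hev : ∀ j, H.map (Pi.evalMonoidHom (factor p a) j) = ⊤ := by
      intro j
      have hd : ∀ i, p j i ∣ Nat.card (H.map (Pi.evalMonoidHom (factor p a) j)) := by
        intro i
        obtain ⟨x, hx⟩ := exists_prime_orderOf_dvd_card' (G := H) (p j i)
          ((hdvd j i).trans (Subgroup.card_quotient_dvd_card N))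
        rw [← Subgroup.orderOf_coe] at hx
        refine dvd_trans ?_ (Subgroup.orderOf_dvd_natCard _ (Subgroup.mem_map_of_mem _ x.2))
        have hj : orderOf (Pi.evalMonoidHom (factor p a) j (x : ∀ j, factor p a j)) ∣ p j i := hx ▸ orderOf_map_dvd _ _
        rcases (Nat.dvd_prime (hp j i).out).mp hj with h1 | h1
        · exfalso
          have h2 := orderOf_pi_eq_prod hinj (x : ∀ j, factor p a j)
          rw [hx, ← Finset.mul_prod_erase _ _ (Finset.mem_univ j), show orderOf ((x : ∀ j, factor p a j) j) = 1 from h1,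
            one_mul] at h2
          obtain ⟨k, hk, hdk⟩ := ((hp j i).out.prime.dvd_finsetProd_iff _).mp h2.dvd
          obtain ⟨i', h⟩ := (prime_dvd_factor_iff hinj (hp j i).out).mp (hdk.trans (orderOf_dvd_natCard _))
          exact Finset.ne_of_mem_erase hk (hinj _ _ _ _ h).1.symm
        · rw [h1]
      exact eq_top_of_dvd (ne_of_bit hinj a j) (hd _) (hd _)
    refine Subgroup.eq_top_of_card_eq H (Nat.dvd_antisymm (Subgroup.card_subgroup_dvd_card H) ?_)
    rw [Nat.card_pi]
    refine prod_dvd_of_coprime (fun j _ k _ hjk => coprime_factor hinj a a hjk) fun j _ => ?_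
    have := H.card_map_dvd (Pi.evalMonoidHom (factor p a) j)
    rwa [hev j, Subgroup.card_top] at this
  have hN : N ≠ ⊥ := hHN.resolve_left (not_not.mpr hH)
  obtain ⟨⟨x, hxH⟩, hxN, hx1⟩ : ∃ x : H, x ∈ N ∧ x ≠ 1 := by
    by_contra h
    push Not at h
    exact hN ((Subgroup.eq_bot_iff_forall _).mpr h)
  obtain ⟨j, hj⟩ : ∃ j, x j ≠ 1 := by
    by_contra h
    push Not at h
    exact hx1 (Subtype.ext (funext h))
  set M := (N.map H.subtype).map (Pi.evalMonoidHom (factor p a) j)
  have hMn : M.Normal := by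
    refine Subgroup.Normal.map ?_ _ fun y => ⟨Pi.mulSingle j y, Pi.mulSingle_eq_same j y⟩
    exact Subgroup.Normal.map ‹_› _ fun y => ⟨⟨y, hH ▸ Subgroup.mem_top y⟩, rfl⟩
  have hM : M ≠ ⊥ := fun h => hj (by
    have : x j ∈ M := Subgroup.mem_map_of_mem _ (Subgroup.mem_map_of_mem H.subtype hxN)
    rwa [h, Subgroup.mem_bot] at this)
  set P := p j (bit a j)
  have h1 : P ^ deg P (p j (1 - bit a j)) ∣ Nat.card N :=
    (card_kernel_dvd (ne_of_bit hinj a j) hMn hM).trans
      ((Subgroup.card_map_dvd _ _).trans (Subgroup.card_map_dvd _ _))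
  have h2 := hdvd j (bit a j)
  have h3 : Nat.card (∀ j, factor p a j) = Nat.card (H ⧸ N) * Nat.card N := by
    rw [← Subgroup.card_eq_card_quotient_mul_card_subgroup, hH, Subgroup.card_top]
  have h4 := Nat.mul_dvd_mul h2 h1
  rw [← h3, Nat.card_pi, ← Finset.mul_prod_erase _ _ (Finset.mem_univ j), card_factor hinj] at h4
  have hPp : P.Prime := (hp j _).out
  have hcop : (P ^ (deg P (p j (1 - bit a j)) + 1)).Coprime
      (p j (1 - bit a j) * ∏ k ∈ Finset.univ.erase j, Nat.card (factor p a k)) := by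
    refine Nat.Coprime.mul_right ?_ (Nat.Coprime.prod_right fun k hk => ?_)
    · exact Nat.Coprime.pow_left _ ((Nat.coprime_primes hPp (hp j _).out).mpr (ne_of_bit hinj a j))
    · refine Nat.Coprime.pow_left _ ((coprime_factor hinj a a (Finset.ne_of_mem_erase hk).symm).coprime_dvd_left ?_)
      exact (prime_dvd_factor_iff hinj hPp).mpr ⟨_, rfl⟩
  rw [mul_assoc, ← pow_succ'] at h4
  have := Nat.le_of_dvd (pow_pos hPp.pos _) (hcop.dvd_of_dvd_mul_right h4)
  exact absurd this (not_le.mpr (Nat.pow_lt_pow_right hPp.one_lt (Nat.lt_succ_self _)))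

end Cfsg.Lib.FrobMin
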