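import Cfsg.Agent.Frobenius.Complement
import Cfsg.Agent.Thompson.FixedPointFree
import Cfsg.Agent.Coprime.Sylow
import Cfsg.Agent.PGroups.Basic
import Mathlib.GroupTheory.Frattini
import Mathlib.GroupTheory.Nilpotent
import Mathlib.Tactic

/-!
A Frobenius quotient acting nontrivially on the kernel of the quotient map gives a large element order.
-/

namespace Cfsg.Lib.FrobeniusOrder

open Subgroup
open scoped Pointwise

variable {G : Type*} [Group G] [Finite G]

/-- The partition identity: if every norm of a cyclic complement vanishes, the kernel centralises. -/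
theorem conj_eq_mod_frattini {p : ℕ} [Fact p.Prime] {P Q : Subgroup G} (hP : IsPGroup p P)
    (hcop : (Nat.card Q).Coprime p) (hQP : Q ≤ normalizer (P : Set G)) {y : G}
    (hyP : y ∈ normalizer (P : Set G)) (hyQ : y ∈ normalizer (Q : Set G)) {m : ℕ} (hm : 0 < m) (hym : y ^ m = 1)
    (hfpf : ∀ i, 0 < i → i < m → ∀ u ∈ Q, y ^ i * u = u * y ^ i → u = 1)
    (hall : ∀ v ∈ P, (v * y) ^ m = 1) {u₀ v₀ : G} (hu₀ : u₀ ∈ Q) (hv₀ : v₀ ∈ P) :
    u₀ * v₀ * u₀⁻¹ * v₀⁻¹ ∈ (frattini P).map P.subtype := by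
  classical
  haveI := Fintype.ofFinite Q
  haveI := hP.isNilpotent
  haveI : (frattini P).Normal := by
    haveI := frattini_characteristic (G := P); infer_instance
  haveI := Cfsg.Lib.PGroups.isMulCommutative_quotient_frattini hP
  letI : CommGroup (P ⧸ frattini P) := { (inferInstance : Group (P ⧸ frattini P)) with mul_comm := mul_comm' }
  set N := normalizer (P : Set G)
  let conjP : N → P → P := fun g v => ⟨(g : G) * v * (g : G)⁻¹, (mem_normalizer_iff.mp g.2 _).mp v.2⟩
  let a : N → P → P ⧸ frattini P := fun g v => QuotientGroup.mk (conjP g v)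
  set yN : N := ⟨y, hyP⟩
  set uN : Q → N := fun u => ⟨u, hQP u.2⟩
  -- expansion of the norm
  have hnorm : ∀ (g : N) (v : P) (k : ℕ), (QuotientGroup.mk (conjP g ⟨((v : G) * y) ^ k * (y ^ k)⁻¹, by
      induction k with
      | zero => simp
      | succ k ih =>
        rw [pow_succ, pow_succ, show ((v : G) * y) ^ k * ((v : G) * y) * (y ^ k * y)⁻¹
          = ((v : G) * y) ^ k * (y ^ k)⁻¹ * (y ^ k * v * (y ^ k)⁻¹) by group]
        exact mul_mem ih ((mem_normalizer_iff.mp (pow_mem hyP k) _).mp v.2)⟩) : P ⧸ frattini P)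
      = ∏ i ∈ Finset.range k, a (g * yN ^ i) v := by
    intro g v k
    induction k with
    | zero =>
      rw [Finset.prod_range_zero, QuotientGroup.eq_one_iff]
      convert one_mem (frattini P) using 1
      exact Subtype.ext (by simp [conjP])
    | succ k ih =>
      rw [Finset.prod_range_succ, ← ih, ← QuotientGroup.mk_mul]
      congr 1
      refine Subtype.ext ?_
      simp only [conjP, Subgroup.coe_mul, SubmonoidClass.coe_pow, yN]
      rw [pow_succ, pow_succ]; group
  have hzero : ∀ (g : N) (v : P), ∏ i ∈ Finset.range m, a (g * yN ^ i) v = 1 := fun g v => by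
    rw [← hnorm, QuotientGroup.eq_one_iff]
    convert one_mem (frattini P) using 1
    exact Subtype.ext (by simp [conjP, hall v v.2, hym])
  -- the twist of a nontrivial power
  have hw : ∀ (v : P), (QuotientGroup.mk v : P ⧸ frattini P) ^ Nat.card Q = ∏ u : Q, a (uN u) v := by
    intro v
    have hA : ∏ i ∈ Finset.range m, ∏ u : Q, a (uN u * yN ^ i) v = 1 := by
      rw [Finset.prod_comm]; exact Finset.prod_eq_one fun u _ => hzero (uN u) v
    have hB : ∏ i ∈ Finset.range m, ∏ u : Q, a (uN u * yN ^ i * (uN u)⁻¹) v = 1 := by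
      rw [Finset.prod_comm]
      refine Finset.prod_eq_one fun u _ => ?_
      refine Eq.trans (Finset.prod_congr rfl fun i _ => ?_) (hzero (uN u) (conjP (uN u)⁻¹ v))
      show QuotientGroup.mk _ = QuotientGroup.mk _
      congr 1
      exact Subtype.ext (by simp [conjP, mul_assoc])
    obtain ⟨n, rfl⟩ : ∃ n, m = n + 1 := ⟨m - 1, by omega⟩
    rw [Finset.prod_range_succ'] at hA hB
    have heq : ∀ i ∈ Finset.range n, ∏ u : Q, a (uN u * yN ^ (i + 1)) v = ∏ u : Q, a (uN u * yN ^ (i + 1) * (uN u)⁻¹) v := by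
      intro i hi
      rw [Finset.mem_range] at hi
      have hmem : ∀ u : Q, (u : G) * (y ^ (i + 1) * (u : G)⁻¹ * (y ^ (i + 1))⁻¹) ∈ Q := fun u =>
        mul_mem u.2 ((mem_normalizer_iff.mp (pow_mem hyQ (i + 1)) _).mp (inv_mem u.2))
      let f : Q → Q := fun u => ⟨_, hmem u⟩
      have hf : Function.Injective f := fun s t e => by
        have e' : (s : G) * (y ^ (i + 1) * (s : G)⁻¹ * (y ^ (i + 1))⁻¹) = (t : G) * (y ^ (i + 1) * (t : G)⁻¹ * (y ^ (i + 1))⁻¹) :=
          congrArg Subtype.val e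
        have : ((t : G)⁻¹ * s) = 1 := hfpf (i + 1) (by omega) (by omega) _ (mul_mem (inv_mem t.2) s.2) (by
          have h2 := congrArg (fun z => (t : G)⁻¹ * z * y ^ (i + 1) * (s : G)) e'
          group at h2 ⊢
          exact h2.symm)
        exact Subtype.ext (inv_mul_eq_one.mp this).symm
      refine (Fintype.prod_bijective f (Finite.injective_iff_bijective.mp hf) _ _ fun u => ?_).symm
      congr 1
      exact Subtype.ext (by simp [f, uN, yN, mul_assoc])
    rw [Finset.prod_congr rfl heq] at hA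
    have h0 := mul_left_cancel (hA.trans hB.symm)
    have e1 : ∀ u : Q, a (uN u * yN ^ 0) v = a (uN u) v := fun u => by rw [pow_zero, mul_one]
    have e2 : ∀ u : Q, a (uN u * yN ^ 0 * (uN u)⁻¹) v = QuotientGroup.mk v := fun u => by
      rw [pow_zero, mul_one, mul_inv_cancel]
      show QuotientGroup.mk _ = _
      congr 1
      exact Subtype.ext (by simp [conjP])
    rw [Finset.prod_congr rfl (fun u _ => e1 u), Finset.prod_congr rfl (fun u _ => e2 u), Finset.prod_const, Finset.card_univ,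
      ← Nat.card_eq_fintype_card] at h0
    exact h0.symm
  set v : P := ⟨v₀, hv₀⟩
  set v' := conjP (uN ⟨u₀, hu₀⟩) v with hv'
  have hpow : (QuotientGroup.mk v' : P ⧸ frattini P) ^ Nat.card Q = (QuotientGroup.mk v) ^ Nat.card Q := by
    rw [hw, hw]
    refine Fintype.prod_equiv (Equiv.mulRight (⟨u₀, hu₀⟩ : Q)) _ _ fun u => ?_
    show QuotientGroup.mk _ = QuotientGroup.mk _
    congr 1
    exact Subtype.ext (by simp [conjP, hv', uN, mul_assoc])
  obtain ⟨e, he⟩ := (IsPGroup.iff_card).mp (hP.to_quotient (frattini P))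
  have hcop' : (Nat.card (P ⧸ frattini P)).Coprime (Nat.card Q) := by
    rw [he]; exact (hcop.symm).pow_left e
  have hfin := (powCoprime hcop').injective hpow
  rw [QuotientGroup.eq_iff_div_mem, div_eq_mul_inv] at hfin
  exact ⟨_, hfin, by simp [hv', conjP, uN, v]⟩

theorem exists_order (N : Subgroup G) [N.Normal] (Fb Hb : Subgroup (G ⧸ N)) [Fb.Normal]
    (hHb : Cfsg.IsFrobeniusComplement Hb) (hker : Cfsg.frobeniusKernel Hb = (Fb : Set (G ⧸ N)))
    (hcyc : IsCyclic Hb) (hcop : (Nat.card Fb).Coprime (Nat.card N))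
    (hnot : ¬ Fb ≤ (centralizer (N : Set G)).map (QuotientGroup.mk' N)) :
    ∃ p : ℕ, p.Prime ∧ p ∣ Nat.card N ∧ ∃ g : G, orderOf g = p * Nat.card Hb := by
  classical
  set π := QuotientGroup.mk' N with hπ
  have hπker : ∀ x, π x = 1 → x ∈ N := fun x hx => (QuotientGroup.eq_one_iff x).mp hx
  obtain ⟨hb, hgen⟩ := hcyc.exists_generator
  set m := Nat.card Hb
  have hordh : orderOf (hb : G ⧸ N) = m := by
    rw [Subgroup.orderOf_coe]; exact orderOf_eq_card_of_forall_mem_zpowers hgen
  have hm : 1 < m := by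
    have := (one_lt_card_iff_ne_bot Hb).mpr hHb.1
    exact this
  -- fixed points
  have hfp : ∀ h ∈ Hb, h ≠ 1 → ∀ u ∈ Fb, h * u = u * h → u = 1 := by
    intro h hh h1 u hu hc
    have hmem : u ∈ Hb := Cfsg.Lib.Frobenius.mem_of_commute hHb hh h1 hc.symm
    have hu' : u ∈ Cfsg.frobeniusKernel Hb := hker ▸ hu
    rcases hu' with e | e
    · exact e
    · exact absurd hmem (by simpa using e 1)
  have hnil : Group.IsNilpotent Fb := by
    obtain ⟨r, hr, hrd⟩ := Nat.exists_prime_and_dvd hm.ne'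
    haveI := Fact.mk hr
    obtain ⟨t, ht⟩ := exists_prime_orderOf_dvd_card' r hrd
    refine Cfsg.Lib.Thompson.isNilpotent_of_fpf (MulAut.conjNormal (H := Fb) (t : G ⧸ N)).toMonoidHom (fun u hu => ?_) hr ?_
    · refine Subtype.ext (hfp t t.2 (fun e => hr.ne_one (by rw [← ht, show t = 1 from Subtype.ext e, orderOf_one])) u u.2 ?_)
      have := congrArg Subtype.val hu
      exact mul_inv_eq_iff_eq_mul.mp this
    · funext u
      apply Subtype.ext
      have : ∀ n : ℕ, (((⇑(MulAut.conjNormal (H := Fb) (t : G ⧸ N)).toMonoidHom)^[n] u : Fb) : G ⧸ N) = (t : G ⧸ N) ^ n * u * ((t : G ⧸ N) ^ n)⁻¹ := by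
        intro n
        induction n with
        | zero => simp
        | succ n ih =>
          rw [Function.iterate_succ_apply']
          show (t : G ⧸ N) * _ * (t : G ⧸ N)⁻¹ = _
          rw [ih, pow_succ']; group
      rw [this, ← SubmonoidClass.coe_pow, ← ht, pow_orderOf_eq_one]
      simp
  set F := Fb.comap π with hF
  have hNF : N ≤ F := fun n hn => by
    show π n ∈ Fb
    rw [show π n = 1 from (QuotientGroup.eq_one_iff n).mpr hn]; exact one_mem _
  have hFcard : Nat.card F = Nat.card N * Nat.card Fb := by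
    have h := relIndex_comap (⊥ : Subgroup (G ⧸ N)) π F
    rw [MonoidHom.comap_bot, hπ, QuotientGroup.ker_mk', map_comap_eq_self_of_surjective (QuotientGroup.mk'_surjective N), relIndex_bot_left] at h
    rw [← h, ← (N.subgroupOf F).card_mul_index, Nat.card_congr (subgroupOfEquivOfLe hNF).toEquiv]; rfl
  -- a Sylow subgroup of the preimage that does not centralise `N`
  obtain ⟨q, hq, Q, hQF, hQp, hQc, hqN, hQnc⟩ : ∃ q : ℕ, q.Prime ∧ ∃ Q : Subgroup G, Q ≤ F ∧ IsPGroup q Q ∧
      Nat.card Q = q ^ (Nat.card Fb).factorization q ∧ ¬ q ∣ Nat.card N ∧ ¬ Q ≤ centralizer (N : Set G) := by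
    by_contra hnone
    apply hnot
    suffices h : Nat.card Fb ∣ Nat.card ↥(Fb ⊓ (centralizer (N : Set G)).map π) from
      inf_eq_left.mp (eq_of_le_of_card_ge inf_le_left (Nat.le_of_dvd Nat.card_pos h))
    refine (Nat.dvd_iff_prime_pow_dvd_dvd _ _).mpr fun q k hq hk => ?_
    rcases Nat.eq_zero_or_pos k with rfl | hk0
    · simp
    haveI := Fact.mk hq
    have hqN : ¬ q ∣ Nat.card N := fun h => hq.ne_one (Nat.eq_one_of_dvd_coprimes hcop ((dvd_pow_self q hk0.ne').trans hk) h)
    obtain ⟨P⟩ := (inferInstance : Nonempty (Sylow q F))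
    set Q := (P : Subgroup F).map F.subtype
    have hQp : IsPGroup q Q := P.2.map _
    have hQc : Nat.card Q = q ^ (Nat.card Fb).factorization q := by
      rw [Subgroup.card_subtype, P.card_eq_multiplicity, hFcard, Nat.factorization_mul Nat.card_pos.ne' Nat.card_pos.ne',
        Finsupp.add_apply, Nat.factorization_eq_zero_of_not_dvd hqN, zero_add]
    have hcentral : Q ≤ centralizer (N : Set G) := by_contra fun h => hnone ⟨q, hq, Q, map_subtype_le _, hQp, hQc, hqN, h⟩
    refine dvd_trans ?_ (card_dvd_of_le (le_inf (map_le_iff_le_comap.mpr (map_subtype_le _ : Q ≤ F)) (map_mono hcentral) : Q.map π ≤ _))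
    have hinj : Nat.card (Q.map π) = Nat.card Q := by
      refine (Nat.card_congr (Equiv.ofBijective (π.subgroupMap Q) ⟨?_, π.subgroupMap_surjective Q⟩)).symm
      refine (injective_iff_map_eq_one _).mpr fun u hu => ?_
      have huN : (u : G) ∈ N := hπker _ (congrArg Subtype.val hu)
      have h1 : orderOf (u : G) ∣ Nat.card N := Subgroup.orderOf_mk (u : G) huN ▸ orderOf_dvd_natCard _
      have h2 : orderOf (u : G) ∣ Nat.card Q := (Subgroup.orderOf_coe u).symm ▸ orderOf_dvd_natCard _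
      refine Subtype.ext (orderOf_eq_one_iff.mp (Nat.eq_one_of_dvd_coprimes ?_ h1 h2))
      rw [hQc]; exact ((hq.coprime_iff_not_dvd.mpr hqN).symm).pow_right _
    rw [hinj, hQc]
    exact pow_dvd_pow q ((hq.pow_dvd_iff_le_factorization Nat.card_pos.ne').mp hk)
  haveI := Fact.mk hq
  -- a Sylow subgroup of `N` normalised but not centralised
  obtain ⟨p, hp, P, hPN, hPp, hQP, hPcard, hQPc⟩ : ∃ p : ℕ, p.Prime ∧ ∃ P : Subgroup G, P ≤ N ∧ IsPGroup p P ∧
      Q ≤ normalizer (P : Set G) ∧ Nat.card P = p ^ (Nat.card N).factorization p ∧ ¬ Q ≤ centralizer (P : Set G) := by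
    by_contra hnone
    apply hQnc
    suffices h : Nat.card N ∣ Nat.card ↥(N ⊓ centralizer (Q : Set G)) by
      intro u hu
      rw [mem_centralizer_iff]
      intro n hn
      have := inf_eq_left.mp (eq_of_le_of_card_ge (inf_le_left : N ⊓ centralizer (Q : Set G) ≤ N) (Nat.le_of_dvd Nat.card_pos h)) hn
      exact (mem_centralizer_iff.mp this u hu).symm
    refine (Nat.dvd_iff_prime_pow_dvd_dvd _ _).mpr fun p k hp hk => ?_
    haveI := Fact.mk hp
    let φ : Q →* MulAut N := (MulAut.conjNormal (H := N)).comp Q.subtype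
    letI : MulAction Q (Sylow p N) := MulAction.compHom (Sylow p N) φ
    obtain ⟨S, hS⟩ := hQp.nonempty_fixed_point_of_prime_not_dvd_card (α := Sylow p N) (fun h => by
      obtain ⟨S⟩ := (inferInstance : Nonempty (Sylow p N))
      exact hqN (h.trans ((Sylow.card_dvd_index S).trans (index_dvd_card _))))
    set P := (S : Subgroup N).map N.subtype
    have hQP : Q ≤ normalizer (P : Set G) := fun u hu => mem_normalizer_fintype fun x hx => by
      obtain ⟨x, hx', rfl⟩ := hx
      have e : (φ ⟨u, hu⟩) • S = S := hS ⟨u, hu⟩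
      refine ⟨φ ⟨u, hu⟩ x, ?_, ?_⟩
      · show φ ⟨u, hu⟩ x ∈ (S : Subgroup N)
        have : φ ⟨u, hu⟩ x ∈ ((φ ⟨u, hu⟩) • S : Sylow p N) := Subgroup.mem_map_of_mem _ hx'
        rwa [e] at this
      · simp [φ, MulAut.conjNormal_apply]
    have hc : Nat.card P = p ^ (Nat.card N).factorization p := by rw [Subgroup.card_subtype, S.card_eq_multiplicity]
    have hcent : Q ≤ centralizer (P : Set G) :=
      by_contra fun h => hnone ⟨p, hp, P, map_subtype_le _, S.2.map _, hQP, hc, h⟩
    refine dvd_trans ?_ (card_dvd_of_le (le_inf (map_subtype_le _) fun x hx => mem_centralizer_iff.mpr fun u hu =>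
      (mem_centralizer_iff.mp (hcent hu) x hx).symm : P ≤ _))
    rw [hc]
    exact pow_dvd_pow p ((hp.pow_dvd_iff_le_factorization Nat.card_pos.ne').mp hk)
  haveI := Fact.mk hp
  have hpN : p ∣ Nat.card N := by
    by_contra h
    rw [Nat.factorization_eq_zero_of_not_dvd h, pow_zero, card_eq_one] at hPcard
    refine hQPc fun u _ => mem_centralizer_iff.mpr fun x hx => ?_
    rw [hPcard, SetLike.mem_coe, mem_bot] at hx
    rw [hx, one_mul, mul_one]
  -- the lift of the generator
  have hcopQN : (Nat.card N).Coprime (Nat.card Q) := by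
    rw [hQc]; exact ((hq.coprime_iff_not_dvd.mpr hqN).symm).pow_right _
  have hQinj : ∀ u ∈ Q, π u = 1 → u = 1 := fun u hu h => orderOf_eq_one_iff.mp (Nat.eq_one_of_dvd_coprimes hcopQN
    (Subgroup.orderOf_mk u (hπker u h) ▸ orderOf_dvd_natCard _) (Subgroup.orderOf_mk u hu ▸ orderOf_dvd_natCard _))
  have hQb : Nat.card (Q.map π) = Nat.card Q := (Nat.card_congr (Equiv.ofBijective (π.subgroupMap Q)
    ⟨(injective_iff_map_eq_one _).mpr fun u hu => Subtype.ext (hQinj u u.2 (congrArg Subtype.val hu)), π.subgroupMap_surjective Q⟩)).symm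
  haveI hQbn : (Q.map π).Normal := by
    have hle : Q.map π ≤ Fb := map_le_iff_le_comap.mpr hQF
    let Sb : Sylow q Fb := Sylow.ofCard ((Q.map π).subgroupOf Fb) (by
      rw [Nat.card_congr (subgroupOfEquivOfLe hle).toEquiv, hQb, hQc])
    haveI : (Sb : Subgroup Fb).Normal := (Group.isNilpotent_of_finite_tfae.out 0 3 rfl rfl).mp hnil q inferInstance Sb
    haveI := Sylow.characteristic_of_normal Sb inferInstance
    have e : Q.map π = (Sb : Subgroup Fb).map Fb.subtype := by
      rw [Sylow.coe_ofCard, subgroupOf_map_subtype, inf_eq_left.mpr hle]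
    rw [e]; infer_instance
  set R := normalizer (P : Set G) with hR
  have hNR : ∀ g : G, ∃ r ∈ R, π r = π g := by
    obtain ⟨S0⟩ := (inferInstance : Nonempty (Sylow p N))
    let S : Sylow p N := Sylow.ofCard (P.subgroupOf N) (by
      rw [Nat.card_congr (subgroupOfEquivOfLe hPN).toEquiv, hPcard])
    have htop := Sylow.normalizer_sup_eq_top S
    rw [Sylow.coe_ofCard, subgroupOf_map_subtype, inf_eq_left.mpr hPN] at htop
    intro g
    obtain ⟨r, hr, n, hn, rfl⟩ := Set.mem_mul.mp (by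
      rw [← coe_mul_of_left_le_normalizer_right R N le_normalizer_of_normal, htop]; trivial : g ∈ ((R : Set G) * (N : Set G)))
    exact ⟨r, hr, by rw [map_mul, show π n = 1 from (QuotientGroup.eq_one_iff n).mpr hn, mul_one]⟩
  obtain ⟨r, hr, hπr⟩ := hNR (hb : G ⧸ N).out
  obtain ⟨y, hyP, hyQ, hπy⟩ : ∃ y ∈ R, y ∈ normalizer (Q : Set G) ∧ π y = hb := by
    set S := (Q.map π).comap π ⊓ R with hS
    have hQS : Q ≤ S := le_inf (le_comap_map π Q) hQP
    have hScard : Nat.card S ∣ Nat.card N * Nat.card Q := by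
      refine (card_dvd_of_le inf_le_left).trans ?_
      have hN' : N ≤ (Q.map π).comap π := fun n hn => by
        show π n ∈ Q.map π
        rw [show π n = 1 from (QuotientGroup.eq_one_iff n).mpr hn]; exact one_mem _
      have h := relIndex_comap (⊥ : Subgroup (G ⧸ N)) π ((Q.map π).comap π)
      rw [MonoidHom.comap_bot, hπ, QuotientGroup.ker_mk', map_comap_eq_self_of_surjective (QuotientGroup.mk'_surjective N), relIndex_bot_left] at h
      rw [← (N.subgroupOf _).card_mul_index, Nat.card_congr (subgroupOfEquivOfLe hN').toEquiv]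
      show _ * N.relIndex _ ∣ _
      rw [h, hQb]
    haveI : (S.subgroupOf R).Normal := by
      rw [hS, inf_subgroupOf_right]; infer_instance
    haveI := Fact.mk hq
    let QS : Subgroup (S.subgroupOf R) := (Q.subgroupOf R).subgroupOf (S.subgroupOf R)
    have hQS' : Q.subgroupOf R ≤ S.subgroupOf R := fun u hu => hQS hu
    have hQScard : Nat.card QS = Nat.card Q := by
      rw [Nat.card_congr (subgroupOfEquivOfLe hQS').toEquiv, Nat.card_congr (subgroupOfEquivOfLe hQP).toEquiv]
    let SQ : Sylow q (S.subgroupOf R) := Sylow.ofCard QS (by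
      rw [hQScard, Nat.card_congr (subgroupOfEquivOfLe (inf_le_right : S ≤ R)).toEquiv]
      have hdiv : q ^ (Nat.card S).factorization q ∣ Nat.card Q :=
        ((hq.coprime_iff_not_dvd.mpr hqN).pow_left _).dvd_of_dvd_mul_left ((Nat.ordProj_dvd _ q).trans hScard)
      have hdiv2 : Nat.card Q ∣ q ^ (Nat.card S).factorization q := by
        rw [hQc]
        exact pow_dvd_pow q ((hq.pow_dvd_iff_le_factorization Nat.card_pos.ne').mp (hQc ▸ card_dvd_of_le hQS))
      exact Nat.dvd_antisymm hdiv2 hdiv)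
    have htop := Sylow.normalizer_sup_eq_top SQ
    rw [Sylow.coe_ofCard, subgroupOf_map_subtype, inf_eq_left.mpr hQS'] at htop
    obtain ⟨a, ha, s, hs, has⟩ := Set.mem_mul.mp (by
      rw [← coe_mul_of_left_le_normalizer_right _ _ le_normalizer_of_normal, htop]; trivial :
      (⟨r, hr⟩ : R) ∈ ((normalizer ((Q.subgroupOf R : Subgroup R) : Set R) : Set R) * (S.subgroupOf R : Set R)))
    obtain ⟨u, hu, hus⟩ := hs.1
    have haQ : (a : G) ∈ normalizer (Q : Set G) := mem_normalizer_fintype fun x hx =>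
      (mem_normalizer_iff.mp ha ⟨x, hQP hx⟩).mp hx
    refine ⟨(a : G) * u, mul_mem a.2 (hQP hu), mul_mem haQ (le_normalizer hu), ?_⟩
    have e : π r = π (a : G) * π (s : G) := by rw [← map_mul, ← Subgroup.coe_mul, has]
    rw [map_mul, hus]
    exact e.symm.trans (hπr.trans (QuotientGroup.out_eq' _))
  have hmdvd : m ∣ orderOf y := hordh ▸ hπy ▸ orderOf_map_dvd π y
  obtain ⟨c, hc⟩ := hmdvd
  have hymN : y ^ m ∈ N := hπker _ (by rw [map_pow, hπy, ← hordh, pow_orderOf_eq_one])
  by_cases hc1 : c = 1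
  swap
  · obtain ⟨s, hs, hsc⟩ := Nat.exists_prime_and_dvd hc1
    have hordm : orderOf (y ^ m) = c := by
      rw [orderOf_pow_of_dvd (by omega) ⟨c, hc⟩, hc, Nat.mul_div_cancel_left _ (by omega)]
    have hsN : s ∣ Nat.card N := hsc.trans (hordm ▸ Subgroup.orderOf_mk _ hymN ▸ orderOf_dvd_natCard _)
    obtain ⟨d, rfl⟩ := hsc
    have hd0 : d ≠ 0 := fun e => (orderOf_pos y).ne' (by rw [hc, e, mul_zero, mul_zero])
    exact ⟨s, hs, hsN, y ^ d, by
      rw [orderOf_pow_of_dvd hd0 ⟨m * s, by rw [hc]; ring⟩, hc, ← mul_assoc, Nat.mul_div_cancel _ (Nat.pos_of_ne_zero hd0), mul_comm]⟩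
  subst hc1
  rw [mul_one] at hc
  obtain ⟨v, hv, hvy⟩ : ∃ v ∈ P, (v * y) ^ m ≠ 1 := by
    by_contra hall
    push Not at hall
    refine hQPc (Cfsg.Lib.Coprime.le_centralizer_of_frattini hQP ?_ fun a ha k hk => ?_)
    · refine Nat.Coprime.coprime_dvd_right (card_subgroup_dvd_card (frattini P)) ?_
      rw [hQc, hPcard]
      exact Nat.Coprime.pow _ _ ((Nat.coprime_primes hq hp).mpr fun e => hqN (e ▸ hpN))
    · refine conj_eq_mod_frattini hPp ?_ hQP hyP hyQ (by omega) (by rw [← hc, pow_orderOf_eq_one]) ?_ hall ha hk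
      · rw [hQc]; exact Nat.Coprime.pow_left _ ((Nat.coprime_primes hq hp).mpr fun e => hqN (e ▸ hpN))
      · intro i hi him u hu he
        refine hQinj u hu (hfp _ (pow_mem hb.2 i) ?_ _ (hQF hu) ?_)
        · intro e
          have := Nat.le_of_dvd hi (orderOf_dvd_of_pow_eq_one e)
          rw [hordh] at this; omega
        · rw [← hπy, ← map_pow, ← map_mul, ← map_mul, he]
  have hπvy : π (v * y) = hb := by
    rw [map_mul, show π v = 1 from (QuotientGroup.eq_one_iff v).mpr (hPN hv), one_mul, hπy]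
  obtain ⟨d, hd⟩ : m ∣ orderOf (v * y) := hordh ▸ hπvy ▸ orderOf_map_dvd π (v * y)
  have hmem : (v * y) ^ m ∈ P := by
    have key : ∀ k : ℕ, (v * y) ^ k * (y ^ k)⁻¹ ∈ P := by
      intro k
      induction k with
      | zero => simp
      | succ k ih =>
        rw [pow_succ, pow_succ, show (v * y) ^ k * (v * y) * (y ^ k * y)⁻¹
          = (v * y) ^ k * (y ^ k)⁻¹ * (y ^ k * v * (y ^ k)⁻¹) by group]
        exact mul_mem ih ((mem_normalizer_iff.mp (pow_mem hyP k) _).mp hv)
    simpa [show y ^ m = 1 by rw [← hc, pow_orderOf_eq_one]] using key m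
  have hordm : orderOf ((v * y) ^ m) = d := by
    rw [orderOf_pow_of_dvd (by omega) ⟨d, hd⟩, hd, Nat.mul_div_cancel_left _ (by omega)]
  obtain ⟨i, hi⟩ := hPp ⟨_, hmem⟩
  obtain ⟨j, -, hj⟩ := (Nat.dvd_prime_pow hp).mp (orderOf_dvd_of_pow_eq_one (congrArg Subtype.val hi))
  obtain ⟨j', rfl⟩ : ∃ j', j = j' + 1 := ⟨j - 1, by
    have : j ≠ 0 := fun e => hvy (orderOf_eq_one_iff.mp (by rw [hj, e, pow_zero]))
    omega⟩
  rw [hordm] at hj
  subst hj
  exact ⟨p, hp, hpN, (v * y) ^ p ^ j', by
    rw [orderOf_pow_of_dvd (pow_ne_zero _ hp.ne_zero) ⟨m * p, by rw [hd]; ring⟩, hd, pow_succ', ← mul_assoc,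
      Nat.mul_div_cancel _ (pow_pos hp.pos _), mul_comm]⟩

end Cfsg.Lib.FrobeniusOrder
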