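import Mathlib.GroupTheory.GroupAction.Primitive
import Mathlib.GroupTheory.GroupAction.MultipleTransitivity
import Mathlib.InformationTheory.Hamming
import Mathlib.Tactic

/-!
The automorphism group of a Hamming space is primitive and not doubly transitive.
-/

namespace Cfsg.Lib.Hamming

open MulAction
open scoped Pointwise

variable {ι α Ω : Type*} [Fintype ι] [DecidableEq ι] [DecidableEq α]

/-- The isometries, seen on a set in bijection with the space. -/
def isoGroup (c : Ω ≃ (ι → α)) : Subgroup (Equiv.Perm Ω) where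
  carrier := {σ | ∀ a b, hammingDist (c (σ a)) (c (σ b)) = hammingDist (c a) (c b)}
  one_mem' := fun _ _ => rfl
  mul_mem' := fun {σ τ} hσ hτ a b => (hσ (τ a) (τ b)).trans (hτ a b)
  inv_mem' := fun {σ} hσ a b => by
    have := hσ (σ⁻¹ a) (σ⁻¹ b)
    simp only [Equiv.Perm.inv_def, Equiv.apply_symm_apply] at this ⊢
    exact this.symm

/-- A permutation of the coordinates followed by a permutation of the values of each. -/
def mono (c : Ω ≃ (ι → α)) (τ : Equiv.Perm ι) (π : ι → Equiv.Perm α) : Equiv.Perm Ω :=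
  c.trans (((Equiv.arrowCongr τ.symm (Equiv.refl α)).trans (Equiv.piCongrRight π)).trans c.symm)

theorem mono_apply (c : Ω ≃ (ι → α)) (τ : Equiv.Perm ι) (π : ι → Equiv.Perm α) (a : Ω) (k : ι) :
    c (mono c τ π a) k = π k (c a (τ k)) := by
  simp [mono]

theorem mono_mem (c : Ω ≃ (ι → α)) (τ : Equiv.Perm ι) (π : ι → Equiv.Perm α) : mono c τ π ∈ isoGroup c := by
  intro a b
  simp only [hammingDist]
  refine Finset.card_equiv τ fun k => ?_
  simp [mono_apply]

theorem exists_perm_two {a b a' b' : α} (h : a ≠ b) (h' : a' ≠ b') : ∃ π : Equiv.Perm α, π a = a' ∧ π b = b' := by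
  refine ⟨Equiv.swap (Equiv.swap a a' b) b' * Equiv.swap a a', ?_, ?_⟩
  · rw [Equiv.Perm.mul_apply, Equiv.swap_apply_left, Equiv.swap_apply_of_ne_of_ne ?_ h']
    intro e
    have := (Equiv.swap a a').injective (a₁ := a) (a₂ := b) (by rw [Equiv.swap_apply_left, ← e])
    exact h this
  · rw [Equiv.Perm.mul_apply, Equiv.swap_apply_left]

theorem isPretransitive_isoGroup (c : Ω ≃ (ι → α)) : IsPretransitive (isoGroup c) Ω :=
  ⟨fun a b => ⟨⟨_, mono_mem c 1 fun k => Equiv.swap (c a k) (c b k)⟩,
    c.injective (funext fun k => by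
      show c (mono c 1 _ a) k = _
      rw [mono_apply]; simp)⟩⟩

theorem isPreprimitive_isoGroup (c : Ω ≃ (ι → α)) (hα : ∀ x y : α, ∃ z, z ≠ x ∧ z ≠ y) :
    IsPreprimitive (isoGroup c) Ω := by
  haveI := isPretransitive_isoGroup c
  refine ⟨fun {B} hB => ?_⟩
  by_contra hnt
  simp only [IsTrivialBlock, not_or, Set.not_subsingleton_iff] at hnt
  obtain ⟨⟨a, ha, b, hb, hab⟩, hne⟩ := hnt
  have hP : ∀ σ ∈ isoGroup c, ∀ p ∈ B, σ p ∈ B → ∀ q ∈ B, σ q ∈ B := fun σ hσ p hp hσp q hq => by
    have : (⟨σ, hσ⟩ : isoGroup c) • q ∈ (⟨σ, hσ⟩ : isoGroup c) • B := Set.smul_mem_smul_set hq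
    rw [hB.smul_eq_of_mem (g := (⟨σ, hσ⟩ : isoGroup c)) hp hσp] at this
    exact this
  -- from one neighbour to all
  have step : ∀ p ∈ B, ∀ q ∈ B, ∀ i, c p i ≠ c q i → (∀ k, k ≠ i → c p k = c q k) →
      ∀ t j, c p j ≠ c t j → (∀ k, k ≠ j → c p k = c t k) → t ∈ B := by
    intro p hp q hq i hi hpq t j hj hpt
    obtain ⟨π, h1, h2⟩ := exists_perm_two hi hj
    set τ := Equiv.swap i j
    set P : ι → Equiv.Perm α := fun k => if k = j then π else Equiv.swap (c p (τ k)) (c p k) with hP'
    have hfix : mono c τ P p = p := c.injective (funext fun k => by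
      rw [mono_apply, hP']
      by_cases hk : k = j
      · subst hk; simp [τ, h1]
      · simp [hk])
    have ht : mono c τ P q = t := c.injective (funext fun k => by
      rw [mono_apply, hP']
      by_cases hk : k = j
      · subst hk; simp [τ, h2]
      · have hti : τ k ≠ i := fun e => hk (τ.injective (e.trans (Equiv.swap_apply_right i j).symm))
        simp [hk, ← hpq _ hti, hpt k hk])
    exact ht ▸ hP _ (mono_mem c τ P) p hp (by rw [hfix]; exact hp) q hq
  obtain ⟨i, hi⟩ := Function.ne_iff.mp (c.injective.ne hab)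
  obtain ⟨w, hwa, hwb⟩ := hα (c a i) (c b i)
  set P : ι → Equiv.Perm α := Function.update 1 i (Equiv.swap (c b i) w) with hPdef
  have hfixa : mono c 1 P a = a := c.injective (funext fun k => by
    rw [mono_apply, hPdef]
    by_cases hk : k = i
    · subst hk; simp [Equiv.swap_apply_of_ne_of_ne hi hwa.symm]
    · simp [hk])
  have hz : mono c 1 P b ∈ B := hP _ (mono_mem c 1 P) a ha (by rw [hfixa]; exact ha) b hb
  have hzi : c b i ≠ c (mono c 1 P b) i := by rw [mono_apply, hPdef]; simpa using hwb.symm
  have hzk : ∀ k, k ≠ i → c b k = c (mono c 1 P b) k := fun k hk => by rw [mono_apply, hPdef]; simp [hk]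
  -- every point is reached
  have all : ∀ d, ∀ t : Ω, hammingDist (c b) (c t) = d → t ∈ B ∧ ∃ s ∈ B, ∃ i, c t i ≠ c s i ∧ ∀ k, k ≠ i → c t k = c s k := by
    intro d
    induction d using Nat.strong_induction_on with
    | h d IH =>
      intro t ht
      by_cases hbt : c b = c t
      · obtain rfl := c.injective hbt
        exact ⟨hb, _, hz, i, hzi, hzk⟩
      obtain ⟨j, hj⟩ := Function.ne_iff.mp hbt
      set u := c.symm (Function.update (c t) j (c b j)) with hu
      have hlt : hammingDist (c b) (c u) < d := by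
        rw [← ht, hu, Equiv.apply_symm_apply]
        refine Finset.card_lt_card (Finset.ssubset_iff_of_subset (fun k hk => ?_) |>.mpr ⟨j, by simpa using hj, by simp⟩)
        simp only [Finset.mem_filter, Finset.mem_univ, true_and] at hk ⊢
        by_cases hkj : k = j
        · subst hkj; simp at hk
        · simpa [hkj] using hk
      obtain ⟨huB, s, hs, l, hl, hsl⟩ := IH _ hlt u rfl
      have huj : c u j ≠ c t j := by rw [hu, Equiv.apply_symm_apply, Function.update_self]; exact hj
      have hut : ∀ k, k ≠ j → c u k = c t k := fun k hk => by rw [hu, Equiv.apply_symm_apply, Function.update_of_ne hk]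
      exact ⟨step u huB s hs l hl hsl t j huj hut, u, huB, j, huj.symm, fun k hk => (hut k hk).symm⟩
  exact hne (Set.eq_univ_of_forall fun t => (all _ t rfl).1)

theorem not_twoTransitive (c : Ω ≃ (ι → α)) (hα : ∀ x : α, ∃ z, z ≠ x) (i j : ι) (hij : i ≠ j) (o : Ω) :
    ¬ IsMultiplyPretransitive (isoGroup c) Ω 2 := by
  intro h
  obtain ⟨u, hu⟩ := hα (c o i)
  obtain ⟨v, hv⟩ := hα (c o j)
  set p := c.symm (Function.update (c o) i u)
  set q := c.symm (Function.update (Function.update (c o) i u) j v)
  have hp : o ≠ p := fun e => hu (by have := congrArg (fun z => c z i) e; simpa [p] using this.symm)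
  have hq : o ≠ q := fun e => hu (by have := congrArg (fun z => c z i) e; simpa [q, hij] using this.symm)
  obtain ⟨g, g1, g2⟩ := is_two_pretransitive_iff.mp h hp hq
  have e := g.2 o p
  rw [show (g : Equiv.Perm Ω) o = o from g1, show (g : Equiv.Perm Ω) p = q from g2] at e
  simp only [hammingDist, p, q, Equiv.apply_symm_apply] at e
  have h1 : (Finset.univ.filter fun k => c o k ≠ Function.update (c o) i u k) = {i} := by
    ext k; by_cases hk : k = i <;> simp [hk, hu.symm]
  have h2 : (Finset.univ.filter fun k => c o k ≠ Function.update (Function.update (c o) i u) j v k) = {i, j} := by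
    ext k
    by_cases hki : k = i
    · subst hki; simp [hij, hu.symm]
    · by_cases hkj : k = j
      · subst hkj; simp [hv.symm]
      · simp [hki, hkj]
  rw [h1, h2, Finset.card_singleton, Finset.card_pair hij] at e
  omega

end Cfsg.Lib.Hamming
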