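import Mathlib.GroupTheory.GroupAction.Jordan
import Mathlib.Combinatorics.Enumerative.DoubleCounting
import Mathlib.Tactic

/-!
Jordan sets of primitive groups.
-/

namespace Cfsg.Lib.JordanSets

open MulAction
open scoped Pointwise

variable {G Ω : Type*} [Group G] [MulAction G Ω]

/-- Any point of the set goes to any other by an element fixing the outside. -/
def Moves (G : Type*) {Ω : Type*} [Group G] [MulAction G Ω] (Λ : Set Ω) : Prop :=
  ∀ x ∈ Λ, ∀ y ∈ Λ, ∃ g : G, (∀ z ∉ Λ, g • z = z) ∧ g • x = y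

theorem Moves.union {A B : Set Ω} (hA : Moves G A) (hB : Moves G B) (h : (A ∩ B).Nonempty) : Moves G (A ∪ B) := by
  obtain ⟨w, hwA, hwB⟩ := h
  have to_w : ∀ x ∈ A ∪ B, ∃ g : G, (∀ z ∉ A ∪ B, g • z = z) ∧ g • x = w := by
    rintro x (hx | hx)
    · exact (hA x hx w hwA).imp fun g hg => ⟨fun z hz => hg.1 z (fun h => hz (Or.inl h)), hg.2⟩
    · exact (hB x hx w hwB).imp fun g hg => ⟨fun z hz => hg.1 z (fun h => hz (Or.inr h)), hg.2⟩
  intro x hx y hy
  obtain ⟨g, hg, hgx⟩ := to_w x hx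
  obtain ⟨k, hk, hky⟩ := to_w y hy
  exact ⟨k⁻¹ * g, fun z hz => by rw [mul_smul, hg z hz, inv_smul_eq_iff, hk z hz],
    by rw [mul_smul, hgx, inv_smul_eq_iff, hky]⟩

theorem Moves.smul {A : Set Ω} (hA : Moves G A) (g : G) : Moves G (g • A) := by
  rintro _ ⟨x, hx, rfl⟩ _ ⟨y, hy, rfl⟩
  obtain ⟨k, hk, hkx⟩ := hA x hx y hy
  refine ⟨g * k * g⁻¹, fun z hz => ?_, ?_⟩
  · have : g⁻¹ • z ∉ A := fun h => hz (Set.mem_smul_set_iff_inv_smul_mem.mpr h)
    rw [mul_smul, mul_smul, hk _ this, smul_inv_smul]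
  · show (g * k * g⁻¹) • g • x = g • y
    rw [mul_smul, mul_smul, inv_smul_smul, hkx]

theorem pretransitive_ofFixing {Γ : Set Ω} (h : Moves G Γ) :
    IsPretransitive (fixingSubgroup G Γᶜ) (SubMulAction.ofFixingSubgroup G Γᶜ) := by
  refine ⟨fun ⟨x, hx⟩ ⟨y, hy⟩ => ?_⟩
  have hx' : x ∈ Γ := by simpa [SubMulAction.mem_ofFixingSubgroup_iff] using hx
  have hy' : y ∈ Γ := by simpa [SubMulAction.mem_ofFixingSubgroup_iff] using hy
  obtain ⟨g, hg, hgx⟩ := h x hx' y hy'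
  exact ⟨⟨g, (mem_fixingSubgroup_iff G).mpr fun z hz => hg z hz⟩, Subtype.ext hgx⟩

variable [Finite G] [Finite Ω]

/-- Some translate contains one point and avoids two others. -/
theorem exists_translate (h2 : IsMultiplyPretransitive G Ω 2) {Γ : Set Ω} (hm1 : 1 < Γ.ncard) (hm : 2 * Γ.ncard ≤ Nat.card Ω)
    {a b d : Ω} (hab : a ≠ b) (had : a ≠ d) : ∃ g : G, a ∈ g • Γ ∧ b ∉ g • Γ ∧ d ∉ g • Γ := by
  classical
  haveI := Fintype.ofFinite G
  haveI := Fintype.ofFinite Ω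
  haveI : IsPretransitive G Ω := isPretransitive_of_is_two_pretransitive
  set m := Γ.ncard
  set n := Nat.card Ω
  let P : G → Finset Ω := fun g => (g • Γ).toFinset
  have hP : ∀ g, (P g).card = m := fun g => by rw [← Set.ncard_eq_toFinset_card', Set.ncard_smul_set]
  have hmem : ∀ g x, x ∈ P g ↔ x ∈ g • Γ := fun g x => Set.mem_toFinset
  have key1 : ∀ h g x, x ∈ P g ↔ h • x ∈ P (h * g) := fun h g x => by
    rw [hmem, hmem, mul_smul, Set.smul_mem_smul_set_iff]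
  set r := (Finset.univ.filter fun g => a ∈ P g).card
  set t := (Finset.univ.filter fun g => a ∈ P g ∧ b ∈ P g).card
  have hr : ∀ x, (Finset.univ.filter fun g => x ∈ P g).card = r := fun x => by
    obtain ⟨h, rfl⟩ := exists_smul_eq G a x
    exact (Finset.card_equiv (Equiv.mulLeft h) fun g => by simp [← key1 h g a]).symm
  have ht : ∀ x y, x ≠ y → (Finset.univ.filter fun g => x ∈ P g ∧ y ∈ P g).card = t := fun x y hne => by
    obtain ⟨h, h1, h2⟩ := is_two_pretransitive_iff.mp h2 hab hne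
    subst h1 h2
    exact (Finset.card_equiv (Equiv.mulLeft h) fun g => by simp [← key1 h g a, ← key1 h g b]).symm
  have e1 : n * r = Nat.card G * m := by
    have := Finset.sum_card_bipartiteAbove_eq_sum_card_bipartiteBelow (s := (Finset.univ : Finset Ω)) (t := (Finset.univ : Finset G)) (fun x g => x ∈ P g)
    simp only [Finset.bipartiteAbove, Finset.bipartiteBelow, hr, Finset.filter_univ_mem, hP, Finset.sum_const, smul_eq_mul, Finset.card_univ] at this
    simpa only [n, Nat.card_eq_fintype_card] using this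
  have e2 : (n * (n - 1)) * t = Nat.card G * (m * (m - 1)) := by
    have := Finset.sum_card_bipartiteAbove_eq_sum_card_bipartiteBelow (s := (Finset.univ : Finset Ω).offDiag) (t := (Finset.univ : Finset G)) (fun x g => x.1 ∈ P g ∧ x.2 ∈ P g)
    simp only [Finset.bipartiteAbove, Finset.bipartiteBelow] at this
    rw [Finset.sum_congr rfl (g := fun _ => t) (fun x hx => ht x.1 x.2 (Finset.mem_offDiag.mp hx).2.2), Finset.sum_const, smul_eq_mul,
      Finset.offDiag_card, Finset.card_univ, Finset.sum_congr rfl (g := fun _ => m * (m - 1)) (fun g _ => by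
        rw [show (Finset.univ.offDiag.filter fun x : Ω × Ω => x.1 ∈ P g ∧ x.2 ∈ P g) = (P g).offDiag by
          ext x; simp only [Finset.mem_filter, Finset.mem_offDiag, Finset.mem_univ, true_and]; tauto,
          Finset.offDiag_card, hP, Nat.mul_sub, mul_one]), Finset.sum_const, smul_eq_mul, Finset.card_univ] at this
    simpa only [n, Nat.card_eq_fintype_card, Nat.mul_sub, mul_one] using this
  by_contra hno
  push Not at hno
  have hle : r ≤ t + t := by
    rw [show r = (Finset.univ.filter fun g => a ∈ P g).card from rfl]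
    nth_rw 2 [← ht a d had]
    refine (Finset.card_le_card (t := (Finset.univ.filter fun g => a ∈ P g ∧ b ∈ P g) ∪ (Finset.univ.filter fun g => a ∈ P g ∧ d ∈ P g)) ?_).trans (Finset.card_union_le _ _)
    intro g hg
    simp only [Finset.mem_filter, Finset.mem_univ, true_and, Finset.mem_union, hmem] at hg ⊢
    by_cases hb : b ∈ g • Γ
    · exact Or.inl ⟨hg, hb⟩
    · exact Or.inr ⟨hg, hno g hg hb⟩
  have hG : 0 < Nat.card G := Nat.card_pos
  have h3 : Nat.card G * m * (n - 1) ≤ 2 * (Nat.card G * (m * (m - 1))) := by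
    rw [← e1, ← e2]
    calc n * r * (n - 1) = n * (n - 1) * r := by ring
      _ ≤ n * (n - 1) * (t + t) := Nat.mul_le_mul_left _ hle
      _ = 2 * (n * (n - 1) * t) := by ring
  have h4 : n - 1 ≤ 2 * (m - 1) := Nat.le_of_mul_le_mul_left (c := Nat.card G * m) (by
    calc Nat.card G * m * (n - 1) ≤ 2 * (Nat.card G * (m * (m - 1))) := h3
      _ = Nat.card G * m * (2 * (m - 1)) := by ring) (Nat.mul_pos hG (by omega))
  omega

theorem three_pretransitive (hprim : IsPreprimitive G Ω) {Γ : Set Ω} (h1 : 1 < Γ.ncard) (h2 : 2 * Γ.ncard ≤ Nat.card Ω)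
    (htr : Moves G Γ) : IsMultiplyPretransitive G Ω 3 := by
  classical
  set m := Γ.ncard
  set n := Nat.card Ω
  have hc0 : Γᶜ.ncard = n - m := by rw [Set.ncard_compl]
  have h2t : IsMultiplyPretransitive G Ω 2 :=
    hprim.is_two_pretransitive (s := Γᶜ) (n := n - m - 1) (by rw [hc0]; omega) (by show _ < n; omega) (pretransitive_ofFixing htr)
  obtain ⟨Λ, hΛ, hΛc⟩ : ∃ Λ : Set Ω, Moves G Λ ∧ Λᶜ.ncard = 2 := by
    suffices h : ∀ c, ∀ Λ : Set Ω, Moves G Λ → Λᶜ.ncard = c → 2 ≤ c → Γ.ncard ≤ Λ.ncard → ∃ Λ : Set Ω, Moves G Λ ∧ Λᶜ.ncard = 2 from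
      h _ Γ htr rfl (by rw [hc0]; omega) le_rfl
    intro c
    induction c using Nat.strong_induction_on with
    | h c IH =>
      intro Λ hΛ hc hc2 hmΛ
      rcases hc2.eq_or_lt with rfl | hc3
      · exact ⟨Λ, hΛ, hc⟩
      obtain ⟨g, ⟨w, hwg, hwΛ⟩, ⟨a, hag, haΛ⟩, hbound⟩ : ∃ g : G, (g • Γ ∩ Λ).Nonempty ∧ (g • Γ ∩ Λᶜ).Nonempty ∧ (g • Γ ∩ Λᶜ).ncard + 2 ≤ c := by
        by_cases hcm : c ≤ m
        · obtain ⟨a, b, d, ha, hb, hd, hab, had, hbd⟩ := (Set.two_lt_ncard_iff Λᶜ.toFinite).mp (by omega : 2 < Λᶜ.ncard)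
          obtain ⟨g, hga, hgb, hgd⟩ := exists_translate h2t h1 h2 hab had (G := G)
          have hle : (g • Γ ∩ Λᶜ).ncard + 2 ≤ c := by
            have := Set.ncard_le_ncard (show g • Γ ∩ Λᶜ ⊆ Λᶜ \ {b, d} from fun z hz => ⟨hz.2, by
              rintro (rfl | rfl); exacts [hgb hz.1, hgd hz.1]⟩)
            rw [Set.ncard_sdiff (Set.insert_subset hb (Set.singleton_subset_iff.mpr hd)), hc, Set.ncard_pair hbd] at this
            omega
          refine ⟨g, ?_, ⟨a, hga, ha⟩, hle⟩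
          by_contra h
          rw [Set.not_nonempty_iff_eq_empty] at h
          have := Set.ncard_inter_add_ncard_sdiff_eq_ncard (g • Γ) Λᶜ
          rw [Set.sdiff_compl, h, Set.ncard_empty, Set.ncard_smul_set] at this
          omega
        · obtain ⟨x, hx, y, hy, hxy⟩ := (Set.one_lt_ncard).mp h1
          obtain ⟨g, hgx, hgy⟩ : ∃ g : G, x ∈ g • Λ ∧ y ∉ g • Λ := by
            haveI := hprim
            refine MulAction.IsPreprimitive.exists_mem_smul_and_notMem_smul Λ.toFinite (Set.nonempty_of_ncard_ne_zero (by omega)) ?_ hxy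
            intro h
            rw [h, Set.compl_univ, Set.ncard_empty] at hc
            omega
          have e1 : g⁻¹ • x ∈ Λ := Set.mem_smul_set_iff_inv_smul_mem.mp hgx
          have e2 : g⁻¹ • y ∈ Λᶜ := fun h => hgy (Set.mem_smul_set_iff_inv_smul_mem.mpr h)
          refine ⟨g⁻¹, ⟨_, Set.smul_mem_smul_set hx, e1⟩, ⟨_, Set.smul_mem_smul_set hy, e2⟩, ?_⟩
          have := Set.ncard_lt_ncard (show g⁻¹ • Γ ∩ Λᶜ ⊂ g⁻¹ • Γ from
            ⟨Set.inter_subset_left, fun h => (h (Set.smul_mem_smul_set hx)).2 e1⟩)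
          rw [Set.ncard_smul_set] at this
          omega
      have hcompl : (Λ ∪ g • Γ)ᶜ = Λᶜ \ (g • Γ ∩ Λᶜ) := by
        ext z; simp only [Set.mem_compl_iff, Set.mem_union, Set.mem_sdiff, Set.mem_inter_iff]; tauto
      have hpos : 0 < (g • Γ ∩ Λᶜ).ncard := (Set.ncard_pos).mpr ⟨a, hag, haΛ⟩
      refine IH _ (by omega : c - (g • Γ ∩ Λᶜ).ncard < c) (Λ ∪ g • Γ) (hΛ.union (htr.smul g) ⟨w, hwΛ, hwg⟩) ?_ (by omega)
        (hmΛ.trans (Set.ncard_le_ncard Set.subset_union_left))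
      rw [hcompl, Set.ncard_sdiff Set.inter_subset_right, hc]
  obtain ⟨p, q, hpq, hΛpq⟩ := Set.ncard_eq_two.mp hΛc
  refine ⟨fun x y => ?_⟩
  have key : ∀ z : Fin 3 ↪ Ω, ∃ g : G, g • z 0 = p ∧ g • z 1 = q ∧ g • z 2 ∈ Λ := fun z => by
    obtain ⟨g, g0, g1⟩ := is_two_pretransitive_iff.mp h2t (z.injective.ne (show (0 : Fin 3) ≠ 1 by decide)) hpq
    refine ⟨g, g0, g1, by_contra fun h => ?_⟩
    have : g • z 2 ∈ ({p, q} : Set Ω) := hΛpq ▸ h
    rcases this with e | e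
    · exact z.injective.ne (show (2 : Fin 3) ≠ 0 by decide) (smul_left_cancel g (e.trans g0.symm))
    · exact z.injective.ne (show (2 : Fin 3) ≠ 1 by decide) (smul_left_cancel g (e.trans g1.symm))
  obtain ⟨g, g0, g1, g2⟩ := key x
  obtain ⟨k, k0, k1, k2⟩ := key y
  obtain ⟨j, hj, hjx⟩ := hΛ _ g2 _ k2
  have hpΛ : p ∉ Λ := (hΛpq.symm.subset (Or.inl rfl))
  have hqΛ : q ∉ Λ := (hΛpq.symm.subset (Or.inr rfl))
  refine ⟨k⁻¹ * j * g, Function.Embedding.ext fun i => ?_⟩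
  show (k⁻¹ * j * g) • x i = y i
  rw [mul_smul, mul_smul, inv_smul_eq_iff]
  fin_cases i
  · show j • g • x 0 = k • y 0
    rw [g0, k0, hj p hpΛ]
  · show j • g • x 1 = k • y 1
    rw [g1, k1, hj q hqΛ]
  · exact hjx

omit [Finite G] in
theorem preprimitive_of_quasiprimitive [FaithfulSMul G Ω] (hqp : ∀ N : Subgroup G, N.Normal → N ≠ ⊥ → IsPretransitive N Ω)
    {Γ : Set Ω} (h1 : 1 < Γ.ncard)
    [hJp : IsPreprimitive (fixingSubgroup G Γᶜ) (SubMulAction.ofFixingSubgroup G Γᶜ)] : IsPreprimitive G Ω := by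
  classical
  set J := fixingSubgroup G Γᶜ
  set X := SubMulAction.ofFixingSubgroup G Γᶜ
  have hmX : ∀ x, x ∈ X ↔ x ∈ Γ := fun x => by simp [X, SubMulAction.mem_ofFixingSubgroup_iff]
  obtain ⟨x₀, hx₀, x₁, hx₁, h01⟩ := (Set.one_lt_ncard).mp h1
  obtain ⟨j₀, hj₀⟩ := exists_smul_eq J (⟨x₀, (hmX _).mpr hx₀⟩ : X) ⟨x₁, (hmX _).mpr hx₁⟩
  have hj₀' : (j₀ : G) • x₀ = x₁ := congrArg Subtype.val hj₀
  have hJne : J ≠ ⊥ := fun e => by
    have : (j₀ : G) = 1 := Subgroup.mem_bot.mp (e ▸ j₀.2)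
    rw [this, one_smul] at hj₀'; exact h01 hj₀'
  haveI : IsPretransitive G Ω := by
    haveI := hqp ⊤ inferInstance (fun e => hJne (le_bot_iff.mp (le_top.trans e.le)))
    exact ⟨fun a b => let ⟨g, hg⟩ := exists_smul_eq (⊤ : Subgroup G) a b; ⟨g, hg⟩⟩
  have hfix : ∀ j ∈ J, ∀ z ∉ Γ, j • z = z := fun j hj z hz => (mem_fixingSubgroup_iff G).mp hj z hz
  refine ⟨fun {B} hB => ?_⟩
  by_contra hnt
  simp only [IsTrivialBlock, not_or, Set.not_subsingleton_iff] at hnt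
  obtain ⟨hBn, hBu⟩ := hnt
  obtain ⟨a, haB⟩ := hBn.nonempty
  have hcov : ∀ x, ∃ g : G, x ∈ g • B := fun x => by
    obtain ⟨g, hg⟩ := exists_smul_eq G a x
    exact ⟨g, hg ▸ Set.smul_mem_smul_set haB⟩
  have htrace : ∀ g : G, (g • B ∩ Γ).Subsingleton ∨ Γ ⊆ g • B := by
    intro g
    have hblk : IsBlock J (Subtype.val ⁻¹' (g • B) : Set X) := by
      refine isBlock_iff_smul_eq_of_mem.mpr fun j z hz hjz => ?_
      have hC := (hB.translate g).smul_eq_of_mem (g := (j : G)) hz hjz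
      ext w
      rw [Set.mem_smul_set_iff_inv_smul_mem]
      show ((j⁻¹ : J) : G) • (w : Ω) ∈ g • B ↔ (w : Ω) ∈ g • B
      rw [Subgroup.coe_inv, ← Set.mem_smul_set_iff_inv_smul_mem, hC]
    rcases hJp.isTrivialBlock_of_isBlock hblk with h | h
    · exact Or.inl fun u hu v hv => congrArg Subtype.val (h (x := ⟨u, (hmX u).mpr hu.2⟩) hu.1 (y := ⟨v, (hmX v).mpr hv.2⟩) hv.1)
    · exact Or.inr fun u hu => (h.symm.subset (Set.mem_univ (⟨u, (hmX u).mpr hu⟩ : X)) : _)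
  by_cases hin : ∃ g : G, Γ ⊆ g • B
  · obtain ⟨g₀, hg₀⟩ := hin
    set K : Subgroup G := ⨅ g : G, stabilizer G (g • B) with hK
    have hKm : ∀ k, k ∈ K ↔ ∀ g : G, k • g • B = g • B := fun k => by simp [hK, Subgroup.mem_iInf]
    have hKn : K.Normal := ⟨fun k hk h => (hKm _).mpr fun g => by
      have := (hKm k).mp hk (h⁻¹ * g)
      rw [mul_smul, mul_smul, ← mul_smul h⁻¹ g B, this, ← mul_smul, mul_inv_cancel_left]⟩
    have hJK : J ≤ K := fun j hj => (hKm j).mpr fun g => by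
      by_cases he : g • B = g₀ • B
      · rw [he]
        by_cases hout : ∃ z ∈ g₀ • B, z ∉ Γ
        · obtain ⟨z, hz, hz'⟩ := hout
          exact (hB.translate g₀).smul_eq_of_mem hz (by rw [hfix j hj z hz']; exact hz)
        · push Not at hout
          refine (hB.translate g₀).smul_eq_of_mem (hg₀ hx₀) (hg₀ ?_)
          exact (hmX _).mp ((⟨j, hj⟩ : J) • (⟨x₀, (hmX _).mpr hx₀⟩ : X)).2
      · obtain ⟨z, hz⟩ : (g • B).Nonempty := ⟨_, Set.smul_mem_smul_set haB⟩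
        have hzΓ : z ∉ Γ := fun h => he (by
          obtain ⟨k, hk⟩ : ∃ k, k = g₀⁻¹ * g := ⟨_, rfl⟩
          have h2 : g₀⁻¹ • z ∈ B := Set.mem_smul_set_iff_inv_smul_mem.mp (hg₀ h)
          have h3 : g⁻¹ • z ∈ B := Set.mem_smul_set_iff_inv_smul_mem.mp hz
          have := hB.smul_eq_of_mem (g := g₀⁻¹ * g) h3 (by rw [mul_smul, smul_inv_smul]; exact h2)
          rw [mul_smul, inv_smul_eq_iff] at this
          exact this)
        exact (hB.translate g).smul_eq_of_mem hz (by rw [hfix j hj z hzΓ]; exact hz)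
    haveI := hqp K hKn (fun e => hJne (le_bot_iff.mp (e ▸ hJK)))
    refine hBu (Set.eq_univ_of_forall fun x => ?_)
    obtain ⟨k, hk⟩ := exists_smul_eq K a x
    have := (hKm k).mp k.2 1
    rw [one_smul] at this
    exact this ▸ hk ▸ Set.smul_mem_smul_set haB
  · push Not at hin
    obtain ⟨g, hgx⟩ := hcov x₀
    obtain ⟨z, hz, hzx⟩ : ∃ z ∈ g • B, z ≠ x₀ := by
      obtain ⟨u, hu, v, hv, huv⟩ := hBn
      by_cases e : g • u = x₀
      · exact ⟨g • v, Set.smul_mem_smul_set hv, fun e' => huv (smul_left_cancel g (e.trans e'.symm))⟩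
      · exact ⟨g • u, Set.smul_mem_smul_set hu, e⟩
    have hsub := (htrace g).resolve_right (hin g)
    have hzΓ : z ∉ Γ := fun h => hzx (hsub ⟨hz, h⟩ ⟨hgx, hx₀⟩)
    have hC := (hB.translate g).smul_eq_of_mem (g := (j₀ : G)) hz (by rw [hfix _ j₀.2 z hzΓ]; exact hz)
    exact h01 (hsub ⟨hgx, hx₀⟩ ⟨hC ▸ hj₀' ▸ Set.smul_mem_smul_set hgx, hx₁⟩)

end Cfsg.Lib.JordanSets
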