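import Cfsg.Agent.Elementary.JordanSets
import Mathlib

/-!
Marggraff's theorem: a primitive group with a Jordan set of fewer than half of the points contains the
alternating group.

If the group is k-transitive, the numbers of translates of the set meeting k + 1 given points in a given
pattern are those of the symmetric group up to one alternating error term, so some translate meets them
in exactly one point.
-/

namespace Cfsg.Lib.Marggraff

open MulAction Equiv
open scoped Pointwise
open Cfsg.Lib.JordanSets (Moves)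

variable {G Ω : Type*} [Group G] [MulAction G Ω]

section Counting

open Classical in
/-- Number of translates meeting `U` in `S`. -/
noncomputable def pat [Fintype G] (Γ : Set Ω) (U S : Finset Ω) : ℕ :=
  (Finset.univ.filter fun g : G => ∀ x ∈ U, x ∈ g • Γ ↔ x ∈ S).card

theorem choose_lt {N r q : ℕ} (h1 : r < q) (h2 : r + q < N) : N.choose r < N.choose q := by
  have key : ∀ p, r < p → 2 * p ≤ N → N.choose r < N.choose p := by
    intro p
    induction p with
    | zero => omega
    | succ p ih =>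
      intro hrp hp
      have step : N.choose p < N.choose (p + 1) := by
        have h := Nat.choose_succ_right_eq N p
        have h0 : 0 < N.choose p := Nat.choose_pos (by omega)
        have h3 : N.choose p * (p + 1) < N.choose (p + 1) * (p + 1) := by
          rw [h]; exact Nat.mul_lt_mul_of_pos_left (by omega) h0
        exact Nat.lt_of_mul_lt_mul_right h3
      rcases Nat.lt_or_ge r p with h | h
      · exact (ih h (by omega)).trans step
      · obtain rfl : r = p := by omega
        exact step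
  rcases le_or_gt (2 * q) N with h | h
  · exact key q h1 h
  · rw [← Nat.choose_symm (by omega : q ≤ N)]
    exact key (N - q) (by omega) (by omega)

variable [Fintype G] [Fintype Ω]

omit [Fintype Ω] in
theorem pat_split [DecidableEq Ω] (Γ : Set Ω) {U S : Finset Ω} {y : Ω} (hy : y ∈ U) (hyS : y ∉ S) :
    pat (G := G) Γ (U.erase y) S = pat (G := G) Γ U S + pat (G := G) Γ U (insert y S) := by
  classical
  unfold pat
  refine (Finset.card_filter_add_card_filter_not (fun g : G => y ∉ g • Γ)).symm.trans ?_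
  rw [Finset.filter_filter, Finset.filter_filter]
  congr 2 <;> ext g <;> simp only [Finset.mem_filter, Finset.mem_univ, true_and]
  · constructor
    · rintro ⟨h, hy'⟩ x hx
      by_cases e : x = y
      · subst e; simp [hy', hyS]
      · exact h x (Finset.mem_erase.mpr ⟨e, hx⟩)
    · intro h
      exact ⟨fun x hx => h x (Finset.mem_of_mem_erase hx), fun e => hyS ((h y hy).mp e)⟩
  · constructor
    · rintro ⟨h, hy'⟩ x hx
      by_cases e : x = y
      · subst e; simp [not_not.mp hy']
      · rw [h x (Finset.mem_erase.mpr ⟨e, hx⟩), Finset.mem_insert]; simp [e]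
    · intro h
      refine ⟨fun x hx => ?_, not_not.mpr ((h y hy).mpr (Finset.mem_insert_self y S))⟩
      rw [h x (Finset.mem_of_mem_erase hx), Finset.mem_insert]
      simp [(Finset.mem_erase.mp hx).1]

theorem pat_eq (Γ : Set Ω) {k : ℕ} (hk : IsMultiplyPretransitive G Ω k) (hkn : k ≤ Nat.card Ω) :
    ∀ U S : Finset Ω, S ⊆ U → U.card ≤ k → U.card ≤ Γ.ncard →
      (Nat.card Ω).choose Γ.ncard * pat (G := G) Γ U S =
        Fintype.card G * (Nat.card Ω - U.card).choose (Γ.ncard - S.card) := by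
  classical
  set n := Nat.card Ω with hn
  set m := Γ.ncard
  have hmn : m ≤ n := Set.ncard_le_card Γ
  let P : G → Finset Ω := fun g => (g • Γ).toFinset
  have hP : ∀ g, (P g).card = m := fun g => by rw [← Set.ncard_eq_toFinset_card', Set.ncard_smul_set]
  have hbase : ∀ U : Finset Ω, U.card ≤ k → U.card ≤ m →
      n.choose m * pat (G := G) Γ U U = Fintype.card G * (n - U.card).choose (m - U.card) := by
    intro U hUk hUm
    set j := U.card with hj
    haveI := hk
    haveI : IsMultiplyPretransitive G Ω j := isMultiplyPretransitive_of_le (n := k) hUk hkn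
    have hpat : ∀ V : Finset Ω, pat (G := G) Γ V V = (Finset.univ.filter fun g : G => V ⊆ P g).card := fun V => by
      unfold pat; congr 1; ext g
      simp only [Finset.mem_filter, Finset.mem_univ, true_and, P, Finset.subset_iff, Set.mem_toFinset]
      exact ⟨fun h x hx => (h x hx).mpr hx, fun h x hx => iff_of_true (h hx) hx⟩
    have hhom : ∀ V ∈ (Finset.univ : Finset Ω).powersetCard j, pat (G := G) Γ V V = pat (G := G) Γ U U := by
      intro V hV
      have hVc : V.card = j := (Finset.mem_powersetCard.mp hV).2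
      let eU : Fin j ↪ Ω := (U.equivFin.symm.toEmbedding).trans (Function.Embedding.subtype _)
      let eV : Fin j ↪ Ω := ((V.equivFinOfCardEq hVc).symm.toEmbedding).trans (Function.Embedding.subtype _)
      obtain ⟨h, hh⟩ := exists_smul_eq G eU eV
      have hU : ∀ x ∈ U, h • x ∈ V := fun x hx => by
        obtain ⟨i, hi⟩ := U.equivFin.symm.surjective ⟨x, hx⟩
        have e : h • eU i = eV i := congrArg (fun f : Fin j ↪ Ω => f i) hh
        have e2 : eU i = x := congrArg Subtype.val hi
        rw [e2] at e; rw [e]; exact ((V.equivFinOfCardEq hVc).symm i).2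
      have hVU : U.image (h • ·) = V := Finset.eq_of_subset_of_card_le (Finset.image_subset_iff.mpr hU)
        (by rw [Finset.card_image_of_injective _ (MulAction.injective h), hVc])
      rw [hpat, hpat]
      refine (Finset.card_equiv (Equiv.mulLeft h) fun g => ?_).symm
      simp only [Finset.mem_filter, Finset.mem_univ, true_and, Equiv.coe_mulLeft, ← hVU, P,
        Set.mem_toFinset, mul_smul, Finset.subset_iff, Finset.forall_mem_image, Set.smul_mem_smul_set_iff]
    have e := Finset.sum_card_bipartiteAbove_eq_sum_card_bipartiteBelow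
      (s := (Finset.univ : Finset Ω).powersetCard j) (t := (Finset.univ : Finset G)) (fun V g => V ⊆ P g)
    simp only [Finset.bipartiteAbove, Finset.bipartiteBelow] at e
    have e1 : (n.choose j) * pat (G := G) Γ U U = Fintype.card G * m.choose j := by
      have l : ∑ V ∈ (Finset.univ : Finset Ω).powersetCard j, (Finset.univ.filter fun g : G => V ⊆ P g).card
          = n.choose j * pat (G := G) Γ U U := by
        rw [Finset.sum_congr rfl (g := fun _ => pat (G := G) Γ U U) (fun V hV => by rw [← hpat]; exact hhom V hV),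
          Finset.sum_const, smul_eq_mul, Finset.card_powersetCard, Finset.card_univ, ← Nat.card_eq_fintype_card]
      have r : ∀ g : G, (((Finset.univ : Finset Ω).powersetCard j).filter (fun V => V ⊆ P g)).card = m.choose j := fun g => by
        rw [show ((Finset.univ : Finset Ω).powersetCard j).filter (fun V => V ⊆ P g) = (P g).powersetCard j by
          ext V; simp only [Finset.mem_filter, Finset.mem_powersetCard, Finset.subset_univ, true_and]; tauto,
          Finset.card_powersetCard, hP]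
      rw [← l, e, Finset.sum_congr rfl (fun g _ => r g), Finset.sum_const, smul_eq_mul, Finset.card_univ]
    refine Nat.eq_of_mul_eq_mul_left (Nat.choose_pos (by omega : j ≤ n)) ?_
    calc n.choose j * (n.choose m * pat (G := G) Γ U U) = n.choose m * (n.choose j * pat (G := G) Γ U U) := by ring
      _ = Fintype.card G * (n.choose m * m.choose j) := by rw [e1]; ring
      _ = n.choose j * (Fintype.card G * (n - j).choose (m - j)) := by rw [Nat.choose_mul hUm]; ring
  intro U
  induction U using Finset.strongInduction with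
  | H U IH =>
    intro S hSU hUk hUm
    obtain ⟨d, hd⟩ : ∃ d, d = (U \ S).card := ⟨_, rfl⟩
    induction d generalizing S with
    | zero =>
      obtain rfl : S = U := Finset.Subset.antisymm hSU (Finset.sdiff_eq_empty_iff_subset.mp (Finset.card_eq_zero.mp hd.symm))
      exact hbase S hUk hUm
    | succ d ihd =>
      obtain ⟨y, hy⟩ : (U \ S).Nonempty := Finset.card_pos.mp (by omega)
      obtain ⟨hyU, hyS⟩ := Finset.mem_sdiff.mp hy
      have hSy : S ⊆ U.erase y := fun x hx => Finset.mem_erase.mpr ⟨fun e => hyS (e ▸ hx), hSU hx⟩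
      have hUe : (U.erase y).card + 1 = U.card := Finset.card_erase_add_one hyU
      have h1 := IH _ (Finset.erase_ssubset hyU) S hSy (by omega) (by omega)
      have h2 := ihd (insert y S) (Finset.insert_subset hyU hSU) (by
        rw [Finset.sdiff_insert, Finset.card_erase_of_mem hy]; omega)
      have hS : S.card + 1 ≤ U.card := by
        have := Finset.card_le_card hSy; omega
      rw [Finset.card_insert_of_notMem hyS] at h2
      rw [pat_split Γ hyU hyS, Nat.mul_add, h2, show n - (U.erase y).card = n - U.card + 1 by omega,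
        show m - S.card = m - (S.card + 1) + 1 by omega, Nat.choose_succ_succ', Nat.mul_add,
        show m - (S.card + 1) + 1 = m - S.card by omega] at h1
      omega

/-- Some translate meets `k + 1` given points in exactly one. -/
theorem exists_single (Γ : Set Ω) {k : ℕ} (hk : IsMultiplyPretransitive G Ω k) (hk1 : 2 ≤ k)
    (hkm : k < Γ.ncard) (h2 : 2 * Γ.ncard < Nat.card Ω) (T : Finset Ω) (hT : T.card = k + 1) :
    ∃ t ∈ T, ∃ g : G, t ∈ g • Γ ∧ ∀ x ∈ T, x ≠ t → x ∉ g • Γ := by
  classical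
  by_contra hno
  set n := Nat.card Ω with hn
  set m := Γ.ncard
  let e : Finset Ω → ℤ := fun S =>
    (n.choose m : ℤ) * pat (G := G) Γ T S - (Fintype.card G : ℤ) * ((n - (k + 1)).choose (m - S.card) : ℕ)
  have hstep : ∀ S : Finset Ω, S ⊆ T → ∀ y ∈ T, y ∉ S → e S + e (insert y S) = 0 := by
    intro S hS y hy hyS
    have hSy : S ⊆ T.erase y := fun x hx => Finset.mem_erase.mpr ⟨fun e => hyS (e ▸ hx), hS hx⟩
    have hc : (T.erase y).card = k := by rw [Finset.card_erase_of_mem hy, hT]; rfl
    have h1 := pat_eq Γ hk (by omega) (T.erase y) S hSy (by omega) (by omega)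
    have hSk : S.card ≤ k := hc ▸ Finset.card_le_card hSy
    rw [pat_split Γ hy hyS, hc, show Nat.card Ω - k = n - (k + 1) + 1 by omega,
      show m - S.card = m - (S.card + 1) + 1 by omega, Nat.choose_succ_succ',
      show m - (S.card + 1) + 1 = m - S.card by omega] at h1
    simp only [e, Finset.card_insert_of_notMem hyS]
    have h1' := congrArg (Nat.cast : ℕ → ℤ) h1
    push_cast at h1'
    linarith
  obtain ⟨t, ht⟩ : T.Nonempty := Finset.card_pos.mp (by omega)
  have h0 : pat (G := G) Γ T {t} = 0 := by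
    unfold pat
    refine Finset.card_eq_zero.mpr (Finset.eq_empty_of_forall_notMem fun g h => ?_)
    simp only [Finset.mem_filter, Finset.mem_univ, true_and] at h
    exact hno ⟨t, ht, g, (h t ht).mpr (Finset.mem_singleton_self t), fun x hx hxt hxg =>
      hxt (Finset.mem_singleton.mp ((h x hx).mp hxg))⟩
  have het : e {t} = -((Fintype.card G : ℤ) * ((n - (k + 1)).choose (m - 1) : ℕ)) := by
    simp [e, h0]
  have hodd : ∀ i, 2 * i + 1 ≤ k + 1 → ∃ S ⊆ T, S.card = 2 * i + 1 ∧ e S = e {t} := by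
    intro i
    induction i with
    | zero => exact fun _ => ⟨{t}, Finset.singleton_subset_iff.mpr ht, rfl, rfl⟩
    | succ i ih =>
      intro hi
      obtain ⟨S, hS, hSc, hSe⟩ := ih (by omega)
      obtain ⟨y, hy⟩ : (T \ S).Nonempty := by
        rw [← Finset.card_pos, Finset.card_sdiff_of_subset hS]; omega
      obtain ⟨hyT, hyS⟩ := Finset.mem_sdiff.mp hy
      have hS' : insert y S ⊆ T := Finset.insert_subset hyT hS
      obtain ⟨z, hz⟩ : (T \ insert y S).Nonempty := by
        rw [← Finset.card_pos, Finset.card_sdiff_of_subset hS', Finset.card_insert_of_notMem hyS]; omega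
      obtain ⟨hzT, hzS⟩ := Finset.mem_sdiff.mp hz
      refine ⟨insert z (insert y S), Finset.insert_subset hzT hS', ?_, ?_⟩
      · rw [Finset.card_insert_of_notMem hzS, Finset.card_insert_of_notMem hyS]; omega
      · have := hstep S hS y hyT hyS; have := hstep _ hS' z hzT hzS; omega
  obtain ⟨S, hS, hSc, hSe⟩ := hodd (k / 2) (by omega)
  have hlt := choose_lt (N := n - (k + 1)) (r := m - S.card) (q := m - 1) (by omega) (by omega)
  rw [het] at hSe
  simp only [e] at hSe
  have hpos : (0 : ℤ) < Fintype.card G := by exact_mod_cast Fintype.card_pos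
  have hnn : (0 : ℤ) ≤ (n.choose m : ℤ) * pat (G := G) Γ T S := by positivity
  have hlt' : (((n - (k + 1)).choose (m - S.card) : ℕ) : ℤ) < (((n - (k + 1)).choose (m - 1) : ℕ) : ℤ) := by
    exact_mod_cast hlt
  nlinarith

end Counting

variable [Finite G] [Finite Ω]

theorem pretransitive_succ (hprim : IsPreprimitive G Ω) {Γ : Set Ω} (htr : Moves G Γ) {k : ℕ} (hk1 : 2 ≤ k)
    (hk : IsMultiplyPretransitive G Ω k) (hkm : k < Γ.ncard) (h2 : 2 * Γ.ncard < Nat.card Ω) :
    IsMultiplyPretransitive G Ω (k + 1) := by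
  classical
  haveI := Fintype.ofFinite G
  haveI := Fintype.ofFinite Ω
  set m := Γ.ncard
  set n := Nat.card Ω
  obtain ⟨Λ, hΛ, hΛc⟩ : ∃ Λ : Set Ω, Moves G Λ ∧ Λᶜ.ncard = k := by
    suffices h : ∀ c, ∀ Λ : Set Ω, Moves G Λ → Λᶜ.ncard = c → k ≤ c → m ≤ Λ.ncard → ∃ Λ : Set Ω, Moves G Λ ∧ Λᶜ.ncard = k from
      h _ Γ htr rfl (by rw [Set.ncard_compl]; omega) le_rfl
    intro c
    induction c using Nat.strong_induction_on with
    | h c IH =>
      intro Λ hΛ hc hck hmΛ
      rcases hck.eq_or_lt with rfl | hck'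
      · exact ⟨Λ, hΛ, hc⟩
      obtain ⟨g, ⟨w, hwg, hwΛ⟩, ⟨a, hag, haΛ⟩, hbound⟩ : ∃ g : G, (g • Γ ∩ Λ).Nonempty ∧ (g • Γ ∩ Λᶜ).Nonempty ∧ (g • Γ ∩ Λᶜ).ncard + k ≤ c := by
        by_cases hcm : c < m + k
        · obtain ⟨T, hTsub, hTc⟩ := Finset.exists_subset_card_eq (s := Λᶜ.toFinset) (n := k + 1)
            (by rw [← Set.ncard_eq_toFinset_card']; omega)
          obtain ⟨t, ht, g, htg, hg⟩ := exists_single Γ hk hk1 hkm h2 T hTc
          have htΛ : t ∈ Λᶜ := Set.mem_toFinset.mp (hTsub ht)
          have hle : (g • Γ ∩ Λᶜ).ncard + k ≤ c := by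
            have h' := Set.ncard_le_ncard (show g • Γ ∩ Λᶜ ⊆ Λᶜ \ ↑(T.erase t) from fun z hz => ⟨hz.2, fun h =>
              hg z (Finset.mem_of_mem_erase h) (Finset.ne_of_mem_erase h) hz.1⟩)
            rw [Set.ncard_sdiff (fun z hz => Set.mem_toFinset.mp (hTsub (Finset.mem_of_mem_erase hz))), hc,
              Set.ncard_coe_finset, Finset.card_erase_of_mem ht, hTc] at h'
            omega
          refine ⟨g, ?_, ⟨t, htg, htΛ⟩, hle⟩
          by_contra h
          rw [Set.not_nonempty_iff_eq_empty] at h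
          have := Set.ncard_inter_add_ncard_sdiff_eq_ncard (g • Γ) Λᶜ
          rw [Set.sdiff_compl, h, Set.ncard_empty, Set.ncard_smul_set] at this
          omega
        · obtain ⟨x, hx, y, hy, hxy⟩ := (Set.one_lt_ncard).mp (by omega : 1 < Γ.ncard)
          obtain ⟨g, hgx, hgy⟩ : ∃ g : G, x ∈ g • Λ ∧ y ∉ g • Λ := by
            haveI := hprim
            refine MulAction.IsPreprimitive.exists_mem_smul_and_notMem_smul Λ.toFinite (Set.nonempty_of_ncard_ne_zero (by omega)) ?_ hxy
            intro h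
            rw [h, Set.compl_univ, Set.ncard_empty] at hc
            omega
          have e1 : g⁻¹ • x ∈ Λ := Set.mem_smul_set_iff_inv_smul_mem.mp hgx
          have e2 : g⁻¹ • y ∈ Λᶜ := fun h => hgy (Set.mem_smul_set_iff_inv_smul_mem.mpr h)
          refine ⟨g⁻¹, ⟨_, Set.smul_mem_smul_set hx, e1⟩, ⟨_, Set.smul_mem_smul_set hy, e2⟩, ?_⟩
          have := Set.ncard_lt_ncard (show g⁻¹ • Γ ∩ Λᶜ ⊂ g⁻¹ • Γ from
            ⟨Set.inter_subset_left, fun h => (h (Set.smul_mem_smul_set hx)).2 e1⟩)
          rw [Set.ncard_smul_set] at this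
          omega
      have hcompl : (Λ ∪ g • Γ)ᶜ = Λᶜ \ (g • Γ ∩ Λᶜ) := by
        ext z; simp only [Set.mem_compl_iff, Set.mem_union, Set.mem_sdiff, Set.mem_inter_iff]; tauto
      have hpos : 0 < (g • Γ ∩ Λᶜ).ncard := (Set.ncard_pos).mpr ⟨a, hag, haΛ⟩
      refine IH _ (by omega : c - (g • Γ ∩ Λᶜ).ncard < c) (Λ ∪ g • Γ) (hΛ.union (htr.smul g) ⟨w, hwΛ, hwg⟩) ?_ (by omega)
        (hmΛ.trans (Set.ncard_le_ncard Set.subset_union_left))
      rw [hcompl, Set.ncard_sdiff Set.inter_subset_right, hc]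
  let e : Fin k ↪ Ω := ((Λᶜ.toFinset.equivFinOfCardEq (by rw [← Set.ncard_eq_toFinset_card', hΛc])).symm.toEmbedding).trans
    (Function.Embedding.subtype _)
  have he : ∀ i, e i ∈ Λᶜ := fun i => Set.mem_toFinset.mp (Subtype.prop _)
  have key : ∀ z : Fin (k + 1) ↪ Ω, ∃ g : G, (∀ i : Fin k, g • z i.castSucc = e i) ∧ g • z (Fin.last k) ∈ Λ := fun z => by
    haveI := hk
    obtain ⟨g, hg⟩ := exists_smul_eq G (Fin.castSuccEmb.trans z) e
    have hg' : ∀ i : Fin k, g • z i.castSucc = e i := fun i => congrArg (fun f : Fin k ↪ Ω => f i) hg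
    refine ⟨g, hg', by_contra fun h => ?_⟩
    have hr : Set.range e = Λᶜ := Set.eq_of_subset_of_ncard_le (Set.range_subset_iff.mpr he)
      (by rw [Set.ncard_range_of_injective e.injective, hΛc, Nat.card_fin])
    obtain ⟨i, hi⟩ : g • z (Fin.last k) ∈ Set.range e := hr ▸ h
    rw [← hg' i] at hi
    exact (Fin.castSucc_lt_last i).ne (z.injective (smul_left_cancel g hi))
  refine ⟨fun x y => ?_⟩
  obtain ⟨g, g0, g2⟩ := key x
  obtain ⟨l, l0, l2⟩ := key y
  obtain ⟨j, hj, hjx⟩ := hΛ _ g2 _ l2
  refine ⟨l⁻¹ * j * g, Function.Embedding.ext fun i => ?_⟩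
  show (l⁻¹ * j * g) • x i = y i
  rw [mul_smul, mul_smul, inv_smul_eq_iff]
  induction i using Fin.lastCases with
  | last => exact hjx
  | cast i => rw [g0, l0, hj _ (he i)]

omit [Finite G] [Finite Ω] in
/-- The commutator of two permutations whose supports meet in one point is a 3-cycle. -/
theorem threeCycle_of_inter {α : Type*} [DecidableEq α] [Fintype α] (a b : Perm α) {A B : Set α} {x : α}
    (ha : ∀ w ∉ A, a w = w) (hb : ∀ w ∉ B, b w = w) (hAB : ∀ w, w ∈ A → w ∈ B → w = x)
    (hax : a x ≠ x) (hbx : b x ≠ x) : (a * b * a⁻¹ * b⁻¹).IsThreeCycle := by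
  have hxA : x ∈ A := by_contra fun h => hax (ha x h)
  have hxB : x ∈ B := by_contra fun h => hbx (hb x h)
  have ha' : ∀ w, w ∈ B → w ≠ x → a w = w := fun w h hne => ha w fun h' => hne (hAB w h' h)
  have hb' : ∀ w, w ∈ A → w ≠ x → b w = w := fun w h hne => hb w fun h' => hne (hAB w h h')
  have haA : ∀ w, a w ∈ A ↔ w ∈ A := fun w => by
    constructor
    · intro h; by_contra hw; rw [ha w hw] at h; exact hw h
    · intro h; by_contra hw; have e := a.injective (ha _ hw); rw [e] at hw; exact hw h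
  have hbB : ∀ w, b w ∈ B ↔ w ∈ B := fun w => by
    constructor
    · intro h; by_contra hw; rw [hb w hw] at h; exact hw h
    · intro h; by_contra hw; have e := b.injective (hb _ hw); rw [e] at hw; exact hw h
  have hyA : a x ∈ A := (haA x).mpr hxA
  have hzB : b x ∈ B := (hbB x).mpr hxB
  have hyz : a x ≠ b x := fun h => hax (hAB _ hyA (h ▸ hzB))
  have he : a * b * a⁻¹ * b⁻¹ = swap (a x) x * swap (a x) (b x) := by
    rw [mul_inv_eq_iff_eq_mul, mul_inv_eq_iff_eq_mul]
    refine Equiv.ext fun w => ?_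
    simp only [Perm.mul_apply]
    rcases eq_or_ne w x with rfl | hwx
    · rw [ha' (b w) hzB hbx, hb' (a w) hyA hax, swap_apply_left, swap_apply_of_ne_of_ne hyz.symm hbx]
    · by_cases hwA : w ∈ A
      · rcases eq_or_ne (a w) x with h | h
        · rw [hb' w hwA hwx, h, swap_apply_right, swap_apply_left]
        · have h' : a w ≠ a x := fun e => hwx (a.injective e)
          have hAw : a w ∈ A := (haA w).mpr hwA
          rw [hb' w hwA hwx, hb' (a w) hAw h, swap_apply_of_ne_of_ne h'
            (fun e => h (hAB _ hAw (e ▸ hzB))), swap_apply_of_ne_of_ne h' h]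
      · rw [ha w hwA]
        by_cases hwB : w ∈ B
        · rcases eq_or_ne (b w) x with h | h
          · rw [h, swap_apply_of_ne_of_ne hax.symm hbx.symm, swap_apply_right]
          · have h1 : b w ≠ a x := fun e => h (hAB _ (e ▸ hyA) ((hbB w).mpr hwB))
            rw [ha' _ ((hbB w).mpr hwB) h, swap_apply_of_ne_of_ne h1 (fun e => hwx (b.injective e)),
              swap_apply_of_ne_of_ne h1 h]
        · have hwy : w ≠ a x := fun e => by rw [e] at hwA; exact hwA hyA
          have hwz : w ≠ b x := fun e => by rw [e] at hwB; exact hwB hzB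
          rw [hb w hwB, ha w hwA, swap_apply_of_ne_of_ne hwy hwz, swap_apply_of_ne_of_ne hwy hwx]
  rw [he]
  exact Perm.isThreeCycle_swap_mul_swap_same hax hyz hbx.symm

omit [Finite G] [Finite Ω] in
theorem swap_conj {α : Type*} [DecidableEq α] [Fintype α] {t : Perm α} (ht : t.IsThreeCycle) {a : α} (ha : t a ≠ a) :
    a ≠ t a ∧ swap a (t a) * t⁻¹ * swap a (t a) = t := by
  have h3 : ∀ w, t (t (t w)) = w := fun w => by
    have h := congrFun (congrArg (⇑) (pow_orderOf_eq_one t)) w
    rw [ht.orderOf] at h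
    exact h
  have h2a : t (t a) ≠ a := fun h => ha (by simpa [h] using h3 a)
  have h2b : t (t a) ≠ t a := fun h => ha (t.injective h)
  have hs : ({a, t a, t (t a)} : Finset α) = t.support := by
    refine Finset.eq_of_subset_of_card_le ?_ ?_
    · intro w hw
      simp only [Finset.mem_insert, Finset.mem_singleton] at hw
      rcases hw with rfl | rfl | rfl <;> rw [Perm.mem_support]
      · exact ha
      · exact h2b
      · exact fun h => h2b (t.injective h)
    · rw [ht.card_support, Finset.card_eq_three.mpr ⟨a, t a, t (t a), ha.symm, h2a.symm, h2b.symm, rfl⟩]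
  refine ⟨ha.symm, ?_⟩
  rw [Equiv.ext_iff]
  intro w
  have hinv : ∀ v, t⁻¹ v = t (t v) := fun v => by
    conv_lhs => rw [← h3 v]
    simp
  rw [Perm.mul_apply, Perm.mul_apply, hinv]
  by_cases hw : w ∈ t.support
  · rw [← hs] at hw
    simp only [Finset.mem_insert, Finset.mem_singleton] at hw
    rcases hw with rfl | rfl | rfl
    · rw [swap_apply_left, h3, swap_apply_left]
    · rw [swap_apply_right, swap_apply_of_ne_of_ne h2a h2b]
    · rw [swap_apply_of_ne_of_ne h2a h2b, h3, h3, swap_apply_right]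
  · have hw' := Perm.notMem_support.mp hw
    rw [← hs] at hw
    simp only [Finset.mem_insert, Finset.mem_singleton, not_or] at hw
    rw [swap_apply_of_ne_of_ne hw.1 hw.2.1, hw', hw', swap_apply_of_ne_of_ne hw.1 hw.2.1]

theorem marggraff (hprim : IsPreprimitive G Ω) {Γ : Set Ω} (h1 : 1 < Γ.ncard)
    (h2 : 2 * Γ.ncard < Nat.card Ω) (htr : Moves G Γ) [Fintype Ω] [DecidableEq Ω] :
    ∀ σ : Perm Ω, Perm.sign σ = 1 → ∃ x : G, (MulAction.toPerm x : Perm Ω) = σ := by
  classical
  haveI := Fintype.ofFinite G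
  set m := Γ.ncard
  have hk : ∀ k, 2 ≤ k → k ≤ m → IsMultiplyPretransitive G Ω k := by
    intro k hk
    induction k, hk using Nat.le_induction with
    | base =>
      intro _
      refine hprim.is_two_pretransitive (s := Γᶜ) (n := Nat.card Ω - m - 1) (by rw [Set.ncard_compl]; omega)
        (by omega) (Cfsg.Lib.JordanSets.pretransitive_ofFixing htr)
    | succ k hk ih => exact fun h => pretransitive_succ hprim htr hk (ih (by omega)) (by omega) h2
  obtain ⟨x, hx, y, hy, hxy⟩ := (Set.one_lt_ncard).mp h1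
  have hΓc : Γ.toFinset.card = m := (Set.ncard_eq_toFinset_card' Γ).symm
  have hpat := pat_eq Γ (hk m (by omega) le_rfl) (by omega) Γ.toFinset {x}
    (Finset.singleton_subset_iff.mpr (Set.mem_toFinset.mpr hx)) hΓc.le hΓc.le
  have hne : pat (G := G) Γ Γ.toFinset {x} ≠ 0 := by
    intro h
    rw [h, mul_zero, eq_comm, mul_eq_zero, Finset.card_singleton, hΓc] at hpat
    rcases hpat with h' | h'
    · exact Fintype.card_ne_zero h'
    · have := Nat.choose_eq_zero_iff.mp h'; omega
  unfold pat at hne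
  obtain ⟨g, hg⟩ := Finset.card_ne_zero.mp hne
  simp only [Finset.mem_filter, Finset.mem_univ, true_and, Set.mem_toFinset, Finset.mem_singleton] at hg
  obtain ⟨a, ha, hax⟩ := htr x hx y hy
  have hxg : x ∈ g • Γ := (hg x hx).mpr rfl
  obtain ⟨z, hzg, hzx⟩ := Set.exists_ne_of_one_lt_ncard (a := x) (by rw [Set.ncard_smul_set]; exact h1 : 1 < (g • Γ).ncard)
  obtain ⟨b, hb, hbx⟩ := (htr.smul g) x hxg z hzg
  have h3 := threeCycle_of_inter (toPerm a : Perm Ω) (toPerm b) (A := Γ) (B := g • Γ) ha hb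
    (fun w h h' => (hg w h).mp h') (by rw [toPerm_apply, hax]; exact hxy.symm) (by rw [toPerm_apply, hbx]; exact hzx)
  let R := (MulAction.toPermHom G Ω).range
  have hR : IsPreprimitive R Ω := by
    haveI := hprim
    exact IsPreprimitive.of_surjective (f := ({ toFun := id, map_smul' := fun _ _ => rfl } :
      Ω →ₑ[(MulAction.toPermHom G Ω).rangeRestrict] Ω)) Function.surjective_id
  have hle := Perm.alternatingGroup_le_of_isPreprimitive_of_isThreeCycle_mem hR h3
    (⟨a * b * a⁻¹ * b⁻¹, by rw [map_mul, map_mul, map_mul, map_inv, map_inv]; rfl⟩ : _ ∈ R)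
  intro σ hσ
  exact hle (Perm.mem_alternatingGroup.mpr hσ)

theorem quasiprimitive [FaithfulSMul G Ω] [Fintype Ω] [DecidableEq Ω]
    (hqp : ∀ N : Subgroup G, N.Normal → N ≠ ⊥ → IsPretransitive N Ω)
    {Γ : Set Ω} (h1 : 1 < Γ.ncard) (h2 : 2 * Γ.ncard < Nat.card Ω) (htr : Moves G Γ) :
    ∀ σ : Perm Ω, Perm.sign σ = 1 → ∃ x : G, (MulAction.toPerm x : Perm Ω) = σ := by
  classical
  refine marggraff ?_ h1 h2 htr
  obtain ⟨x₀, hx₀, x₁, hx₁, h01⟩ := (Set.one_lt_ncard).mp h1
  obtain ⟨j₀, hj₀, hj₀x⟩ := htr x₀ hx₀ x₁ hx₁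
  have hj₀1 : j₀ ≠ 1 := fun h => h01 (by rw [← hj₀x, h, one_smul])
  obtain ⟨a, ha⟩ : ∃ a, a ∉ Γ := by
    by_contra h; push Not at h
    rw [Set.eq_univ_of_forall h, Set.ncard_univ] at h2; omega
  haveI : IsPretransitive G Ω := by
    haveI := hqp ⊤ inferInstance (fun e => hj₀1 (Subgroup.mem_bot.mp (e ▸ Subgroup.mem_top j₀)))
    exact ⟨fun u v => let ⟨g, hg⟩ := exists_smul_eq (⊤ : Subgroup G) u v; ⟨g, hg⟩⟩
  haveI : Nontrivial Ω := ⟨⟨x₀, x₁, h01⟩⟩
  rw [← isCoatom_stabilizer_iff_preprimitive G a]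
  have htop : stabilizer G a ≠ ⊤ := fun h => by
    obtain ⟨g, hg⟩ := exists_smul_eq G a x₀
    have : g ∈ stabilizer G a := h ▸ Subgroup.mem_top g
    exact ha ((this.symm.trans hg) ▸ hx₀)
  refine (eq_top_or_exists_le_coatom (stabilizer G a)).resolve_left htop |>.elim fun M hM => ?_
  obtain ⟨hM, hLM⟩ := hM
  suffices h : stabilizer G a = M from h ▸ hM
  by_contra hLne
  choose s hs using fun x : Ω => exists_smul_eq G a x
  let π : Ω → G ⧸ M := fun x => (s x : G ⧸ M)
  have hπ : ∀ (g : G) (x : Ω), π (g • x) = g • π x := fun g x => by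
    refine QuotientGroup.eq.mpr (hLM ?_)
    show ((s (g • x))⁻¹ * (g * s x)) • a = a
    rw [mul_smul, inv_smul_eq_iff, mul_smul, hs, hs]
  have hπs : Function.Surjective π := fun q => by
    induction q using QuotientGroup.induction_on with
    | H g =>
      refine ⟨g • a, ?_⟩
      refine QuotientGroup.eq.mpr (hLM ?_)
      rw [mem_stabilizer_iff, mul_smul, inv_smul_eq_iff, hs]
  have hstab : stabilizer G ((1 : G) : G ⧸ M) = M := stabilizer_quotient M
  haveI hpQ : IsPreprimitive G (G ⧸ M) := by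
    haveI : Nontrivial (G ⧸ M) := by
      rw [← Finite.one_lt_card_iff_nontrivial, ← Subgroup.index]
      exact M.one_lt_index_of_ne_top hM.1
    rw [← isCoatom_stabilizer_iff_preprimitive G ((1 : G) : G ⧸ M), hstab]; exact hM
  set o : G ⧸ M := π a with ho
  have hoM : stabilizer G o = M := by
    have : o = ((1 : G) : G ⧸ M) := QuotientGroup.eq.mpr (hLM (by
      rw [mem_stabilizer_iff, mul_one, inv_smul_eq_iff, hs]))
    rw [this, hstab]
  haveI hfQ : FaithfulSMul G (G ⧸ M) := by
    have hK : M.normalCore = ⊥ := by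
      by_contra h
      haveI := hqp _ M.normalCore_normal h
      refine hM.1 ((Subgroup.eq_top_iff' M).mpr fun g => ?_)
      obtain ⟨n, hn⟩ := exists_smul_eq M.normalCore a (g • a)
      have h' : (n : G)⁻¹ * g ∈ stabilizer G a := by
        rw [mem_stabilizer_iff, mul_smul, inv_smul_eq_iff]; exact hn.symm
      simpa using mul_mem (M.normalCore_le n.2) (hLM h')
    refine ⟨fun {g h} e => ?_⟩
    have e2 : g⁻¹ * h ∈ (MulAction.toPermHom G (G ⧸ M)).ker := by
      rw [MonoidHom.mem_ker]
      ext q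
      show (g⁻¹ * h) • q = q
      rw [mul_smul, ← e q, inv_smul_smul]
    rw [← Subgroup.normalCore_eq_ker, hK, Subgroup.mem_bot, inv_mul_eq_one] at e2
    exact e2
  -- every class meeting the set and its complement is fixed
  have hfix : ∀ j : G, (∀ z ∉ Γ, j • z = z) → ∀ q, (∃ z, π z = q ∧ z ∉ Γ) → j • q = q := by
    rintro j hj _ ⟨z, rfl, hz⟩
    rw [← hπ, hj z hz]
  have hsat : ∀ x ∈ Γ, ∀ z, π z = π x → z ∈ Γ := by
    intro x hx z hz
    by_contra hzΓ
    have hcl : ∀ y ∈ Γ, π y = π x := by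
      intro y hy
      obtain ⟨j, hj, hjx⟩ := htr x hx y hy
      rw [← hjx, hπ, hfix j hj _ ⟨z, hz, hzΓ⟩]
    have : j₀ = 1 := hfQ.eq_of_smul_eq_smul fun q => by
      rw [one_smul]
      obtain ⟨w, rfl⟩ := hπs q
      by_cases hw : w ∈ Γ
      · exact hfix j₀ hj₀ _ ⟨z, hz.trans (hcl w hw).symm, hzΓ⟩
      · exact hfix j₀ hj₀ _ ⟨w, rfl, hw⟩
    exact hj₀1 this
  set Γ' : Set (G ⧸ M) := π '' Γ with hΓ'
  have htr' : Moves G Γ' := by
    rintro _ ⟨x, hx, rfl⟩ _ ⟨y, hy, rfl⟩
    obtain ⟨j, hj, hjx⟩ := htr x hx y hy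
    refine ⟨j, fun q hq => ?_, by rw [← hπ, hjx]⟩
    obtain ⟨w, rfl⟩ := hπs q
    exact hfix j hj _ ⟨w, rfl, fun hw => hq ⟨w, hw, rfl⟩⟩
  have h1' : 1 < Γ'.ncard := by
    by_contra h
    have hcl : ∀ y ∈ Γ, π y = π x₀ := fun y hy =>
      ((Set.ncard_le_one).mp (not_lt.mp h)) _ ⟨y, hy, rfl⟩ _ ⟨x₀, hx₀, rfl⟩
    have : j₀ = 1 := hfQ.eq_of_smul_eq_smul fun q => by
      rw [one_smul]
      obtain ⟨w, rfl⟩ := hπs q
      by_cases hw : w ∈ Γ
      · rw [← hπ, hcl w hw]
        refine hcl _ (by_contra fun h => h ?_)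
        rw [show j₀ • w = w from MulAction.injective j₀ (hj₀ _ h)]; exact hw
      · exact hfix j₀ hj₀ _ ⟨w, rfl, hw⟩
    exact hj₀1 this
  haveI := Fintype.ofFinite (G ⧸ M)
  have h2' : 2 * Γ'.ncard < Nat.card (G ⧸ M) := by
    obtain ⟨b, hb⟩ : ∃ b, ∀ q, (Finset.univ.filter fun x => π x = q).card = b := by
      refine ⟨(Finset.univ.filter fun x => π x = o).card, fun q => ?_⟩
      obtain ⟨g, rfl⟩ := exists_smul_eq G o q
      refine (Finset.card_equiv (MulAction.toPerm g) fun x => ?_).symm
      simp [hπ]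
    have e1 : Nat.card Ω = Nat.card (G ⧸ M) * b := by
      rw [Nat.card_eq_fintype_card, Nat.card_eq_fintype_card, ← Finset.card_univ,
        Finset.card_eq_sum_card_fiberwise (f := π) (t := Finset.univ) (fun _ _ => Finset.mem_coe.mpr (Finset.mem_univ _))]
      simp [hb]
    have e2 : Γ.ncard = Γ'.ncard * b := by
      rw [Set.ncard_eq_toFinset_card', Set.ncard_eq_toFinset_card',
        Finset.card_eq_sum_card_fiberwise (f := π) (t := Γ'.toFinset) (fun x hx => by
          rw [Finset.mem_coe, Set.mem_toFinset]; exact ⟨x, Set.mem_toFinset.mp (Finset.mem_coe.mp hx), rfl⟩)]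
      rw [Finset.sum_congr rfl (g := fun _ => b) (fun q hq => by
        obtain ⟨x, hx, rfl⟩ := Set.mem_toFinset.mp hq
        rw [← hb (π x)]
        congr 1; ext z
        simp only [Finset.mem_filter, Set.mem_toFinset, Finset.mem_univ, true_and, and_iff_right_iff_imp]
        exact hsat x hx z), Finset.sum_const, smul_eq_mul]
    rw [e1, e2, ← mul_assoc] at h2
    exact Nat.lt_of_mul_lt_mul_right h2
  have hbig := marggraff hpQ h1' h2' htr'
  -- the fibre over a class is fixed pointwise by the three-cycles fixing the class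
  let N : Subgroup G :=
    { carrier := {g | ∀ z, π z = o → g • z = z}
      one_mem' := fun z _ => one_smul _ z
      mul_mem' := fun {u v} hu hv z hz => by rw [mul_smul, hv z hz, hu z hz]
      inv_mem' := fun {u} hu z hz => inv_smul_eq_iff.mpr (hu z hz).symm }
  have hNconj : ∀ u ∈ N, ∀ g : G, g • o = o → g * u * g⁻¹ ∈ N := fun u hu g hg z hz => by
    rw [mul_smul, mul_smul, hu _ (by rw [hπ, hz, inv_smul_eq_iff, hg]), smul_inv_smul]
  have hoΓ : o ∉ Γ' := fun ⟨x, hx, hxo⟩ => ha (hsat x hx a hxo.symm)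
  let f := MulAction.toPermHom G (G ⧸ M)
  -- conjugation by permutations fixing the class
  have hperm : ∀ u ∈ N, ∀ σ : Perm (G ⧸ M), σ o = o → Perm.sign σ = 1 → ∃ v ∈ N, f v = σ * f u * σ⁻¹ := by
    intro u hu σ hσo hσ
    obtain ⟨g, rfl⟩ := hbig σ hσ
    exact ⟨g * u * g⁻¹, hNconj u hu g hσo, by rw [map_mul, map_mul, map_inv]; rfl⟩
  have hj₀N : j₀ ∈ N := fun z hz => hj₀ z fun h => hoΓ ⟨z, h, hz⟩
  obtain ⟨t, ht, htN⟩ : ∃ t : Perm (G ⧸ M), t.IsThreeCycle ∧ ∃ v ∈ N, f v = t := by
    set S := (f j₀).support with hS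
    have hSΓ : ∀ q ∈ S, q ∈ Γ' := fun q hq => by_contra fun h => by
      obtain ⟨w, rfl⟩ := hπs q
      exact Perm.mem_support.mp hq (hfix j₀ hj₀ _ ⟨w, rfl, fun hw => h ⟨w, hw, rfl⟩⟩)
    have hf1 : f j₀ ≠ 1 := fun h => hj₀1 (hfQ.eq_of_smul_eq_smul fun q => by
      rw [one_smul]; exact congrFun (congrArg (⇑) h) q)
    have hScard : 2 ≤ S.card := Perm.two_le_card_support_of_ne_one hf1
    obtain ⟨p, hp, p', hp', hpp⟩ := Finset.one_lt_card.mp (by omega : 1 < S.card)
    have hSle : S.card ≤ Γ'.ncard := by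
      rw [Set.ncard_eq_toFinset_card']; exact Finset.card_le_card fun q hq => Set.mem_toFinset.mpr (hSΓ q hq)
    have hoS : o ∉ S := fun h => hoΓ (hSΓ o h)
    obtain ⟨U, hU, hUc⟩ := Finset.exists_subset_card_eq (s := (insert o S)ᶜ) (n := S.card - 1) (by
      rw [Finset.card_compl, Finset.card_insert_of_notMem hoS, ← Nat.card_eq_fintype_card]; omega)
    have hUS : ∀ q ∈ U, q ≠ o ∧ q ∉ S := fun q hq => by simpa [Finset.mem_compl] using hU hq
    let W := insert o S
    let W' := insert o (insert p U)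
    have hcW : W.card = W'.card := by
      simp only [W, W']
      rw [Finset.card_insert_of_notMem hoS, Finset.card_insert_of_notMem, Finset.card_insert_of_notMem, hUc]
      · omega
      · exact fun h => (hUS p h).2 hp
      · rw [Finset.mem_insert]; rintro (h | h)
        · exact hoS (h ▸ hp)
        · exact (hUS o h).1 rfl
    -- an even permutation fixing o which maps S onto p ∪ U
    obtain ⟨σ, hσs, hσo, hσS⟩ : ∃ σ : Perm (G ⧸ M), Perm.sign σ = 1 ∧ σ o = o ∧ ∀ q ∈ S, σ q ∈ insert p U := by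
      have hc1 : S.card = (insert p U).card := by
        rw [Finset.card_insert_of_notMem fun h => (hUS p h).2 hp, hUc]; omega
      let e0 := Finset.equivOfCardEq hc1
      let σ0 := e0.extendSubtype
      let σ1 := swap (σ0 o) o * σ0
      have hσ1o : σ1 o = o := swap_apply_left _ _
      have hσ1S : ∀ q ∈ S, σ1 q ∈ insert p U := fun q hq => by
        have h := e0.extendSubtype_mem q hq
        show swap (σ0 o) o (σ0 q) ∈ _
        rw [swap_apply_of_ne_of_ne (fun e => by have e' := σ0.injective e; rw [e'] at hq; exact hoS hq)]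
        · exact h
        · intro e
          rw [show e0.extendSubtype q = σ0 q from rfl, e, Finset.mem_insert] at h
          exact h.elim (fun h => hoS (h ▸ hp)) fun h => (hUS o h).1 rfl
      rcases Int.units_eq_one_or (Perm.sign σ1) with h | h
      · exact ⟨σ1, h, hσ1o, hσ1S⟩
      · refine ⟨σ1 * swap p p', by rw [map_mul, h, Perm.sign_swap hpp]; rfl, ?_, fun q hq => ?_⟩
        · rw [Perm.mul_apply, swap_apply_of_ne_of_ne (fun e => by rw [← e] at hp; exact hoS hp)
            (fun e => by rw [← e] at hp'; exact hoS hp'), hσ1o]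
        · rw [Perm.mul_apply]
          refine hσ1S _ ?_
          rw [swap_apply_def]; split_ifs <;> assumption
    obtain ⟨v, hv, hfv⟩ := hperm j₀ hj₀N σ hσo hσs
    have himg : ∀ q, q ∈ insert p U → ∃ r ∈ S, σ r = q := fun q hq => by
      have : S.image σ = insert p U := Finset.eq_of_subset_of_card_le (Finset.image_subset_iff.mpr hσS) (by
        rw [Finset.card_image_of_injective _ σ.injective, Finset.card_insert_of_notMem fun h => (hUS p h).2 hp, hUc]; omega)
      exact Finset.mem_image.mp (this ▸ hq)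
    obtain ⟨r, hr, hrp⟩ := himg p (Finset.mem_insert_self _ _)
    refine ⟨_, threeCycle_of_inter (f j₀) (f v) (A := ↑S) (B := ↑(insert p U)) (x := p)
      (fun w hw => Perm.notMem_support.mp hw) (fun w hw => ?_) (fun w h h' => ?_) (Perm.mem_support.mp hp) ?_,
      j₀ * v * j₀⁻¹ * v⁻¹, mul_mem (mul_mem (mul_mem hj₀N hv) (inv_mem hj₀N)) (inv_mem hv), by simp⟩
    · have hnS : f j₀ (σ⁻¹ w) = σ⁻¹ w := Perm.notMem_support.mp fun h => hw (by
        have := hσS _ h
        rwa [Perm.coe_inv, Equiv.apply_symm_apply] at this)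
      rw [hfv, Perm.mul_apply, Perm.mul_apply, hnS, Perm.coe_inv, Equiv.apply_symm_apply]
    · rcases Finset.mem_insert.mp h' with e | e
      · exact e
      · exact absurd h (hUS w e).2
    · rw [← hrp, hfv, Perm.mul_apply, Perm.mul_apply, Perm.coe_inv, Equiv.symm_apply_apply]
      exact fun h => Perm.mem_support.mp hr (σ.injective h)
  have hto : t o = o := by
    obtain ⟨v, hv, rfl⟩ := htN
    show v • o = o
    rw [ho, ← hπ, hv a rfl]
  let P : (G ⧸ M) → Prop := fun q => q ≠ o
  haveI : Fintype (Subtype P) := Fintype.ofFinite _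
  have hst : ∀ ρ : Perm (G ⧸ M), ρ o = o → ∀ q, P (ρ q) ↔ P q := fun ρ hρ q => by
    simp only [P, ne_eq]; exact not_congr ⟨fun h => ρ.injective (h.trans hρ.symm), fun h => by rw [h, hρ]⟩
  have hsub : ∀ (ρ : Perm (G ⧸ M)) (hρ : ρ o = o), Perm.ofSubtype (ρ.subtypePerm (hst ρ hρ)) = ρ :=
    fun ρ hρ => Perm.ofSubtype_subtypePerm (hst ρ hρ) fun q hq e => hq (by rw [e, hρ])
  obtain ⟨u, hu, hfu⟩ := htN
  have hthree : ∀ τ : Perm (Subtype P), τ.IsThreeCycle → ∃ v ∈ N, f v = Perm.ofSubtype τ := by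
    intro τ hτ
    let t' : Perm (Subtype P) := t.subtypePerm (hst t hto)
    have et : Perm.ofSubtype t' = t := hsub t hto
    have hc : IsConj t' τ := by
      rw [Perm.isConj_iff_cycleType_eq, ← Perm.cycleType_ofSubtype, et, ht, hτ]
    obtain ⟨ρ', hρ'⟩ := isConj_iff.mp hc
    set ρ := Perm.ofSubtype ρ'
    have hρo : ρ o = o := Perm.ofSubtype_apply_of_not_mem ρ' (fun h : P o => h rfl)
    have hρt : ρ * t * ρ⁻¹ = Perm.ofSubtype τ := by rw [← et, ← hρ', map_mul, map_mul, map_inv]
    rcases Int.units_eq_one_or (Perm.sign ρ) with h | h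
    · obtain ⟨v, hv, hfv⟩ := hperm u hu ρ hρo h
      exact ⟨v, hv, by rw [hfv, hfu, hρt]⟩
    · obtain ⟨p, hp⟩ : t.support.Nonempty := Finset.card_pos.mp (by rw [ht.card_support]; omega)
      obtain ⟨hpt, hrev⟩ := swap_conj ht (Perm.mem_support.mp hp)
      have hpo : p ≠ o := fun e => Perm.mem_support.mp hp (e ▸ hto)
      have htpo : t p ≠ o := fun e => hpo (t.injective (e.trans hto.symm))
      obtain ⟨v, hv, hfv⟩ := hperm u⁻¹ (inv_mem hu) (ρ * swap p (t p)) (by
        rw [Perm.mul_apply, swap_apply_of_ne_of_ne hpo.symm htpo.symm, hρo]) (by rw [map_mul, h, Perm.sign_swap hpt]; rfl)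
      refine ⟨v, hv, ?_⟩
      rw [hfv, map_inv, hfu, ← hρt]
      conv_rhs => rw [← hrev]
      simp [mul_assoc]
  -- so the even permutations fixing the class fix its fibre
  have hle : alternatingGroup (Subtype P) ≤ (N.map f).comap Perm.ofSubtype := by
    rw [← Perm.closure_three_cycles_eq_alternating, Subgroup.closure_le]
    intro τ hτ
    obtain ⟨v, hv, hfv⟩ := hthree τ hτ
    exact ⟨v, hv, hfv⟩
  have hA : ∀ g : G, g • o = o → Perm.sign (f g) = 1 → g • a = a := by
    intro g hg hs'
    obtain ⟨v, hv, hfv⟩ := hle (x := (f g).subtypePerm (hst (f g) hg)) (by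
      rw [Perm.mem_alternatingGroup, ← Perm.sign_ofSubtype, hsub (f g) hg, hs'])
    rw [hsub (f g) hg] at hfv
    have : v = g := hfQ.eq_of_smul_eq_smul fun q => congrFun (congrArg (⇑) hfv) q
    exact this ▸ hv a rfl
  let A : Subgroup G := (Perm.sign.comp f).ker
  have hAne : A ≠ ⊥ := fun h => by
    have hu1 : u ∈ A := by
      show Perm.sign (f u) = 1
      rw [hfu, ht.sign]
    rw [h, Subgroup.mem_bot] at hu1
    rw [hu1, map_one] at hfu
    exact ht.isCycle.ne_one hfu.symm
  haveI := hqp A inferInstance hAne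
  obtain ⟨m', hm', hm''⟩ := SetLike.exists_of_lt (lt_of_le_of_ne hLM hLne)
  obtain ⟨g, hg⟩ := exists_smul_eq A a (m' • a)
  have hgo : (g : G) • o = o := by
    rw [ho, ← hπ, show (g : G) • a = m' • a from hg, hπ]
    exact (hoM.symm ▸ hm' : m' ∈ stabilizer G o)
  exact hm'' ((show (g : G) • a = m' • a from hg).symm.trans (hA g hgo g.2))

end Cfsg.Lib.Marggraff
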