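import Cfsg.Agent.Known.SLTwo.Spectrum

/-!
Powers of the natural module extended by SL₂ in characteristic two: the element orders coprime to four.
-/

namespace Cfsg.Lib.NatModule

open Matrix
open scoped MatrixGroups

variable (F : Type) [Field F] (n : ℕ)

/-- The module. -/
abbrev W : Type := Fin n → Fin 2 → F

/-- The action on each coordinate. -/
def act : SL(2, F) →* MulAut (Multiplicative (W F n)) where
  toFun g := AddEquiv.toMultiplicative
    (AddEquiv.piCongrRight fun _ : Fin n => (Matrix.SpecialLinearGroup.toLin' g).toAddEquiv)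
  map_one' := MulEquiv.ext fun w => Multiplicative.toAdd.injective (funext fun i => by simp [AddEquiv.toMultiplicative])
  map_mul' g h := MulEquiv.ext fun w => Multiplicative.toAdd.injective (funext fun i => by simp [AddEquiv.toMultiplicative])

/-- The extension. -/
abbrev Ext : Type := SemidirectProduct (Multiplicative (W F n)) SL(2, F) (act F n)

instance [Finite F] : Finite (Ext F n) := Finite.of_equiv _ SemidirectProduct.equivProd.symm

theorem le_card [Finite F] : n < Nat.card (Ext F n) := by
  rw [Nat.card_congr SemidirectProduct.equivProd, Nat.card_prod]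
  have h1 : 2 ^ n ≤ Nat.card (Multiplicative (W F n)) := by
    show 2 ^ n ≤ Nat.card (Fin n → Fin 2 → F)
    rw [Nat.card_fun, Nat.card_fin, Nat.card_fun, Nat.card_fin]
    exact Nat.pow_le_pow_left (le_trans (Finite.one_lt_card (α := F)) (Nat.le_self_pow two_ne_zero _)) n
  exact (Nat.lt_two_pow_self).trans_le (h1.trans (Nat.le_mul_of_pos_right _ Nat.card_pos))

variable {F n} [Fintype F] [CharP F 2]

theorem sq_eq_one (v : Multiplicative (W F n)) : v * v = 1 :=
  Multiplicative.toAdd.injective (funext fun i => funext fun k => CharTwo.add_self_eq_zero _)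

/-- Either the order divides four, or the element is conjugate to its linear part. -/
theorem orderOf_cases (x : Ext F n) : orderOf x ∣ 4 ∨ orderOf x = orderOf x.right := by
  haveI : Fact (Nat.Prime 2) := ⟨Nat.prime_two⟩
  by_cases h2 : x.right * x.right = 1
  · left
    refine orderOf_dvd_of_pow_eq_one ?_
    have e : x * x = SemidirectProduct.inl (x * x).left := SemidirectProduct.ext rfl h2
    rw [show x ^ 4 = (x * x) * (x * x) by simp only [pow_succ, pow_zero, one_mul, mul_assoc], e, ← map_mul, sq_eq_one, map_one]
  · right
    set g := (x.right : Matrix (Fin 2) (Fin 2) F) with hg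
    have ht : g.trace ≠ 0 := by
      intro ht
      by_cases hns : Cfsg.Lib.GLTwo.NonScalar g
      · have h := (Cfsg.Lib.GLTwo.orderOf_eq_char_iff 2 x.right).2 ⟨hns, by rw [CharTwo.add_self_eq_zero]; exact ht⟩
        have hp2 := pow_orderOf_eq_one x.right
        rw [h, pow_two] at hp2
        exact h2 hp2
      · rcases (Cfsg.Lib.GLTwo.mem_center_iff_pm _).1 ((Cfsg.Lib.GLTwo.mem_center_iff _).2 hns) with e | e <;>
          exact h2 (by rw [e]; simp)
    have hd : g 0 0 * g 1 1 - g 0 1 * g 1 0 = 1 := by
      rw [← Matrix.det_fin_two]; exact x.right.2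
    have hdet : IsUnit (1 - g).det := by
      refine isUnit_iff_ne_zero.mpr ?_
      have : (1 - g).det = g.trace := by
        simp only [Matrix.det_fin_two, Matrix.trace_fin_two, Matrix.sub_apply, Matrix.one_apply_eq, ne_eq,
          Fin.reduceEq, not_false_eq_true, Matrix.one_apply_ne]
        linear_combination hd + CharTwo.add_self_eq_zero (1 : F) - CharTwo.add_self_eq_zero (g 0 0 + g 1 1)
      rwa [this]
    let u : W F n := fun i => (1 - g)⁻¹ *ᵥ x.left.toAdd i
    have e : SemidirectProduct.inl (Multiplicative.ofAdd u) * SemidirectProduct.inr x.right *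
        (SemidirectProduct.inl (Multiplicative.ofAdd u) : Ext F n)⁻¹ = x := by
      refine SemidirectProduct.ext ?_ (by simp)
      rw [SemidirectProduct.mul_left, SemidirectProduct.mul_left, SemidirectProduct.inv_left,
        SemidirectProduct.mul_right]
      simp only [SemidirectProduct.left_inl, SemidirectProduct.right_inl, SemidirectProduct.left_inr,
        SemidirectProduct.right_inr, map_one, inv_one, MulAut.one_apply, one_mul, mul_one]
      refine Multiplicative.toAdd.injective (funext fun i => ?_)
      show u i + g *ᵥ (-(u i)) = x.left.toAdd i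
      have : (1 - g) *ᵥ u i = x.left.toAdd i := by
        simp only [u, mulVec_mulVec, Matrix.mul_nonsing_inv _ hdet, one_mulVec]
      rw [← this, sub_mulVec, one_mulVec, mulVec_neg, sub_eq_add_neg]
    conv_lhs => rw [← e]
    exact (orderOf_injective (MulAut.conj (SemidirectProduct.inl (Multiplicative.ofAdd u) : Ext F n)).toMonoidHom
      (MulAut.conj _).injective (SemidirectProduct.inr x.right)).trans
      (orderOf_injective _ SemidirectProduct.inr_injective x.right)

theorem exists_orderOf_iff (m : ℕ) (h4 : ¬ m ∣ 4) :
    (∃ x : Ext F n, orderOf x = m) ↔ ∃ g : SL(2, F), orderOf g = m := by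
  constructor
  · rintro ⟨x, rfl⟩
    exact ⟨x.right, ((orderOf_cases x).resolve_left h4).symm⟩
  · rintro ⟨g, rfl⟩
    exact ⟨SemidirectProduct.inr g, orderOf_injective _ SemidirectProduct.inr_injective g⟩

end Cfsg.Lib.NatModule
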