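import Mathlib

/-!
The groups of order 162 with an elementary abelian normal subgroup of order 27 whose Sylow 3-subgroup has
centre of order 3, recognised as a centraliser in the symmetric group of degree 9.
-/

namespace Cfsg.Lib.Order162

open Subgroup MulAction
open scoped Pointwise

variable {G : Type*} [Group G] {J : Subgroup G}

/-- The norm along `x`. -/
def nrm (x j : G) : G := j * (x * j * x⁻¹) * (x * x * j * (x * x)⁻¹)

/-- The commutator map along `x`. -/
def dd (x j : G) : G := x * j * x⁻¹ * j⁻¹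

section
variable (hJn : J.Normal) (hcomm : ∀ a ∈ J, ∀ b ∈ J, a * b = b * a) {x : G}
include hJn

theorem conj_mem' {j : G} (hj : j ∈ J) (g : G) : g * j * g⁻¹ ∈ J := hJn.conj_mem j hj g

theorem dd_mem {j : G} (hj : j ∈ J) : dd x j ∈ J := mul_mem (conj_mem' hJn hj x) (inv_mem hj)

theorem nrm_mem {j : G} (hj : j ∈ J) : nrm x j ∈ J :=
  mul_mem (mul_mem hj (conj_mem' hJn hj _)) (conj_mem' hJn hj _)

include hcomm

theorem dd_dd (hexp : ∀ a ∈ J, a ^ 3 = 1) {j : G} (hj : j ∈ J) : dd x (dd x j) = nrm x j := by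
  set j₁ := x * j * x⁻¹ with h1
  set j₂ := x * x * j * (x * x)⁻¹ with h2
  have m1 : j₁ ∈ J := conj_mem' hJn hj _
  have m2 : j₂ ∈ J := conj_mem' hJn hj _
  have e : dd x (dd x j) = j₂ * j₁⁻¹ * (j₁ * j⁻¹)⁻¹ := by simp only [dd, h1, h2]; group
  rw [e, show (j₁ * j⁻¹)⁻¹ = j * j₁⁻¹ by group, show nrm x j = j * j₁ * j₂ from rfl]
  have e3 : j₁⁻¹ * j₁⁻¹ = j₁ := by
    have h := hexp j₁ m1
    rw [pow_three] at h
    rw [← mul_inv_rev, inv_eq_iff_mul_eq_one, mul_assoc]; exact h
  have c1 : j * j₁⁻¹ = j₁⁻¹ * j := hcomm j hj _ (inv_mem m1)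
  have c2 : (j₁⁻¹ * j₁⁻¹) * j = j * (j₁⁻¹ * j₁⁻¹) := hcomm _ (mul_mem (inv_mem m1) (inv_mem m1)) j hj
  calc j₂ * j₁⁻¹ * (j * j₁⁻¹) = j₂ * ((j₁⁻¹ * j₁⁻¹) * j) := by rw [c1]; group
    _ = j₂ * (j * j₁) := by rw [c2, e3]
    _ = j * j₁ * j₂ := hcomm _ m2 _ (mul_mem hj m1)

theorem nrm_mul {j k : G} (hj : j ∈ J) (hk : k ∈ J) : nrm x (j * k) = nrm x j * nrm x k := by
  set j₁ := x * j * x⁻¹ with h1
  set j₂ := x * x * j * (x * x)⁻¹ with h2
  set k₁ := x * k * x⁻¹ with h3
  set k₂ := x * x * k * (x * x)⁻¹ with h4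
  have m1 : j₁ ∈ J := conj_mem' hJn hj _
  have m2 : j₂ ∈ J := conj_mem' hJn hj _
  have n1 : k₁ ∈ J := conj_mem' hJn hk _
  have n2 : k₂ ∈ J := conj_mem' hJn hk _
  have e : nrm x (j * k) = j * k * (j₁ * k₁) * (j₂ * k₂) := by simp only [nrm, h1, h2, h3, h4]; group
  rw [e, nrm, nrm, ← h1, ← h2, ← h3, ← h4]
  calc j * k * (j₁ * k₁) * (j₂ * k₂) = j * (k * j₁) * (k₁ * j₂) * k₂ := by group
    _ = j * j₁ * (k * j₂) * k₁ * k₂ := by rw [hcomm k hk j₁ m1, hcomm k₁ n1 j₂ m2]; group
    _ = j * j₁ * j₂ * (k * k₁ * k₂) := by rw [hcomm k hk j₂ m2]; group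

end

variable [Finite G]

/-- A nontrivial element of an abelian normal subgroup of exponent three has a nontrivial fixed element
among itself, its commutator and its norm. -/
theorem exists_fixed (hJn : J.Normal) (hcomm : ∀ a ∈ J, ∀ b ∈ J, a * b = b * a) (hexp : ∀ a ∈ J, a ^ 3 = 1)
    {x : G} (hx3 : ∀ a ∈ J, (x * x * x) * a = a * (x * x * x)) {j : G} (hj : j ∈ J) (hj1 : j ≠ 1) :
    ∃ k, k ∈ J ∧ k ≠ 1 ∧ x * k = k * x ∧ (k = j ∨ k = dd x j ∨ k = nrm x j) := by
  by_cases h1 : dd x j = 1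
  · exact ⟨j, hj, hj1, by rwa [dd, mul_inv_eq_one, mul_inv_eq_iff_eq_mul] at h1, Or.inl rfl⟩
  by_cases h2 : nrm x j = 1
  · refine ⟨dd x j, dd_mem hJn hj, h1, ?_, Or.inr (Or.inl rfl)⟩
    rw [← dd_dd hJn hcomm hexp hj, dd, mul_inv_eq_one, mul_inv_eq_iff_eq_mul] at h2
    exact h2
  refine ⟨nrm x j, nrm_mem hJn hj, h2, ?_, Or.inr (Or.inr rfl)⟩
  have e : x * nrm x j * x⁻¹ = x * j * x⁻¹ * (x * x * j * (x * x)⁻¹) * j := by
    calc x * nrm x j * x⁻¹
        = x * j * x⁻¹ * (x * x * j * (x * x)⁻¹) * (x * x * x * j * (x * x * x)⁻¹) := by rw [nrm]; group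
      _ = _ := by rw [hx3 j hj, mul_inv_cancel_right]
  have : x * nrm x j * x⁻¹ = nrm x j := by
    rw [e, hcomm _ (mul_mem (conj_mem' hJn hj _) (conj_mem' hJn hj _)) j hj, nrm, mul_assoc j]
  rwa [mul_inv_eq_iff_eq_mul] at this

/-- The permutation of nine points. -/
def sigma : Equiv.Perm (Fin 9) :=
  Equiv.swap (0 : Fin 9) 1 * Equiv.swap 1 2 * Equiv.swap 3 4 * Equiv.swap 4 5 * Equiv.swap 6 7 * Equiv.swap 7 8

theorem cycleType_sigma : sigma.cycleType = {3, 3, 3} := by decide +kernel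

theorem card_centralizer_sigma : Nat.card (centralizer ({sigma} : Set (Equiv.Perm (Fin 9)))) = 162 := by
  rw [Equiv.Perm.nat_card_centralizer, cycleType_sigma]
  simp only [Fintype.card_fin]
  decide

theorem cycleType_of_fpf {p : Equiv.Perm (Fin 9)} (hp : p ^ 3 = 1) (hfix : ∀ i, p i ≠ i) :
    p.cycleType = {3, 3, 3} := by
  have h1 : p ≠ 1 := fun h => hfix 0 (by rw [h]; rfl)
  have ho : orderOf p = 3 := orderOf_eq_prime hp h1
  obtain ⟨n, hn⟩ := Equiv.Perm.cycleType_prime_order (σ := p) (ho ▸ Nat.prime_three)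
  rw [ho] at hn
  have hs : p.support = Finset.univ := by
    ext i; simpa using hfix i
  have := Equiv.Perm.sum_cycleType p
  rw [hn, hs, Multiset.sum_replicate, Finset.card_univ, Fintype.card_fin, smul_eq_mul] at this
  have hn2 : n = 2 := by omega
  rw [hn, hn2]; rfl

theorem main (hG : Nat.card G = 162) (S : Sylow 3 G) (T : Sylow 2 G) (hJn : J.Normal)
    (hJcomm : IsMulCommutative J) (hexp : ∀ a ∈ J, a ^ 3 = 1) (hJcard : Nat.card J = 27)
    (Z : Subgroup G) (hZ : Z = (S : Subgroup G) ⊓ centralizer ((S : Subgroup G) : Set G)) (hZcard : Nat.card Z = 3)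
    (hZT : Z ≤ centralizer ((T : Subgroup G) : Set G))
    (hST : (S : Subgroup G) ⊓ centralizer ((T : Subgroup G) : Set G) ≠ S) :
    Nonempty (G ≃* centralizer ({sigma} : Set (Equiv.Perm (Fin 9)))) := by
  classical
  have hf := Fact.mk Nat.prime_three
  have hf2 := Fact.mk Nat.prime_two
  have hcomm : ∀ a ∈ J, ∀ b ∈ J, a * b = b * a := fun a ha b hb =>
    congrArg Subtype.val (hJcomm.is_comm.comm ⟨a, ha⟩ ⟨b, hb⟩)
  have hSc : Nat.card (S : Subgroup G) = 81 := by
    rw [Sylow.card_eq_multiplicity, hG, show (162 : ℕ) = 3 ^ 4 * 2 from rfl,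
      Nat.factorization_mul (by norm_num) (by norm_num), Nat.Prime.factorization_pow Nat.prime_three,
      Finsupp.add_apply, Finsupp.single_eq_same, Nat.Prime.factorization Nat.prime_two,
      Finsupp.single_eq_of_ne (by norm_num)]
    rfl
  have hTc : Nat.card (T : Subgroup G) = 2 := by
    rw [Sylow.card_eq_multiplicity, hG, show (162 : ℕ) = 3 ^ 4 * 2 from rfl,
      Nat.factorization_mul (by norm_num) (by norm_num), Nat.Prime.factorization_pow Nat.prime_three,
      Finsupp.add_apply, Finsupp.single_eq_of_ne (by norm_num), Nat.Prime.factorization Nat.prime_two,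
      Finsupp.single_eq_same]
    rfl
  have hSi : (S : Subgroup G).index = 2 := by
    have := (S : Subgroup G).card_mul_index; rw [hSc, hG] at this; omega
  have hSn : (S : Subgroup G).Normal := normal_of_index_eq_two hSi
  have hJS : J ≤ (S : Subgroup G) := by
    have hJp : IsPGroup 3 J := IsPGroup.of_card (n := 3) (by rw [hJcard]; rfl)
    obtain ⟨Q, hQ⟩ := hJp.exists_le_sylow
    obtain ⟨g, rfl⟩ := MulAction.exists_smul_eq G S Q
    rwa [Sylow.smul_eq_of_normal] at hQ
  have : Nontrivial (T : Subgroup G) := Finite.one_lt_card_iff_nontrivial.mp (hTc.symm ▸ one_lt_two)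
  obtain ⟨tT, htT⟩ := exists_ne (1 : (T : Subgroup G))
  set t : G := tT.1 with ht
  have ht1 : t ≠ 1 := fun h => htT (Subtype.ext h)
  have ht2 : t * t = 1 := by
    have h : tT ^ Nat.card (T : Subgroup G) = 1 := pow_card_eq_one'
    rw [hTc, pow_two] at h
    exact congrArg Subtype.val h
  have htinv : t⁻¹ = t := inv_eq_of_mul_eq_one_right ht2
  have hot : orderOf t = 2 := orderOf_eq_prime (by rw [pow_two, ht2]) ht1
  have hT_cases : ∀ u ∈ (T : Subgroup G), u = 1 ∨ u = t := by
    intro u hu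
    obtain ⟨a, b, hab, huniv⟩ := Nat.card_eq_two_iff.mp hTc
    have hm : ∀ w : (T : Subgroup G), w = a ∨ w = b := fun w => by
      have : w ∈ ({a, b} : Set _) := huniv ▸ Set.mem_univ w
      simpa using this
    rcases hm ⟨u, hu⟩ with e | e <;> rcases hm 1 with e' | e' <;> rcases hm tT with e'' | e''
    all_goals first
      | exact Or.inl (congrArg Subtype.val (e.trans e'.symm))
      | exact Or.inr (congrArg Subtype.val (e.trans e''.symm))
      | exact absurd (e''.trans e'.symm) htT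
  have htS : t ∉ (S : Subgroup G) := fun h => by
    have := Subgroup.orderOf_dvd_natCard _ h; rw [hot, hSc] at this; omega
  have hSt : ∀ g : G, g ∈ (S : Subgroup G) ∨ g * t ∈ (S : Subgroup G) := fun g => by
    by_cases hg : g ∈ (S : Subgroup G)
    · exact Or.inl hg
    · exact Or.inr ((Subgroup.mul_mem_iff_of_index_two hSi).mpr (iff_of_false hg htS))
  have hSJ : ∀ s ∈ (S : Subgroup G), s ∉ J → J ⊔ zpowers s = (S : Subgroup G) := by
    intro s hs hsJ
    have hle : J ⊔ zpowers s ≤ (S : Subgroup G) := sup_le hJS (zpowers_le.mpr hs)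
    refine eq_of_le_of_card_ge hle ?_
    have hd := card_dvd_of_le hle
    have hd' : 27 ∣ Nat.card (J ⊔ zpowers s : Subgroup G) := hJcard ▸ card_dvd_of_le le_sup_left
    have hne : Nat.card (J ⊔ zpowers s : Subgroup G) ≠ 27 := fun h => by
      have := eq_of_le_of_card_ge (le_sup_left : J ≤ J ⊔ zpowers s) (by rw [h, hJcard])
      exact hsJ (this ▸ mem_sup_right (mem_zpowers s))
    rw [hSc] at hd ⊢
    obtain ⟨k, hk⟩ := hd'
    rw [hk] at hd hne ⊢
    have : k ∣ 3 := (Nat.mul_dvd_mul_iff_left (by norm_num : 0 < 27)).mp hd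
    rcases (Nat.dvd_prime Nat.prime_three).mp this with rfl | rfl
    · exact absurd rfl hne
    · exact le_rfl
  have hZmem : ∀ c, c ∈ Z ↔ c ∈ (S : Subgroup G) ∧ ∀ s ∈ (S : Subgroup G), s * c = c * s := by
    intro c; rw [hZ]; simp [mem_centralizer_iff]; exact fun _ => Iff.rfl
  have hfixZ : ∀ s ∈ (S : Subgroup G), s ∉ J → ∀ j ∈ J, s * j = j * s → j ∈ Z := by
    intro s hs hsJ j hj hsj
    refine (hZmem j).mpr ⟨hJS hj, fun u hu => ?_⟩
    have : J ⊔ zpowers s ≤ centralizer ({j} : Set G) :=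
      sup_le (fun a ha => mem_centralizer_singleton_iff.mpr (hcomm a ha j hj))
        (zpowers_le.mpr (mem_centralizer_singleton_iff.mpr hsj))
    exact mem_centralizer_singleton_iff.mp (this ((hSJ s hs hsJ).symm ▸ hu))
  have hZt : ∀ c ∈ Z, t * c = c * t := fun c hc => mem_centralizer_iff.mp (hZT hc) t tT.2
  have hcube : ∀ s ∈ (S : Subgroup G), s * s * s ∈ J := by
    intro s hs
    have hJn' : (J.subgroupOf (S : Subgroup G)).Normal := inferInstance
    have hi : (J.subgroupOf (S : Subgroup G)).index = 3 := by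
      have := (J.subgroupOf (S : Subgroup G)).card_mul_index
      rw [Nat.card_congr (subgroupOfEquivOfLe hJS).toEquiv, hJcard, hSc] at this
      omega
    have h := pow_index_mem (J.subgroupOf (S : Subgroup G)) ⟨s, hs⟩
    rw [hi, mem_subgroupOf, coe_pow, pow_three'] at h
    exact h
  have hfix3 : ∀ s ∈ (S : Subgroup G), ∀ a ∈ J, (s * s * s) * a = a * (s * s * s) :=
    fun s hs a ha => hcomm _ (hcube s hs) a ha
  -- an inverted element of order three outside `J`
  obtain ⟨y, hyS, hyJ⟩ : ∃ y ∈ (S : Subgroup G), y * t * y⁻¹ * t ∉ J := by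
    by_contra hcon
    push Not at hcon
    obtain ⟨y₀, hy₀S, hy₀J⟩ : ∃ y ∈ (S : Subgroup G), y ∉ J := by
      by_contra h; push Not at h
      have := card_le_of_le (show (S : Subgroup G) ≤ J from h); omega
    obtain ⟨s, hs, hsJ, hts⟩ : ∃ s ∈ (S : Subgroup G), s ∉ J ∧ t * s = s * t := by
      let C := {j : G // j ∈ J}
      have hstable : ∀ j : C, y₀⁻¹ * (t * (y₀ * j.1) * t) ∈ J := fun j => by
        have h := hcon y₀⁻¹ (inv_mem hy₀S)
        rw [inv_inv] at h
        have : y₀⁻¹ * (t * (y₀ * j.1) * t) = y₀⁻¹ * t * y₀ * t * (t * j.1 * t⁻¹) := by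
          rw [htinv]; simp only [mul_assoc, ← mul_assoc t t, ht2, one_mul]
        rw [this]; exact mul_mem h (conj_mem' hJn j.2 t)
      let f : Function.End C := fun j => ⟨_, hstable j⟩
      have hf2' : Function.Involutive f := fun j => Subtype.ext (by
        show y₀⁻¹ * (t * (y₀ * (y₀⁻¹ * (t * (y₀ * j.1) * t))) * t) = j.1
        simp only [mul_inv_cancel_left, mul_assoc, ← mul_assoc t t, ht2, one_mul, mul_one, inv_mul_cancel_left])
      have : Fintype C := Fintype.ofFinite C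
      have hodd : ¬ (2 ∣ Fintype.card C) := by
        rw [← Nat.card_eq_fintype_card, show Nat.card C = 27 from hJcard]; norm_num
      obtain ⟨j, hj⟩ := Equiv.Perm.exists_fixed_point_of_prime (p := 2) (n := 1) hodd
        (σ := hf2'.toPerm f) (by rw [pow_one, pow_two]; exact Equiv.ext hf2')
      refine ⟨y₀ * j.1, mul_mem hy₀S (hJS j.2), fun h => hy₀J ?_, ?_⟩
      · simpa using mul_mem h (inv_mem j.2)
      · have h := congrArg Subtype.val hj
        change y₀⁻¹ * (t * (y₀ * j.1) * t) = j.1 at h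
        rw [inv_mul_eq_iff_eq_mul] at h
        calc t * (y₀ * j.1) = t * (y₀ * j.1) * t * t := by rw [mul_assoc _ t t, ht2, mul_one]
          _ = y₀ * j.1 * t := by rw [h]
    have hD : ∀ j ∈ J, t * j * t = j⁻¹ → j = 1 := by
      intro j hj hinv
      by_contra hj1
      obtain ⟨k, hk, hk1, hsk, hk'⟩ := exists_fixed hJn hcomm hexp (hfix3 s hs) hj hj1
      have tconj : ∀ a : G, t * (s * a * s⁻¹) * t = s * (t * a * t) * s⁻¹ := by
        intro a
        have : t * s⁻¹ = s⁻¹ * t := (Commute.inv_right (show Commute t s from hts)).eq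
        calc t * (s * a * s⁻¹) * t = (t * s) * a * (s⁻¹ * t) := by group
          _ = _ := by rw [hts, ← this]; group
      have tmul : ∀ a b : G, t * (a * b) * t = (t * a * t) * (t * b * t) := fun a b => by
        simp only [mul_assoc, ← mul_assoc t t, ht2, one_mul]
      have hki : t * k * t = k⁻¹ := by
        have m : ∀ a ∈ J, ∀ b ∈ J, t * a * t = a⁻¹ → t * b * t = b⁻¹ → t * (a * b) * t = (a * b)⁻¹ :=
          fun a ha b hb h h' => by rw [tmul, h, h', mul_inv_rev, hcomm _ (inv_mem ha) _ (inv_mem hb)]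
        have mc : ∀ a, t * a * t = a⁻¹ → t * (s * a * s⁻¹) * t = (s * a * s⁻¹)⁻¹ := fun a h => by
          rw [tconj, h]; group
        have minv : t * j⁻¹ * t = j⁻¹⁻¹ := by
          rw [← congrArg (·⁻¹) hinv, mul_inv_rev, mul_inv_rev, htinv, mul_assoc]
        rcases hk' with rfl | rfl | rfl
        · exact hinv
        · exact m _ (conj_mem' hJn hj s) _ (inv_mem hj) (mc j hinv) minv
        · have h2 : s * s * j * (s * s)⁻¹ = s * (s * j * s⁻¹) * s⁻¹ := by group
          rw [nrm, h2]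
          exact m _ (mul_mem hj (conj_mem' hJn hj s)) _ (conj_mem' hJn (conj_mem' hJn hj s) s)
            (m _ hj _ (conj_mem' hJn hj s) hinv (mc j hinv)) (mc _ (mc j hinv))
      rw [hZt k (hfixZ s hs hsJ k hk hsk), mul_assoc, ht2, mul_one] at hki
      have h2 : k ^ 2 = 1 := by rw [pow_two]; exact mul_eq_one_iff_eq_inv.mpr hki
      exact hk1 (by simpa [pow_succ, h2] using hexp k hk)
    refine hST (inf_eq_left.mpr ?_)
    rw [← hSJ s hs hsJ]
    refine sup_le (fun j hj => mem_centralizer_iff.mpr fun u hu => ?_)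
      (zpowers_le.mpr (mem_centralizer_iff.mpr fun u hu => ?_))
    · rcases hT_cases u hu with rfl | rfl
      · simp
      · have htj : t * j * t ∈ J := by simpa [htinv] using conj_mem' hJn hj t
        have h := hD (j⁻¹ * (t * j * t)) (mul_mem (inv_mem hj) htj) (by
          rw [mul_inv_rev, inv_inv]
          calc t * (j⁻¹ * (t * j * t)) * t = (t * j⁻¹ * t) * j := by
                simp only [mul_assoc, ← mul_assoc t t, ht2, one_mul, mul_one]
            _ = (t * j * t)⁻¹ * j := by rw [mul_inv_rev, mul_inv_rev, htinv, mul_assoc t j⁻¹ t])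
        rw [inv_mul_eq_one] at h
        calc t * j = t * j * t * t := by rw [mul_assoc _ t t, ht2, mul_one]
          _ = j * t := by rw [← h]
    · rcases hT_cases u hu with rfl | rfl
      · simp
      · exact hts
  set x := y * t * y⁻¹ * t with hx
  have hxS : x ∈ (S : Subgroup G) := by
    have : x = y * (t * y⁻¹ * t⁻¹) := by rw [hx, htinv]; group
    rw [this]; exact mul_mem hyS (hSn.conj_mem _ (inv_mem hyS) t)
  have htxt : t * x * t = x⁻¹ := by
    rw [hx, mul_inv_rev, mul_inv_rev, mul_inv_rev, inv_inv, htinv]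
    simp only [mul_assoc, ht2, mul_one]
  have tmul : ∀ a b : G, t * (a * b) * t = (t * a * t) * (t * b * t) := fun a b => by
    simp only [mul_assoc, ← mul_assoc t t, ht2, one_mul]
  have hx3 : x * x * x = 1 := by
    have hc : x * x * x ∈ Z := hfixZ x hxS hyJ _ (hcube x hxS) (by group)
    have h1 : t * (x * x * x) * t = x * x * x := by rw [hZt _ hc, mul_assoc, ht2, mul_one]
    rw [tmul, tmul, htxt] at h1
    have h2 : (x * x * x) ^ 2 = 1 := by
      rw [pow_two]; nth_rewrite 1 [← h1]; group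
    simpa [pow_succ, h2] using hexp _ (hcube x hxS)
  have hxx : x * x = x⁻¹ := eq_inv_of_mul_eq_one_left hx3
  -- a fixed element with nontrivial norm
  obtain ⟨b, hb, hNb⟩ : ∃ b ∈ J, nrm x b ≠ 1 := by
    by_contra h
    push Not at h
    let d : J →* J := MonoidHom.mk' (fun j => ⟨dd x j.1, dd_mem hJn j.2⟩) fun j k => Subtype.ext (by
      show x * (j.1 * k.1) * x⁻¹ * (j.1 * k.1)⁻¹ = (x * j.1 * x⁻¹ * j.1⁻¹) * (x * k.1 * x⁻¹ * k.1⁻¹)
      rw [show x * (j.1 * k.1) * x⁻¹ * (j.1 * k.1)⁻¹ = (x * j.1 * x⁻¹) * ((x * k.1 * x⁻¹ * k.1⁻¹) * j.1⁻¹) by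
        group, hcomm (x * k.1 * x⁻¹ * k.1⁻¹) (dd_mem hJn k.2) _ (inv_mem j.2)]
      group)
    have hfixd : ∀ j : J, dd x j.1 = 1 → j.1 ∈ Z := fun j hj => hfixZ x hxS hyJ _ j.2 (by
      rwa [dd, mul_inv_eq_one, mul_inv_eq_iff_eq_mul] at hj)
    have hr : d.range ≤ Z.subgroupOf J := by
      rintro _ ⟨j, rfl⟩
      refine hfixd (d j) ?_
      show dd x (dd x j.1) = 1
      rw [dd_dd hJn hcomm hexp j.2, h _ j.2]
    have hk : d.ker ≤ Z.subgroupOf J := fun j hj => hfixd j (congrArg Subtype.val (MonoidHom.mem_ker.mp hj))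
    have hZJ : Nat.card (Z.subgroupOf J) ≤ 3 :=
      hZcard ▸ Nat.card_le_card_of_injective (fun w => (⟨w.1.1, w.2⟩ : Z))
        (fun w w' e => Subtype.ext (Subtype.ext (congrArg (fun v : Z => v.1) e)))
    have hmul := d.ker.card_mul_index
    rw [index_ker, hJcard] at hmul
    nlinarith [Subgroup.card_le_of_le hk, Subgroup.card_le_of_le hr]
  have htb : t * b * t ∈ J := by simpa [htinv] using conj_mem' hJn hb t
  set a := b * (t * b * t) with ha'
  have haJ : a ∈ J := mul_mem hb htb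
  have hta : t * a * t = a := by
    rw [ha', tmul, hcomm b hb _ htb]; simp only [mul_assoc, ← mul_assoc t t, ht2, one_mul, mul_one]
  have hnfix : ∀ j ∈ J, x * nrm x j = nrm x j * x := by
    intro j hj
    have e : x * nrm x j * x⁻¹ = x * j * x⁻¹ * (x * x * j * (x * x)⁻¹) * j := by
      calc x * nrm x j * x⁻¹
          = x * j * x⁻¹ * (x * x * j * (x * x)⁻¹) * (x * x * x * j * (x * x * x)⁻¹) := by rw [nrm]; group
        _ = _ := by rw [hx3]; simp
    have : x * nrm x j * x⁻¹ = nrm x j := by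
      rw [e, hcomm _ (mul_mem (conj_mem' hJn hj _) (conj_mem' hJn hj _)) j hj, nrm, mul_assoc j]
    rwa [mul_inv_eq_iff_eq_mul] at this
  have hnZ : ∀ j ∈ J, nrm x j ∈ Z := fun j hj => hfixZ x hxS hyJ _ (nrm_mem hJn hj) (hnfix j hj)
  set a₁ := x * a * x⁻¹ with ha1
  set a₂ := x⁻¹ * a * x with ha2
  have ha1J : a₁ ∈ J := conj_mem' hJn haJ _
  have ha2J : a₂ ∈ J := by simpa [ha2] using conj_mem' hJn haJ x⁻¹
  have hNa : nrm x a ≠ 1 := by
    have e : nrm x (t * b * t) = t * nrm x b * t := by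
      have htx' : t * x⁻¹ = x * t := by rw [← htxt]; simp only [← mul_assoc, ht2, one_mul]
      have h1 : x * (t * b * t) * x⁻¹ = t * (x * x * b * (x * x)⁻¹) * t := by
        rw [hxx, inv_inv, show t * (x⁻¹ * b * x) * t = (t * x⁻¹) * b * (x * t) by group, htx',
          show x * (t * b * t) * x⁻¹ = x * t * b * (t * x⁻¹) by group, htx']
      have h2 : x * x * (t * b * t) * (x * x)⁻¹ = t * (x * b * x⁻¹) * t := by
        have htx : t * x = x⁻¹ * t := by rw [← htxt, mul_assoc _ t t, ht2, mul_one]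
        rw [hxx, inv_inv, show x⁻¹ * (t * b * t) * x = x⁻¹ * t * b * (t * x) by group,
          show t * (x * b * x⁻¹) * t = t * x * b * (x⁻¹ * t) by group, htx]
      have hb1 := conj_mem' hJn hb x
      have hb2 := conj_mem' hJn hb (x * x)
      rw [nrm, h1, h2, ← tmul, ← tmul, nrm, mul_assoc b, hcomm _ hb2 _ hb1, ← mul_assoc b]
    rw [ha', nrm_mul hJn hcomm hb htb, e, hZt _ (hnZ b hb), mul_assoc _ t t, ht2, mul_one]
    intro h
    have h3 := hexp _ (nrm_mem (x := x) hJn hb)
    rw [pow_three', h, one_mul] at h3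
    exact hNb h3
  have hNeq : nrm x a = a * (a₁ * a₂) := by rw [nrm, hxx, inv_inv, ← ha1, ← ha2, mul_assoc]
  have hta1 : t * a₁ * t = a₂ := by
    have : t * x⁻¹ * t = x := by rw [← htxt]; simp only [mul_assoc, ← mul_assoc t t, ht2, one_mul, mul_one]
    rw [ha1, tmul, tmul, htxt, hta, this]
  have hta2 : t * a₂ * t = a₁ := by
    rw [← hta1]; simp only [mul_assoc, ← mul_assoc t t, ht2, one_mul, mul_one]
  -- the subgroups
  let K₀ : Subgroup G := zpowers a₁ ⊔ zpowers a₂
  have hK0J : K₀ ≤ J := sup_le (zpowers_le.mpr ha1J) (zpowers_le.mpr ha2J)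
  have hsupcard : ∀ A B : Subgroup G, A ≤ J → B ≤ J → Nat.card (A ⊔ B : Subgroup G) ≤ Nat.card A * Nat.card B := by
    intro A B hA hB
    rw [← Nat.card_prod]
    refine Nat.card_le_card_of_surjective (fun p => ⟨p.1.1 * p.2.1, mul_mem (mem_sup_left p.1.2) (mem_sup_right p.2.2)⟩)
      fun ⟨g, hg⟩ => ?_
    have hn : A ≤ normalizer (B : Set G) := fun u hu => by
      rw [mem_normalizer_iff]; intro v
      constructor
      · intro hv; rwa [hcomm u (hA hu) v (hB hv), mul_inv_cancel_right]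
      · intro hv
        have hvJ : v ∈ J := by simpa [mul_assoc] using conj_mem' hJn (hB hv) u⁻¹
        rwa [hcomm u (hA hu) v hvJ, mul_inv_cancel_right] at hv
    rw [← SetLike.mem_coe, coe_mul_of_left_le_normalizer_right _ _ hn] at hg
    obtain ⟨u, hu, v, hv, rfl⟩ := hg
    exact ⟨(⟨u, hu⟩, ⟨v, hv⟩), rfl⟩
  have hzle : ∀ u ∈ J, Nat.card (zpowers u) ≤ 3 := fun u hu => by
    rw [Nat.card_zpowers]; exact orderOf_le_of_pow_eq_one (by norm_num) (hexp u hu)
  have hK0le : Nat.card K₀ ≤ 9 :=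
    (hsupcard _ _ (zpowers_le.mpr ha1J) (zpowers_le.mpr ha2J)).trans (Nat.mul_le_mul (hzle _ ha1J) (hzle _ ha2J))
  have hL : zpowers a ⊔ K₀ = J := by
    have hle : zpowers a ⊔ K₀ ≤ J := sup_le (zpowers_le.mpr haJ) hK0J
    have hN_mem : nrm x a ∈ zpowers a ⊔ K₀ := by
      rw [hNeq]
      exact mul_mem (mem_sup_left (mem_zpowers a))
        (mem_sup_right (mul_mem (mem_sup_left (mem_zpowers a₁)) (mem_sup_right (mem_zpowers a₂))))
    refine eq_of_le_of_card_ge hle ?_
    have hd_mem : dd x a ∈ zpowers a ⊔ K₀ := by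
      rw [dd, ← ha1]
      exact mul_mem (mem_sup_right (mem_sup_left (mem_zpowers a₁))) (inv_mem (mem_sup_left (mem_zpowers a)))
    let f : Subgroup G := zpowers (nrm x a)
    have hfle : f ⊔ zpowers (dd x a) ≤ zpowers a ⊔ K₀ := sup_le (zpowers_le.mpr hN_mem) (zpowers_le.mpr hd_mem)
    have hcA : Nat.card f = 3 := by
      rw [Nat.card_zpowers]; exact orderOf_eq_prime (hexp _ (nrm_mem hJn haJ)) hNa
    have cx : ∀ g, g ∈ centralizer ({x} : Set G) ↔ x * g = g * x := fun g => by
      rw [mem_centralizer_singleton_iff]; exact eq_comm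
    have hd' : dd x a ∉ f := fun h => hNa <| by
      have hfx : f ≤ centralizer ({x} : Set G) := zpowers_le.mpr ((cx _).mpr (hnfix a haJ))
      rw [← dd_dd hJn hcomm hexp haJ, dd, (cx _).mp (hfx h)]; group
    have ha_not : a ∉ f ⊔ zpowers (dd x a) := fun h => hd' <| by
      have key : ∀ u ∈ f ⊔ zpowers (dd x a), dd x u ∈ f := by
        have hle' : f ⊔ zpowers (dd x a) ≤ J := hfle.trans hle
        let P : Subgroup G :=
          { carrier := {u | u ∈ J ∧ dd x u ∈ f}
            one_mem' := ⟨one_mem _, by simp [dd]⟩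
            mul_mem' := fun {u v} hu hv => ⟨mul_mem hu.1 hv.1, by
              have : dd x (u * v) = dd x u * dd x v := by
                simp only [dd]
                rw [show x * (u * v) * x⁻¹ * (u * v)⁻¹ = (x * u * x⁻¹) * ((x * v * x⁻¹ * v⁻¹) * u⁻¹) by group,
                  hcomm (x * v * x⁻¹ * v⁻¹) (dd_mem hJn hv.1) _ (inv_mem hu.1)]
                group
              rw [this]; exact mul_mem hu.2 hv.2⟩
            inv_mem' := fun {u} hu => ⟨inv_mem hu.1, by
              have : dd x u⁻¹ = (dd x u)⁻¹ := by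
                simp only [dd, mul_inv_rev, inv_inv]
                rw [hcomm u hu.1 _ (by simpa [mul_assoc] using conj_mem' hJn (inv_mem hu.1) x)]
                group
              rw [this]; exact inv_mem hu.2⟩ }
        have : f ⊔ zpowers (dd x a) ≤ P := by
          refine sup_le (zpowers_le.mpr ⟨nrm_mem hJn haJ, ?_⟩) (zpowers_le.mpr ⟨dd_mem hJn haJ, ?_⟩)
          · have : dd x (nrm x a) = 1 := by rw [dd, hnfix a haJ]; group
            rw [this]; exact one_mem _
          · rw [dd_dd hJn hcomm hexp haJ]; exact mem_zpowers _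
        exact fun u hu => (this hu).2
      exact key a h
    have c1 : 9 ≤ Nat.card (f ⊔ zpowers (dd x a) : Subgroup G) := by
      have hlt : f < f ⊔ zpowers (dd x a) := left_lt_sup.mpr fun h => hd' (h (mem_zpowers _))
      have hd := card_dvd_of_le (hfle.trans hle)
      rw [hJcard, show (27 : ℕ) = 3 ^ 3 from rfl, Nat.dvd_prime_pow Nat.prime_three] at hd
      obtain ⟨k, -, hk⟩ := hd
      have : Nat.card f < Nat.card (f ⊔ zpowers (dd x a) : Subgroup G) := by
        refine lt_of_le_of_ne (Subgroup.card_le_of_le le_sup_left) fun h => hlt.ne ?_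
        exact eq_of_le_of_card_ge le_sup_left h.ge
      rw [hk, hcA] at this
      rw [hk]
      exact (show 9 = 3 ^ 2 from rfl) ▸ Nat.pow_le_pow_right (by norm_num) (Nat.succ_le_iff.mpr
        ((Nat.pow_lt_pow_iff_right (by norm_num : 1 < 3)).mp (by simpa using this)))
    have c2 : Nat.card (f ⊔ zpowers (dd x a) : Subgroup G) < Nat.card (zpowers a ⊔ K₀ : Subgroup G) := by
      refine lt_of_le_of_ne (Subgroup.card_le_of_le hfle) fun h => ha_not ?_
      rw [eq_of_le_of_card_ge hfle h.ge]; exact mem_sup_left (mem_zpowers a)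
    have hd := card_dvd_of_le hle
    rw [hJcard, show (27 : ℕ) = 3 ^ 3 from rfl, Nat.dvd_prime_pow Nat.prime_three] at hd
    obtain ⟨k, hk3, hk⟩ := hd
    rw [hJcard, hk]
    interval_cases k <;> omega
  have hcard27 : 27 ≤ Nat.card (zpowers a) * Nat.card K₀ :=
    hJcard ▸ hL ▸ hsupcard _ _ (zpowers_le.mpr haJ) hK0J
  have hK0 : Nat.card K₀ = 9 := by have := hzle a haJ; nlinarith
  have haK : a ∉ K₀ := fun h => by
    have : J ≤ K₀ := hL ▸ sup_le (zpowers_le.mpr h) le_rfl
    have := Subgroup.card_le_of_le this; omega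
  have htnorm : zpowers t ≤ normalizer (K₀ : Set G) := by
    have key : ∀ u ∈ K₀, t * u * t ∈ K₀ := by
      let P : Subgroup G := K₀.comap (MulAut.conj t).toMonoidHom
      have : K₀ ≤ P := sup_le (zpowers_le.mpr (by
        show t * a₁ * t⁻¹ ∈ K₀; rw [htinv, hta1]; exact mem_sup_right (mem_zpowers _)))
        (zpowers_le.mpr (by show t * a₂ * t⁻¹ ∈ K₀; rw [htinv, hta2]; exact mem_sup_left (mem_zpowers _)))
      intro u hu
      have := this hu
      simpa [P, htinv] using this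
    refine zpowers_le.mpr (mem_normalizer_iff.mpr fun u => ?_)
    rw [htinv]
    exact ⟨key u, fun h => by simpa [mul_assoc, ← mul_assoc t t, ht2] using key _ h⟩
  let H : Subgroup G := zpowers t ⊔ K₀
  have hHset : (H : Set G) = (zpowers t : Set G) * (K₀ : Set G) :=
    coe_mul_of_left_le_normalizer_right _ _ htnorm
  have htJ : t ∉ J := fun h => htS (hJS h)
  have hHmem : ∀ g ∈ H, g ∈ K₀ ∨ ∃ k ∈ K₀, g = t * k := by
    intro g hg
    rw [← SetLike.mem_coe, hHset] at hg
    obtain ⟨u, hu, v, hv, rfl⟩ := hg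
    obtain ⟨n, rfl⟩ := mem_zpowers_iff.mp hu
    rcases Int.even_or_odd n with ⟨m, rfl⟩ | ⟨m, rfl⟩
    · left
      have : t ^ (m + m) = 1 := by rw [← two_mul, zpow_mul, zpow_two, ht2, one_zpow]
      simpa [this] using hv
    · exact Or.inr ⟨v, hv, by
        show t ^ (2 * m + 1) * v = t * v
        rw [zpow_add, zpow_mul, zpow_two, ht2, one_zpow, one_mul, zpow_one]⟩
  have hHJ : ∀ g ∈ H, g ∈ J → g ∈ K₀ := by
    intro g hg hgJ
    rcases hHmem g hg with h | ⟨k, hk, rfl⟩
    · exact h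
    · exact absurd ((J.mul_mem_cancel_right (hK0J hk)).mp hgJ) htJ
  have hHcard : Nat.card H = 18 := by
    have e : zpowers t ⊓ K₀ = ⊥ := inf_eq_bot_of_coprime (by rw [Nat.card_zpowers, hot, hK0]; decide)
    rw [← SetLike.coe_sort_coe H, hHset]
    refine (Nat.card_eq_of_bijective (fun p : zpowers t × K₀ => (⟨p.1.1 * p.2.1, Set.mul_mem_mul p.1.2 p.2.2⟩ :
      ((zpowers t : Set G) * (K₀ : Set G) : Set G))) ⟨?_, ?_⟩).symm.trans ?_
    · intro p q h
      exact mul_injective_of_disjoint (disjoint_iff.mpr e) (congrArg Subtype.val h)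
    · rintro ⟨_, u, hu, v, hv, rfl⟩; exact ⟨(⟨u, hu⟩, ⟨v, hv⟩), rfl⟩
    · rw [Nat.card_prod, Nat.card_zpowers, hot, hK0]
  have hHi : H.index = 9 := by
    have := H.card_mul_index; rw [hHcard, hG] at this; omega
  have hcentral : ∀ g : G, g * nrm x a = nrm x a * g := by
    intro g
    have hz := hnZ a haJ
    rcases hSt g with h | h
    · exact ((hZmem _).mp hz).2 g h
    · have h1 := ((hZmem _).mp hz).2 _ h
      calc g * nrm x a = g * t * (t * nrm x a) := by simp only [mul_assoc, ← mul_assoc t t, ht2, one_mul]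
        _ = (g * t * nrm x a) * t := by rw [hZt _ hz]; group
        _ = nrm x a * g := by rw [h1]; simp only [mul_assoc, ht2, mul_one]
  have hNK : nrm x a ∉ K₀ := fun h => haK <| by
    rw [hNeq] at h
    exact (K₀.mul_mem_cancel_right (mul_mem (mem_sup_left (mem_zpowers a₁)) (mem_sup_right (mem_zpowers a₂)))).mp h
  have hZeq : Z = zpowers (nrm x a) := (eq_of_le_of_card_ge (zpowers_le.mpr (hnZ a haJ)) (by
    rw [hZcard, Nat.card_zpowers, orderOf_eq_prime (hexp _ (nrm_mem hJn haJ)) hNa])).symm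
  have hcoreJ : ∀ g ∈ H.normalCore, g ∈ J → g = 1 := by
    intro g hg hgJ
    by_contra hg1
    obtain ⟨k, hk, hk1, hxk, hk'⟩ := exists_fixed hJn hcomm hexp (hfix3 x hxS) hgJ hg1
    have hc : ∀ u : G, u * g * u⁻¹ ∈ H.normalCore := fun u => (normalCore_normal H).conj_mem g hg u
    have hkc : k ∈ H.normalCore := by
      rcases hk' with rfl | rfl | rfl
      · exact hg
      · exact mul_mem (hc x) (inv_mem hg)
      · exact mul_mem (mul_mem hg (hc x)) (hc (x * x))
    have hkK := hHJ k (normalCore_le H hkc) hk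
    have hkz : k ∈ zpowers (nrm x a) := hZeq ▸ hfixZ x hxS hyJ k hk hxk
    have hgen : zpowers k = zpowers (nrm x a) := eq_of_le_of_card_ge (zpowers_le.mpr hkz) (by
      rw [Nat.card_zpowers, Nat.card_zpowers, orderOf_eq_prime (hexp _ (nrm_mem hJn haJ)) hNa,
        orderOf_eq_prime (hexp _ hk) hk1])
    exact hNK (zpowers_le.mpr hkK (hgen.symm ▸ mem_zpowers (nrm x a)))
  have hcore : H.normalCore = ⊥ := by
    rw [eq_bot_iff]
    intro g hg
    rcases hHmem g (normalCore_le H hg) with h | ⟨k, hk, hgk⟩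
    · exact hcoreJ g hg (hK0J h)
    · exfalso
      have hc : g * a₁ * g⁻¹ * a₁⁻¹ = 1 := by
        refine hcoreJ _ ?_ (mul_mem (conj_mem' hJn ha1J g) (inv_mem ha1J))
        rw [show g * a₁ * g⁻¹ * a₁⁻¹ = g * (a₁ * g⁻¹ * a₁⁻¹) by group]
        exact mul_mem hg ((normalCore_normal H).conj_mem _ (inv_mem hg) a₁)
      rw [mul_inv_eq_one, hgk] at hc
      have h12 : a₂ = a₁ := by
        rw [← hta1]
        calc t * a₁ * t = t * (k * a₁ * k⁻¹) * t⁻¹ := by
              rw [hcomm k (hK0J hk) a₁ ha1J, mul_inv_cancel_right, htinv]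
          _ = a₁ := (by group : _ = t * k * a₁ * (t * k)⁻¹).trans hc
      rw [ha2, ha1] at h12
      have haa : a₁ = a := by
        symm
        calc a = x * (x⁻¹ * a * x) * x⁻¹ := by group
          _ = x * (x * a * x⁻¹) * x⁻¹ := by rw [h12]
          _ = x * x * a * (x * x)⁻¹ := by group
          _ = x⁻¹ * a * x := by rw [hxx, inv_inv]
          _ = a₁ := h12
      have h3 : a₂ = a := by rw [ha2, h12, ← ha1, haa]
      refine hNa ?_
      rw [hNeq, haa, h3, ← pow_three]
      exact hexp a haJ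
  let π : G →* Equiv.Perm (G ⧸ H) := MulAction.toPermHom G (G ⧸ H)
  have hπ : Function.Injective π := (MonoidHom.ker_eq_bot_iff π).mp (by
    rw [← hcore, normalCore_eq_ker])
  have : Fintype (G ⧸ H) := Fintype.ofFinite _
  let e : G ⧸ H ≃ Fin 9 := Fintype.equivFinOfCardEq (by rw [← Nat.card_eq_fintype_card]; exact hHi)
  let ρ : G →* Equiv.Perm (Fin 9) := e.permCongrHom.toMonoidHom.comp π
  have hρ : Function.Injective ρ := e.permCongrHom.injective.comp hπ
  have hfpf : ∀ i, ρ (nrm x a) i ≠ i := by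
    intro i h
    obtain ⟨g, hg⟩ := QuotientGroup.mk_surjective (e.symm i)
    have h' : nrm x a • (e.symm i) = e.symm i := e.injective (by
      rw [e.apply_symm_apply]; exact h)
    rw [← hg, MulAction.Quotient.smul_mk, smul_eq_mul, QuotientGroup.eq, mul_inv_rev] at h'
    refine hNK (hHJ _ ?_ (nrm_mem hJn haJ))
    rw [mul_assoc, show (nrm x a)⁻¹ * g = g * (nrm x a)⁻¹ from
      ((show Commute g (nrm x a) from hcentral g).inv_right).eq.symm, inv_mul_cancel_left] at h'
    exact (H.inv_mem_iff).mp h'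
  obtain ⟨c, hc⟩ := isConj_iff.mp (Equiv.Perm.isConj_iff_cycleType_eq.mpr
    ((cycleType_of_fpf (by rw [← map_pow, hexp _ (nrm_mem hJn haJ), map_one]) hfpf).trans cycleType_sigma.symm))
  let ψ : G →* Equiv.Perm (Fin 9) := (MulAut.conj c).toMonoidHom.comp ρ
  have hψ : Function.Injective ψ := (MulAut.conj c).injective.comp hρ
  have hψr : ψ.range = centralizer ({sigma} : Set (Equiv.Perm (Fin 9))) := by
    refine eq_of_le_of_card_ge ?_ ?_
    · rintro _ ⟨g, rfl⟩
      rw [mem_centralizer_singleton_iff, ← hc]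
      show ψ g * ψ (nrm x a) = ψ (nrm x a) * ψ g
      rw [← map_mul, ← map_mul, hcentral]
    · rw [card_centralizer_sigma, ← Nat.card_congr (MonoidHom.ofInjective hψ).toEquiv, hG]
  exact ⟨(MonoidHom.ofInjective hψ).trans (MulEquiv.subgroupCongr hψr)⟩

end Cfsg.Lib.Order162
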