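import Mathlib

/-!
Linear groups in which every non-zero vector has stabiliser of order two and which have a central involution.
-/

namespace Cfsg.Lib.OrderTwoStab

variable {q : ℕ} [Fact q.Prime] {V : Type*} [AddCommGroup V] [Module (ZMod q) V]
  {G : Type*} [Group G] [Finite G] (ρ : G →* (V ≃ₗ[ZMod q] V))

theorem apply_mul (g h : G) (v : V) : ρ (g * h) v = ρ g (ρ h v) := by
  rw [map_mul]; rfl

theorem one_app (v : V) : (1 : V ≃ₗ[ZMod q] V) v = v := rfl

theorem stab_pair (hstab : ∀ v : V, v ≠ 0 → Nat.card {g : G // ρ g v = v} = 2) {v : V} (hv : v ≠ 0) :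
    ∃ t : G, t ≠ 1 ∧ ρ t v = v ∧ t * t = 1 ∧ ∀ g : G, ρ g v = v → g = 1 ∨ g = t := by
  have h1 : ρ 1 v = v := by simp
  obtain ⟨a, b, hab, huniv⟩ := Nat.card_eq_two_iff.mp (hstab v hv)
  have hmem : ∀ g : G, ρ g v = v → g = a.1 ∨ g = b.1 := by
    intro g hg
    have : (⟨g, hg⟩ : {g : G // ρ g v = v}) ∈ ({a, b} : Set _) := huniv ▸ Set.mem_univ _
    rcases this with e | e
    · exact Or.inl (congrArg Subtype.val e)
    · exact Or.inr (congrArg Subtype.val e)
  have main : ∀ t : G, t ≠ 1 → ρ t v = v → (∀ g : G, ρ g v = v → g = 1 ∨ g = t) →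
      ∃ t : G, t ≠ 1 ∧ ρ t v = v ∧ t * t = 1 ∧ ∀ g : G, ρ g v = v → g = 1 ∨ g = t := by
    intro t ht htv hall
    refine ⟨t, ht, htv, ?_, hall⟩
    rcases hall (t * t) (by rw [apply_mul, htv, htv]) with e | e
    · exact e
    · exact absurd (mul_eq_left.mp e) ht
  rcases hmem 1 h1 with e | e
  · exact main b.1 (fun hb => hab (Subtype.ext (e.symm.trans hb.symm))) b.2 fun g hg => e ▸ hmem g hg
  · exact main a.1 (fun ha => hab (Subtype.ext (ha.trans e))) a.2 fun g hg => e ▸ (hmem g hg).symm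

theorem eq_of_fix (hstab : ∀ v : V, v ≠ 0 → Nat.card {g : G // ρ g v = v} = 2) {v : V} (hv : v ≠ 0)
    {g h : G} (hg : g ≠ 1) (hh : h ≠ 1) (hgv : ρ g v = v) (hhv : ρ h v = v) : g = h := by
  obtain ⟨t, -, -, -, hall⟩ := stab_pair ρ hstab hv
  exact ((hall g hgv).resolve_left hg).trans ((hall h hhv).resolve_left hh).symm

theorem two_ne_zero_zmod (hq : q ≠ 2) : (2 : ZMod q) ≠ 0 :=
  Ring.two_ne_zero (by rwa [ringChar.eq (ZMod q) q])

/-- Doubling is injective outside characteristic two. -/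
theorem eq_zero_of_add_self (hq : q ≠ 2) {x : V} (h : x + x = 0) : x = 0 := by
  have h2 : (2 : ZMod q) • x = 0 := by rw [two_smul]; exact h
  exact (smul_eq_zero.mp h2).resolve_left (two_ne_zero_zmod hq)

/-- A central involution fixes no non-zero vector. -/
theorem central_fixfree (hρ : Function.Injective ρ)
    (hstab : ∀ v : V, v ≠ 0 → Nat.card {g : G // ρ g v = v} = 2) {c : G} (hc1 : c ≠ 1) (hc2 : c * c = 1)
    (hcc : ∀ g : G, c * g = g * c) {u : V} (hu : ρ c u = u) : u = 0 := by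
  by_contra hu0
  have hall : ∀ w : V, ρ c w = w := by
    intro w
    by_contra hw
    have hw0 : w ≠ 0 := by rintro rfl; exact hw (map_zero _)
    obtain ⟨t, ht1, htw, ht2, -⟩ := stab_pair ρ hstab hw0
    have htc : t ≠ c := by rintro rfl; exact hw htw
    have hcomm : ∀ g (x : V), ρ c (ρ g x) = ρ g (ρ c x) := fun g x => by
      rw [← apply_mul, ← apply_mul, hcc]
    have hctu : ρ c (ρ t u) = ρ t u := by rw [hcomm, hu]
    have htu : u + ρ t u = 0 := by
      by_contra h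
      refine htc (eq_of_fix ρ hstab h ht1 hc1 ?_ ?_)
      · rw [map_add, ← apply_mul, ht2, map_one, one_app, add_comm]
      · rw [map_add, hu, hctu]
    by_cases hq : q = 2
    · subst hq
      refine htc (eq_of_fix ρ hstab hu0 ht1 hc1 ?_ hu)
      rw [eq_neg_of_add_eq_zero_right htu, ZModModule.neg_eq_self]
    set d := ρ c w - w with hd
    have hd0 : d ≠ 0 := sub_ne_zero.mpr hw
    have hcd : ρ c d = -d := by
      rw [hd, map_sub, ← apply_mul, hc2, map_one, one_app, neg_sub]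
    have hud : u + d ≠ 0 := by
      intro h
      have : d = -u := eq_neg_of_add_eq_zero_right h
      rw [this, map_neg, hu, neg_neg] at hcd
      exact hu0 (eq_zero_of_add_self hq (add_eq_zero_iff_neg_eq.mpr hcd))
    obtain ⟨s, hs1, hs, -, -⟩ := stab_pair ρ hstab hud
    have hs' : ρ s (u - d) = u - d := by
      have : ρ c (u + d) = u - d := by rw [map_add, hu, hcd, sub_eq_add_neg]
      rw [← this, ← hcomm, hs]
    have hsu : ρ s u = u := by
      refine sub_eq_zero.mp (eq_zero_of_add_self hq ?_)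
      have e : ρ s (u + d) + ρ s (u - d) = (u + d) + (u - d) := by rw [hs, hs']
      rw [← map_add, add_add_sub_cancel, map_add] at e
      rw [sub_add_sub_comm, sub_eq_zero]; exact e
    have hsc : s = c := eq_of_fix ρ hstab hu0 hs1 hc1 hsu hu
    rw [hsc, map_add, hu, hcd, add_left_cancel_iff] at hs
    exact hd0 (eq_zero_of_add_self hq (add_eq_zero_iff_neg_eq.mpr hs))
  exact hc1 (hρ (by rw [map_one]; exact LinearEquiv.ext hall))

theorem central_neg (hρ : Function.Injective ρ)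
    (hstab : ∀ v : V, v ≠ 0 → Nat.card {g : G // ρ g v = v} = 2) {c : G} (hc1 : c ≠ 1) (hc2 : c * c = 1)
    (hcc : ∀ g : G, c * g = g * c) (v : V) : ρ c v = -v := by
  have h : ρ c (v + ρ c v) = v + ρ c v := by
    rw [map_add, ← apply_mul, hc2, map_one, one_app, add_comm]
  exact eq_neg_of_add_eq_zero_right (central_fixfree ρ hρ hstab hc1 hc2 hcc h)

/-- The fixed vectors of an element. -/
def fix (g : G) : Submodule (ZMod q) V where
  carrier := {v | ρ g v = v}
  add_mem' {a b} ha hb := by simp only [Set.mem_ofPred_eq] at *; rw [map_add, ha, hb]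
  zero_mem' := map_zero _
  smul_mem' r a ha := by simp only [Set.mem_ofPred_eq] at *; rw [map_smul, ha]

theorem mem_fix {g : G} {v : V} : v ∈ fix ρ g ↔ ρ g v = v := Iff.rfl

theorem main [Finite V] [Nontrivial V] (hρ : Function.Injective ρ)
    (hstab : ∀ v : V, v ≠ 0 → Nat.card {g : G // ρ g v = v} = 2) (z : G) (hz : orderOf z = 2)
    (hzc : z ∈ Subgroup.center G) :
    ∃ r : ℕ, Nat.card V = q ^ (2 * r) ∧
      Nat.card {g : G // orderOf g = 2 ∧ g ∉ Subgroup.center G} = q ^ r + 1 := by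
  classical
  have : Fintype V := Fintype.ofFinite V
  have inv : ∀ {g : G}, orderOf g = 2 → g ≠ 1 ∧ g * g = 1 := fun {g} h =>
    ⟨fun e => by simp [e] at h, by rw [← pow_two, ← h, pow_orderOf_eq_one]⟩
  have oinv : ∀ {g : G}, g ≠ 1 → g * g = 1 → orderOf g = 2 := fun {g} h1 h2 =>
    orderOf_eq_prime (by rw [pow_two, h2]) h1
  obtain ⟨hz1, hz2⟩ := inv hz
  have hzg : ∀ g, z * g = g * z := fun g => (Subgroup.mem_center_iff.mp hzc g).symm
  have hneg : ∀ v, ρ z v = -v := central_neg ρ hρ hstab hz1 hz2 hzg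
  obtain ⟨v₀, hv₀⟩ := exists_ne (0 : V)
  have hq : q ≠ 2 := by
    intro hq; subst hq
    exact hv₀ (central_fixfree ρ hρ hstab hz1 hz2 hzg (u := v₀) (by rw [hneg, ZModModule.neg_eq_self]))
  let T := {g : G // orderOf g = 2 ∧ g ∉ Subgroup.center G}
  let W : T → Submodule (ZMod q) V := fun t => fix ρ t.1
  have hex : ∀ v : V, v ≠ 0 → ∃ t : T, v ∈ W t := by
    intro v hv
    obtain ⟨t, ht1, htv, ht2, -⟩ := stab_pair ρ hstab hv
    refine ⟨⟨t, oinv ht1 ht2, fun hc => hv (central_fixfree ρ hρ hstab ht1 ht2 ?_ htv)⟩, htv⟩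
    exact fun g => (Subgroup.mem_center_iff.mp hc g).symm
  have huniq : ∀ (v : V), v ≠ 0 → ∀ t s : T, v ∈ W t → v ∈ W s → t = s := fun v hv t s ht hs =>
    Subtype.ext (eq_of_fix ρ hstab hv (inv t.2.1).1 (inv s.2.1).1 ht hs)
  have hne : ∀ t : T, ∃ v, v ≠ 0 ∧ v ∈ W t := by
    intro t
    obtain ⟨ht1, ht2⟩ := inv t.2.1
    by_contra h
    push Not at h
    have hn : ∀ v, ρ t.1 v = -v := by
      intro v
      refine eq_neg_of_add_eq_zero_right (not_not.mp fun h0 => h _ h0 ?_)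
      rw [mem_fix, map_add, ← apply_mul, ht2, map_one, one_app, add_comm]
    exact t.2.2 (hρ (LinearEquiv.ext fun v => (hn v).trans (hneg v).symm) ▸ hzc)
  let σ : T → T := fun t => ⟨z * t.1, oinv
      (fun e => t.2.2 (by
        have : t.1 = z⁻¹ := eq_inv_of_mul_eq_one_right e
        rw [this]; exact inv_mem hzc))
      (by rw [mul_assoc, ← mul_assoc t.1, ← hzg, mul_assoc, (inv t.2.1).2, mul_one, hz2]),
    fun hc => t.2.2 (by simpa using mul_mem (inv_mem hzc) hc)⟩
  have hσσ : ∀ t, σ (σ t) = t := fun t => Subtype.ext (by simp only [σ, ← mul_assoc, hz2, one_mul])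
  have hσW : ∀ t v, v ∈ W (σ t) ↔ ρ t.1 v = -v := fun t v => by
    show ρ (z * t.1) v = v ↔ _
    rw [apply_mul, hneg, neg_eq_iff_eq_neg]
  let M : T → ℕ := fun t => Nat.card (W t)
  have hinj : ∀ t s : T, t ≠ s → Function.Injective (fun p : W t × W s => (p.1 : V) + p.2) := by
    rintro t s hts ⟨a, b⟩ ⟨a', b'⟩ h
    simp only at h
    have he : (a : V) - a' = b' - b := by rw [sub_eq_sub_iff_add_eq_add, h, add_comm]
    have h0 : (a : V) - a' = 0 := by
      by_contra h0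
      exact hts (huniq _ h0 t s (sub_mem a.2 a'.2) (he ▸ sub_mem b'.2 b.2))
    rw [h0, eq_comm, sub_eq_zero] at he
    exact Prod.ext (Subtype.ext (sub_eq_zero.mp h0)) (Subtype.ext he.symm)
  have hle : ∀ t s : T, t ≠ s → M t * M s ≤ Nat.card V := fun t s hts => by
    have := Nat.card_le_card_of_injective _ (hinj t s hts)
    rwa [Nat.card_prod] at this
  have hne' : ∀ t, t ≠ σ t := by
    intro t h
    have : (1 : G) * t.1 = z * t.1 := by rw [one_mul]; exact congrArg Subtype.val h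
    exact hz1 (mul_right_cancel this).symm
  have hprod : ∀ t : T, M t * M (σ t) = Nat.card V := by
    intro t
    rw [← Nat.card_prod]
    refine Nat.card_eq_of_bijective _ ⟨hinj t (σ t) (hne' t), fun v => ?_⟩
    have ht2 := (inv t.2.1).2
    have h2 : (2 : ZMod q) ≠ 0 := two_ne_zero_zmod hq
    refine ⟨⟨⟨(2 : ZMod q)⁻¹ • (v + ρ t.1 v), ?_⟩, ⟨(2 : ZMod q)⁻¹ • (v - ρ t.1 v), ?_⟩⟩, ?_⟩
    · rw [mem_fix, map_smul, map_add, ← apply_mul, ht2, map_one, one_app, add_comm]
    · rw [hσW, map_smul, map_sub, ← apply_mul, ht2, map_one, one_app, ← smul_neg, neg_sub]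
    · show (2 : ZMod q)⁻¹ • (v + ρ t.1 v) + (2 : ZMod q)⁻¹ • (v - ρ t.1 v) = v
      rw [← smul_add, add_add_sub_cancel, ← two_smul (ZMod q), smul_smul, inv_mul_cancel₀ h2, one_smul]
  have hpos : ∀ t, 1 < M t := fun t => by
    obtain ⟨v, hv, hvt⟩ := hne t
    exact Finite.one_lt_card_iff_nontrivial.mpr ⟨⟨v, hvt⟩, 0, fun h => hv (congrArg Subtype.val h)⟩
  have hsmall : ∀ t s : T, t ≠ s → M t ≤ M (σ s) := fun t s hts => by
    have h := (hle t s hts).trans_eq (hprod s).symm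
    rw [mul_comm (M s)] at h
    exact Nat.le_of_mul_le_mul_right h (zero_lt_one.trans (hpos s))
  obtain ⟨t₀, -⟩ := hex v₀ hv₀
  have hthird : ∃ s : T, s ≠ t₀ ∧ s ≠ σ t₀ := by
    obtain ⟨a, ha0, ha⟩ := hne t₀
    obtain ⟨b, hb0, hb⟩ := hne (σ t₀)
    have hab : a + b ≠ 0 := by
      intro h
      refine hne' t₀ (huniq a ha0 _ _ ha ?_)
      rw [eq_neg_of_add_eq_zero_left h]; exact neg_mem hb
    obtain ⟨s, hs⟩ := hex _ hab
    refine ⟨s, ?_, ?_⟩ <;> rintro rfl
    · exact hne' _ (huniq b hb0 _ _ (by simpa using sub_mem hs ha) hb)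
    · exact hne' _ (huniq a ha0 _ _ ha (by simpa using sub_mem hs hb))
  have heq : ∀ t s : T, s ≠ t → s ≠ σ t → M t = M s ∧ M (σ t) = M s := by
    intro t s h1 h2
    have h3 : σ s ≠ t := fun e => h2 (by rw [← e, hσσ])
    have h4 : σ s ≠ σ t := fun e => h1 (by rw [← hσσ s, e, hσσ])
    have a1 := hsmall t (σ s) h3.symm
    have a2 := hsmall s (σ t) h2
    rw [hσσ] at a1 a2
    have a3 := hsmall (σ t) (σ s) h4.symm
    have a4 := hsmall s t h1
    rw [hσσ] at a3
    exact ⟨le_antisymm a1 a2, le_antisymm a3 a4⟩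
  obtain ⟨s₀, hs₁, hs₂⟩ := hthird
  have hconst : ∀ t : T, M t = M t₀ := by
    intro t
    by_cases h1 : t = t₀
    · rw [h1]
    by_cases h2 : t = σ t₀
    · rw [h2, (heq t₀ s₀ hs₁ hs₂).2, (heq t₀ s₀ hs₁ hs₂).1]
    exact (heq t₀ t h1 h2).1.symm
  obtain ⟨r, hr⟩ : ∃ r, M t₀ = q ^ r := by
    refine ⟨Module.finrank (ZMod q) (W t₀), ?_⟩
    show Nat.card (W t₀) = _
    rw [Module.natCard_eq_pow_finrank (K := ZMod q), Nat.card_zmod]
  refine ⟨r, ?_, ?_⟩
  · rw [← hprod t₀, hconst (σ t₀), hr]; ring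
  · have : Fintype T := Fintype.ofFinite T
    have e : (Σ t : T, {v : W t // v ≠ 0}) ≃ {v : V // v ≠ 0} :=
      Equiv.ofBijective (fun p => ⟨(p.2.1 : V), fun h => p.2.2 (Subtype.ext h)⟩) ⟨by
        rintro ⟨t, ⟨⟨a, ha⟩, ha0⟩⟩ ⟨s, ⟨⟨b, hb⟩, hb0⟩⟩ h
        have hab : a = b := congrArg Subtype.val h
        subst hab
        obtain rfl := huniq a (fun e => ha0 (Subtype.ext e)) t s ha hb
        rfl, fun ⟨v, hv⟩ => by
        obtain ⟨t, ht⟩ := hex v hv
        exact ⟨⟨t, ⟨v, ht⟩, fun h => hv (congrArg Subtype.val h)⟩, rfl⟩⟩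
    have hc := Fintype.card_congr e
    rw [Fintype.card_sigma, Fintype.card_subtype_compl, Fintype.card_subtype_eq] at hc
    have hsum : ∀ t : T, Fintype.card {v : W t // v ≠ 0} = M t₀ - 1 := fun t => by
      rw [Fintype.card_subtype_compl, Fintype.card_subtype_eq, ← Nat.card_eq_fintype_card, ← hconst t]
    simp only [hsum, Finset.sum_const, Finset.card_univ, smul_eq_mul] at hc
    rw [← Nat.card_eq_fintype_card, ← Nat.card_eq_fintype_card, ← hprod t₀, hconst (σ t₀)] at hc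
    have h1 := hpos t₀
    have key : Nat.card T = M t₀ + 1 := by
      refine Nat.eq_of_mul_eq_mul_right (show 0 < M t₀ - 1 by omega) (hc.trans ?_)
      have := Nat.sq_sub_sq (M t₀) 1
      simpa [pow_two] using this
    rw [hr] at key
    exact key

end Cfsg.Lib.OrderTwoStab
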