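import Cfsg.Prelude.Def_Solvable
import Cfsg.Agent.Components.Cores
import Cfsg.Agent.PGroups.AutOrder
import Mathlib.LinearAlgebra.Matrix.GeneralLinearGroup.Defs
import Mathlib.Algebra.Module.ZMod
import Mathlib.Tactic

/-!
The Fitting subgroup of a faithful primitive group.
-/

namespace Cfsg.Lib.PrimitiveFitting

open MulAction Subgroup

variable {X Y : Type*} [Group X] [Finite X] [MulAction X Y] [FaithfulSMul X Y]

omit [Finite X] in
theorem normal_transitive (hp : IsPreprimitive X Y) (N : Subgroup X) [N.Normal] (hN : N ≠ ⊥) :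
    IsPretransitive N Y := by
  haveI := hp
  refine IsQuasiPreprimitive.isPretransitive_of_normal fun h => hN ?_
  refine (eq_bot_iff_forall N).mpr fun n hn => FaithfulSMul.eq_of_smul_eq_smul (α := Y) fun y => ?_
  rw [one_smul]
  exact (Set.eq_univ_iff_forall.mp h y) ⟨n, hn⟩

omit [Finite X] in
theorem eq_one_of_fixed (N : Subgroup X) (hN : IsPretransitive N Y) {c : X}
    (hc : ∀ n ∈ N, n * c = c * n) {y : Y} (hy : c • y = y) : c = 1 := by
  refine FaithfulSMul.eq_of_smul_eq_smul (α := Y) fun z => ?_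
  obtain ⟨n, rfl⟩ := hN.exists_smul_eq y z
  rw [one_smul]
  show c • (n : X) • y = (n : X) • y
  rw [← mul_smul, ← hc n n.2, mul_smul, hy]

omit [Finite X] in
theorem centralizer_eq [Nonempty Y] (hp : IsPreprimitive X Y) (N : Subgroup X) [N.Normal] (hN : N ≠ ⊥)
    (hc : ∀ a ∈ N, ∀ b ∈ N, a * b = b * a) : centralizer (N : Set X) = N := by
  refine le_antisymm (fun c hc' => ?_) fun a ha => mem_centralizer_iff.mpr fun b hb => hc b hb a ha
  have htr := normal_transitive hp N hN
  obtain ⟨y⟩ := ‹Nonempty Y›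
  obtain ⟨n, hn⟩ := htr.exists_smul_eq y (c • y)
  replace hn : (n : X) • y = c • y := hn
  have h1 : (n : X)⁻¹ * c = 1 := eq_one_of_fixed N htr (fun m hm => by
    rw [mul_assoc, ← mem_centralizer_iff.mp hc' m hm, ← mul_assoc, ← mul_assoc,
      hc m hm _ (inv_mem n.2)]) (by rw [mul_smul, ← hn, inv_smul_smul])
  rw [← inv_mul_eq_one.mp h1]
  exact n.2

theorem nontrivial_space (hX : Nontrivial X) : Nontrivial Y := by
  by_contra h
  rw [not_nontrivial_iff_subsingleton] at h
  obtain ⟨x, hx⟩ := exists_ne (1 : X)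
  exact hx (FaithfulSMul.eq_of_smul_eq_smul (α := Y) fun y => Subsingleton.elim _ _)

theorem center_eq_bot (hp : IsPreprimitive X Y) (hnp : ¬ (Nat.card X).Prime) : center X = ⊥ := by
  by_contra h
  haveI : Nontrivial X := by
    obtain ⟨z, -, hz⟩ := (center X).bot_or_exists_ne_one.resolve_left h
    exact ⟨z, 1, hz⟩
  haveI := nontrivial_space (X := X) (Y := Y) inferInstance
  haveI := hp
  have hC : ∀ a ∈ center X, ∀ b ∈ center X, a * b = b * a := fun a ha b _ => (mem_center_iff.mp ha b).symm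
  have htop : center X = ⊤ := by
    refine eq_top_iff.mpr fun x _ => ?_
    rw [← centralizer_eq hp (center X) h hC]
    exact mem_centralizer_iff.mpr fun z hz => (mem_center_iff.mp hz x).symm
  obtain ⟨y⟩ := (inferInstance : Nonempty Y)
  have hst : stabilizer X y = ⊥ := (eq_bot_iff_forall _).mpr fun c hc => by
    have htr := normal_transitive hp (center X) h
    exact eq_one_of_fixed (center X) htr (fun n hn => (mem_center_iff.mp hn c).symm) hc
  have hco : IsCoatom (⊥ : Subgroup X) := hst ▸ (isCoatom_stabilizer_iff_preprimitive X y).mpr hp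
  obtain ⟨p, hpp, hpd⟩ := Nat.exists_prime_and_dvd (Finite.one_lt_card (α := X)).ne'
  haveI := Fact.mk hpp
  obtain ⟨x, hx⟩ := exists_prime_orderOf_dvd_card' p hpd
  refine hnp ?_
  have hne : zpowers x ≠ ⊥ := by
    rw [Ne, zpowers_eq_bot]
    intro e
    rw [e, orderOf_one] at hx
    exact hpp.ne_one hx.symm
  have := hco.2 _ (bot_lt_iff_ne_bot.mpr hne)
  rw [← card_top (G := X), ← this, Nat.card_zpowers, hx]
  exact hpp

/-- A nontrivial Fitting subgroup of a primitive group is elementary abelian and regular. -/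
theorem fitting_elementary (hp : IsPreprimitive X Y) (hF : Cfsg.fittingSubgroup X ≠ ⊥) :
    (∀ a ∈ Cfsg.fittingSubgroup X, ∀ b ∈ Cfsg.fittingSubgroup X, a * b = b * a) ∧
    centralizer (Cfsg.fittingSubgroup X : Set X) = Cfsg.fittingSubgroup X ∧
    (∀ f ∈ Cfsg.fittingSubgroup X, ∀ y : Y, f • y = y → f = 1) ∧
    ∃ p e : ℕ, p.Prime ∧ Nat.card (Cfsg.fittingSubgroup X) = p ^ e ∧ ∀ f ∈ Cfsg.fittingSubgroup X, f ^ p = 1 := by
  set F := Cfsg.fittingSubgroup X with hFdef
  haveI hFn : F.Normal := by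
    haveI := Cfsg.Lib.Components.isNilpotent_fitting (G := X)
    refine ⟨fun n hn g => ?_⟩
    have : F ≤ F.comap (MulAut.conj g).toMonoidHom := sSup_le fun N hN a ha => by
      haveI := hN.1
      exact (le_sSup hN : N ≤ F) (hN.1.conj_mem a ha g)
    simpa using this hn
  haveI := Cfsg.Lib.Components.isNilpotent_fitting (G := X)
  haveI : Nontrivial F := (nontrivial_iff_ne_bot F).mpr hF
  haveI : Nontrivial X := F.subtype_injective.nontrivial
  haveI := nontrivial_space (X := X) (Y := Y) inferInstance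
  set Z := (center F).map F.subtype with hZ
  haveI : Z.Normal := ConjAct.normal_of_characteristic_of_normal
  have hZne : Z ≠ ⊥ := fun e => Group.IsNilpotent.center_ne_bot F
    ((map_eq_bot_iff_of_injective _ F.subtype_injective).mp e)
  have hZc : ∀ a ∈ Z, ∀ b ∈ F, b * a = a * b := by
    rintro _ ⟨a, ha, rfl⟩ b hb
    exact congrArg Subtype.val (mem_center_iff.mp ha ⟨b, hb⟩)
  have hZF : Z ≤ F := map_subtype_le _
  have hFZ : F ≤ Z := by
    conv_rhs => rw [← centralizer_eq hp Z hZne fun a ha b hb => (hZc a ha b (hZF hb)).symm]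
    exact fun b hb => mem_centralizer_iff.mpr fun a ha => (hZc a ha b hb).symm
  have hc : ∀ a ∈ F, ∀ b ∈ F, a * b = b * a := fun a ha b hb => (hZc b (hFZ hb) a ha)
  have hcen := centralizer_eq hp F hF hc
  refine ⟨hc, hcen, fun f hf y hy => eq_one_of_fixed F (normal_transitive hp F hF) (fun n hn => hc n hn f hf) hy, ?_⟩
  obtain ⟨p, hpp, hpd⟩ := Nat.exists_prime_and_dvd (Finite.one_lt_card (α := F)).ne'
  haveI := Fact.mk hpp
  let V : Subgroup X :=
    { carrier := {x | x ∈ F ∧ x ^ p = 1}
      one_mem' := ⟨one_mem F, one_pow p⟩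
      mul_mem' := fun {a b} ha hb => ⟨mul_mem ha.1 hb.1, by
        rw [(show Commute a b from hc a ha.1 b hb.1).mul_pow, ha.2, hb.2, one_mul]⟩
      inv_mem' := fun {a} ha => ⟨inv_mem ha.1, by rw [inv_pow, ha.2, inv_one]⟩ }
  haveI : V.Normal := ⟨fun x hx g => ⟨hFn.conj_mem x hx.1 g, by rw [conj_pow, hx.2, mul_one, mul_inv_cancel]⟩⟩
  have hVF : V ≤ F := fun x hx => hx.1
  have hVne : V ≠ ⊥ := fun e => by
    obtain ⟨x, hx⟩ := exists_prime_orderOf_dvd_card' p hpd
    have hm : (x : X) ∈ V := ⟨x.2, by rw [← hx, ← Subgroup.orderOf_coe, pow_orderOf_eq_one]⟩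
    rw [e, mem_bot] at hm
    exact hpp.ne_one (by rw [← hx, ← Subgroup.orderOf_coe, hm, orderOf_one])
  have hFV : F ≤ V := by
    conv_rhs => rw [← centralizer_eq hp V hVne fun a ha b hb => hc a ha.1 b hb.1]
    exact fun b hb => mem_centralizer_iff.mpr fun a ha => hc a ha.1 b hb
  obtain ⟨e, he⟩ := IsPGroup.iff_card.mp (show IsPGroup p F from fun f => ⟨1, Subtype.ext (by simpa using (hFV f.2).2)⟩)
  exact ⟨p, e, hpp, he, fun f hf => (hFV hf).2⟩

/-- Conjugation on an elementary abelian normal subgroup as matrices. -/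
theorem exists_matrix_hom (F : Subgroup X) [F.Normal] (hc : ∀ a ∈ F, ∀ b ∈ F, a * b = b * a) {p e : ℕ}
    [Fact p.Prime] (hcard : Nat.card F = p ^ e) (hexp : ∀ f ∈ F, f ^ p = 1) :
    ∃ φ : X →* Matrix.GeneralLinearGroup (Fin e) (ZMod p), φ.ker = centralizer (F : Set X) := by
  letI : CommGroup F := { mul_comm := fun a b => Subtype.ext (hc a a.2 b b.2) }
  haveI hmod : Module (ZMod p) (Additive F) :=
    AddCommGroup.zmodModule (n := p) fun v => Additive.toMul.injective (Subtype.ext (by simpa using hexp _ (Additive.toMul v).2))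
  haveI : Module.Finite (ZMod p) (Additive F) := Module.Finite.of_finite
  have hfin : Module.finrank (ZMod p) (Additive F) = e := by
    have h1 : Nat.card (Additive F) = Nat.card (ZMod p) ^ Module.finrank (ZMod p) (Additive F) :=
      Module.natCard_eq_pow_finrank
    rw [show Nat.card (Additive F) = p ^ e from (Nat.card_congr Additive.toMul).trans hcard, Nat.card_zmod] at h1
    exact (Nat.pow_right_injective (Fact.out : p.Prime).two_le h1).symm
  let b := Module.finBasisOfFinrankEq (ZMod p) (Additive F) hfin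
  let σ : X →* Module.End (ZMod p) (Additive F) :=
    { toFun := fun x => (MonoidHom.toAdditive (MulAut.conjNormal x : MulAut F).toMonoidHom).toZModLinearMap p
      map_one' := LinearMap.ext fun v => by simp
      map_mul' := fun x y => LinearMap.ext fun v => by simp }
  refine ⟨(Units.map (LinearMap.toMatrixAlgEquiv b).toMonoidHom).comp σ.toHomUnits, ?_⟩
  ext x
  rw [MonoidHom.mem_ker, mem_centralizer_iff]
  have h1 : (Units.map (LinearMap.toMatrixAlgEquiv b).toMonoidHom).comp σ.toHomUnits x = 1 ↔ σ x = 1 := by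
    rw [Units.ext_iff]
    exact map_eq_one_iff _ (LinearMap.toMatrixAlgEquiv b).injective
  rw [h1]
  constructor
  · intro h f hf
    have h2 := congrArg (fun v => ((Additive.toMul v : F) : X)) (LinearMap.congr_fun h (Additive.ofMul ⟨f, hf⟩))
    simp [σ] at h2
    exact (mul_inv_eq_iff_eq_mul.mp h2).symm
  · intro h
    refine LinearMap.ext fun v => ?_
    apply Additive.toMul.injective
    apply Subtype.ext
    simp [σ]
    exact mul_inv_eq_iff_eq_mul.mpr (h _ (Additive.toMul v).2).symm

end Cfsg.Lib.PrimitiveFitting
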