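import Mathlib.FieldTheory.Finite.Basic
import Mathlib.LinearAlgebra.Lagrange
import Mathlib.Algebra.Polynomial.HasseDeriv
import Mathlib.Algebra.Polynomial.Taylor
import Mathlib.Data.Nat.Prime.Factorial
import Mathlib.Tactic

/-!
A map of a prime field whose difference quotients all lie in a proper subgroup of the units is affine.
-/

namespace Cfsg.Lib.ProperAffine

open Polynomial Finset

variable {p : ℕ} [hp : Fact p.Prime]

/-- If the mean of `u` over every coset `x + c H` is `u x`, then `deg u < |H|`. -/
theorem natDegree_lt_of_mean (H : Subgroup (ZMod p)ˣ) [Fintype H] {u : (ZMod p)[X]} (hu : u.natDegree < p)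
    (hmean : ∀ x c : ZMod p, ∑ h : H, u.eval (x + c * ((h : (ZMod p)ˣ) : ZMod p)) = (Fintype.card H : ZMod p) * u.eval x) :
    u.natDegree < Fintype.card H := by
  set d := Fintype.card H with hd
  have hd0 : 0 < d := Fintype.card_pos
  have hdp : d < p := by
    have h1 := Subgroup.card_le_card_group H
    rw [Nat.card_eq_fintype_card, Nat.card_eq_fintype_card, ZMod.card_units] at h1
    have := hp.out.two_le
    omega
  have hdF : (d : ZMod p) ≠ 0 := fun e => by
    have := Nat.le_of_dvd hd0 ((ZMod.natCast_eq_zero_iff d p).mp e)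
    omega
  have hder : hasseDeriv d u = 0 := by
    refine eq_zero_of_natDegree_lt_card_of_eval_eq_zero _ Function.injective_id (fun x => ?_)
      (by rw [ZMod.card]; exact (natDegree_hasseDeriv_le u d).trans_lt (by omega))
    set U : (ZMod p)[X] := (∑ h : H, (taylor x u).comp (C ((h : (ZMod p)ˣ) : ZMod p) * X)) - C ((d : ZMod p) * u.eval x) with hU
    have hU0 : U = 0 := by
      refine eq_zero_of_natDegree_lt_card_of_eval_eq_zero _ Function.injective_id (fun c => ?_) ?_
      · simp only [id, hU, eval_sub, eval_finsetSum, eval_comp, eval_mul, eval_C, eval_X, taylor_eval]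
        rw [sub_eq_zero, ← hmean x c]
        exact Finset.sum_congr rfl fun h _ => by rw [add_comm, mul_comm]
      · rw [ZMod.card]
        refine lt_of_le_of_lt ((natDegree_sub_le _ _).trans (max_le ?_ ((natDegree_C _).le.trans (Nat.zero_le _)))) hu
        refine natDegree_sum_le_of_forall_le _ _ fun h _ => ?_
        refine natDegree_comp_le.trans ?_
        rw [natDegree_taylor]
        exact (Nat.mul_le_mul_left _ ((natDegree_C_mul_le _ _).trans natDegree_X_le)).trans (mul_one _).le
    have hc := congrArg (fun q : (ZMod p)[X] => q.coeff d) hU0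
    simp only [hU, coeff_sub, finsetSum_coeff, comp_C_mul_X_coeff, coeff_C, if_neg hd0.ne', sub_zero, coeff_zero, taylor_coeff] at hc
    rw [Finset.sum_congr rfl (g := fun _ => (hasseDeriv d u).eval x) (fun (h : H) _ => by
      rw [← Units.val_pow_eq_pow_val, ← SubmonoidClass.coe_pow, hd, pow_card_eq_one, OneMemClass.coe_one, Units.val_one, mul_one]), Finset.sum_const, Finset.card_univ, nsmul_eq_mul, mul_eq_zero] at hc
    exact hc.resolve_left hdF
  by_contra hge
  push Not at hge
  have h2 := congrArg (fun q : (ZMod p)[X] => q.coeff (u.natDegree - d)) hder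
  simp only [hasseDeriv_coeff, coeff_zero, Nat.sub_add_cancel hge, mul_eq_zero] at h2
  rcases h2 with h2 | h2
  · rw [ZMod.natCast_eq_zero_iff] at h2
    have hdvd : p ∣ u.natDegree.factorial := h2.trans ⟨d.factorial * (u.natDegree - d).factorial, by
      rw [← Nat.choose_mul_factorial_mul_factorial hge, mul_assoc]⟩
    have := (Nat.Prime.dvd_factorial hp.out).mp hdvd
    omega
  · have : u = 0 := leadingCoeff_eq_zero.mp h2
    rw [this, natDegree_zero] at hge
    omega

theorem exists_affine (H : Subgroup (ZMod p)ˣ) (hH : H ≠ ⊤) (σ : Equiv.Perm (ZMod p))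
    (hσ : ∀ x y, ∃ a ∈ H, σ y - σ x = (a : ZMod p) * (y - x)) :
    ∃ a ∈ H, ∃ b : ZMod p, ∀ x, σ x = (a : ZMod p) * x + b := by
  classical
  obtain ⟨a, ha, hab⟩ := hσ 0 1
  refine ⟨a, ha, σ 0, fun x => ?_⟩
  set d := Fintype.card H with hd
  have hd0 : 0 < d := Fintype.card_pos
  rcases (show d = 1 ∨ 2 ≤ d by omega) with h1 | h2
  · haveI : Subsingleton H := Fintype.card_le_one_iff_subsingleton.mp h1.le
    have hone : ∀ b : (ZMod p)ˣ, b ∈ H → b = 1 := fun b hb =>
      congrArg Subtype.val (Subsingleton.elim (⟨b, hb⟩ : H) 1)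
    obtain ⟨b, hb, hbx⟩ := hσ 0 x
    rw [hone b hb, Units.val_one, one_mul, sub_zero, sub_eq_iff_eq_add] at hbx
    rw [hbx, hone a ha, Units.val_one, one_mul]
  have hp1 : 2 * d < p := by
    have hdiv : d ∣ p - 1 := by
      have := Subgroup.card_subgroup_dvd_card H
      rwa [Nat.card_eq_fintype_card, Nat.card_eq_fintype_card, ZMod.card_units] at this
    have hne : d ≠ p - 1 := fun e => hH (Subgroup.eq_top_of_card_eq H (by
      rw [Nat.card_eq_fintype_card, Nat.card_eq_fintype_card, ZMod.card_units]; exact e))
    have := hp.out.two_le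
    obtain ⟨k, hk⟩ := hdiv
    rcases (show k = 0 ∨ k = 1 ∨ 2 ≤ k by omega) with rfl | rfl | hk2
    · omega
    · omega
    · have : d * 2 ≤ d * k := Nat.mul_le_mul_left d hk2
      omega
  -- the image of a coset is a coset
  have hmean : ∀ (j : ℕ), j < d → ∀ x c : ZMod p,
      ∑ h : H, σ (x + c * ((h : (ZMod p)ˣ) : ZMod p)) ^ j = (d : ZMod p) * σ x ^ j := by
    intro j hj x c
    by_cases hc : c = 0
    · simp [hc, hd]
    choose f hf hfeq using fun h : H => hσ x (x + c * ((h : (ZMod p)ˣ) : ZMod p))
    let g : H → H := fun h => ⟨f h * h, mul_mem (hf h) h.2⟩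
    have hgeq : ∀ h : H, σ (x + c * ((h : (ZMod p)ˣ) : ZMod p)) = σ x + c * (((g h : H) : (ZMod p)ˣ) : ZMod p) := fun h => by
      have := hfeq h
      rw [add_sub_cancel_left] at this
      rw [sub_eq_iff_eq_add'.mp this, Units.val_mul]; ring
    have hbij : Function.Bijective g := by
      refine Finite.injective_iff_bijective.mp fun h h' e => ?_
      have := σ.injective ((hgeq h).trans (e ▸ (hgeq h').symm))
      exact Subtype.ext (Units.ext (mul_left_cancel₀ hc (add_left_cancel this)))
    rw [Finset.sum_congr rfl (fun h _ => by rw [hgeq h]),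
      hbij.sum_comp (fun h : H => (σ x + c * ((h : (ZMod p)ˣ) : ZMod p)) ^ j)]
    simp only [add_pow, mul_pow]
    rw [Finset.sum_comm, Finset.sum_eq_single j]
    · simp [hd]
    · intro i hi hij
      rw [Finset.mem_range] at hi
      rw [← Finset.sum_mul, ← Finset.mul_sum, ← Finset.mul_sum, FiniteField.sum_subgroup_pow_eq_zero (by omega) (by omega)]
      simp
    · simp
  set u : (ZMod p)[X] := Lagrange.interpolate Finset.univ id (fun x => σ x) with hu
  have hev : ∀ x, u.eval x = σ x := fun x =>
    Lagrange.eval_interpolate_at_node (fun x => σ x) Function.injective_id.injOn (Finset.mem_univ x)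
  have hdeg : u.natDegree < p := by
    by_cases h0 : u = 0
    · rw [h0, natDegree_zero]; exact hp.out.pos
    rw [natDegree_lt_iff_degree_lt h0]
    have := Lagrange.degree_interpolate_lt (s := (Finset.univ : Finset (ZMod p))) (fun x => σ x) Function.injective_id.injOn
    rwa [Finset.card_univ, ZMod.card] at this
  have hpow : ∀ j, j < d → (u ^ j).natDegree < p → (u ^ j).natDegree < d := fun j hj hjp =>
    natDegree_lt_of_mean H hjp fun x c => by simp only [eval_pow, hev]; exact hmean j hj x c
  have hn : u.natDegree < d := by simpa using hpow 1 (by omega) (by simpa using hdeg)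
  have hn1 : u.natDegree ≤ 1 := by
    by_contra hlt
    push Not at hlt
    set n := u.natDegree with hn'
    set j := (d + n - 1) / n with hj
    have h3 := Nat.div_add_mod (d + n - 1) n
    have h4 := Nat.mod_lt (d + n - 1) (show 0 < n by omega)
    rw [← hj] at h3
    have hjd : j < d := by
      by_contra hge
      push Not at hge
      have h5 : 2 * d ≤ n * j := Nat.mul_le_mul (by omega : 2 ≤ n) hge
      omega
    have := hpow j hjd (by rw [natDegree_pow, ← hn', mul_comm]; omega)
    rw [natDegree_pow, ← hn', mul_comm] at this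
    omega
  obtain ⟨α, β, hαβ⟩ := exists_eq_X_add_C_of_natDegree_le_one hn1
  have hform : ∀ x, σ x = α * x + β := fun x => by rw [← hev, hαβ]; simp
  rw [hform 0, hform 1, sub_zero, mul_one, mul_one, mul_zero, zero_add, add_sub_cancel_right] at hab
  rw [hform x, hform 0, hab, mul_zero, zero_add]

end Cfsg.Lib.ProperAffine
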