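import Mathlib

/-!
Relative indices inside a product of two subgroups.
-/

namespace Cfsg.Lib.RelIndexProduct

variable {G : Type*} [Group G]

/-- If every element of `U` is a product `x * t` with `x ∈ X` and `t ∈ T`, then `T` has the same relative index
in `X` and in `U`. -/
theorem relIndex_eq_of_product {T X U : Subgroup G} (hX : X ≤ U) (hU : ∀ u ∈ U, ∃ x ∈ X, ∃ t ∈ T, u = x * t) :
    T.relIndex U = T.relIndex X := by
  rw [Subgroup.relIndex, Subgroup.relIndex]
  refine (Nat.card_congr (Equiv.ofBijective (Subgroup.quotientSubgroupOfEmbeddingOfLE T hX)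
    ⟨Function.Embedding.injective _, ?_⟩)).symm
  intro c
  induction c using QuotientGroup.induction_on with
  | _ c =>
      obtain ⟨x, hx, t, ht, e⟩ := hU c c.2
      refine ⟨QuotientGroup.mk ⟨x, hx⟩, ?_⟩
      rw [Subgroup.quotientSubgroupOfEmbeddingOfLE_apply_mk, QuotientGroup.eq, Subgroup.mem_subgroupOf]
      show x⁻¹ * (c : G) ∈ T
      rw [e, inv_mul_cancel_left]
      exact ht

/-- A subgroup normalizing another one: the product is the join. -/
theorem exists_mul_of_mem_sup {X T : Subgroup G} (h : T ≤ Subgroup.normalizer (X : Set G)) {u : G}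
    (hu : u ∈ X ⊔ T) : ∃ x ∈ X, ∃ t ∈ T, u = x * t := by
  rw [← SetLike.mem_coe, Subgroup.coe_mul_of_right_le_normalizer_left X T h] at hu
  obtain ⟨x, hx, t, ht, e⟩ := hu
  exact ⟨x, hx, t, ht, e.symm⟩

/-- The same, with the factors exchanged. -/
theorem exists_mul_of_mem_sup' {X T : Subgroup G} (h : X ≤ Subgroup.normalizer (T : Set G)) {u : G}
    (hu : u ∈ X ⊔ T) : ∃ x ∈ X, ∃ t ∈ T, u = x * t := by
  rw [← SetLike.mem_coe, Subgroup.coe_mul_of_left_le_normalizer_right X T h] at hu
  obtain ⟨x, hx, t, ht, e⟩ := hu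
  exact ⟨x, hx, t, ht, e.symm⟩

end Cfsg.Lib.RelIndexProduct
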