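import Cfsg.Agent.Frobenius.FpfGroups
import Mathlib.GroupTheory.Sylow
import Mathlib.GroupTheory.Solvable
import Mathlib.GroupTheory.Commutator.Basic
import Mathlib.Tactic

/-!
Three primes cannot be pairwise independent in the prime graph of a soluble group.
-/

namespace Cfsg.Lib.ThreePrimes

open Subgroup Cfsg.Lib.Frobenius
open scoped Pointwise commutatorElement

variable {G : Type*} [Group G] [Finite G]

/-- An element of order `p * q`. -/
def Edge (G : Type*) [Group G] (p q : ℕ) : Prop := ∃ x : G, orderOf x = p * q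

omit [Finite G] in
theorem edge_of_commute {p q : ℕ} (hp : p.Prime) (hq : q.Prime) (hpq : p ≠ q) {x y : G} (hx : orderOf x = p)
    (hy : orderOf y = q) (h : Commute x y) : Edge G p q :=
  ⟨x * y, by rw [h.orderOf_mul_eq_mul_orderOf_of_coprime (by rw [hx, hy]; exact (Nat.coprime_primes hp hq).mpr hpq), hx, hy]⟩

omit [Finite G] in
theorem Edge.symm {p q : ℕ} (h : Edge G p q) : Edge G q p := h.imp fun x hx => by rw [hx, mul_comm]

omit [Finite G] in
theorem Edge.of_injective {H : Type*} [Group H] (f : H →* G) (hf : Function.Injective f) {p q : ℕ} (h : Edge H p q) :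
    Edge G p q := by
  obtain ⟨x, hx⟩ := h
  exact ⟨f x, (orderOf_injective f hf x).trans hx⟩

theorem Edge.of_surjective {H : Type*} [Group H] (f : G →* H) (hf : Function.Surjective f) {p q : ℕ} (h : Edge H p q) :
    Edge G p q := by
  obtain ⟨x, hx⟩ := h
  obtain ⟨g, rfl⟩ := hf x
  obtain ⟨k, hk⟩ := orderOf_map_dvd f g
  refine ⟨g ^ k, ?_⟩
  have hpos : 0 < orderOf g := orderOf_pos g
  have hk0 : k ≠ 0 := fun e => by rw [e, mul_zero] at hk; omega
  rw [orderOf_pow_of_dvd hk0 ⟨orderOf (f g), by rw [hk, mul_comm]⟩, hk, Nat.mul_div_cancel _ (Nat.pos_of_ne_zero hk0), hx]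

/-- Normal `p`-subgroup, a prime `q` in a normal subgroup and a prime `r` in the quotient. -/
theorem edge_normal {p q r : ℕ} (hp : p.Prime) (hq : q.Prime) (hr : r.Prime) (hpq : p ≠ q) (hpr : p ≠ r) (hqr : q ≠ r)
    (P M : Subgroup G) [P.Normal] [M.Normal] (hP : IsPGroup p P) (hPne : P ≠ ⊥) (hqM : q ∣ Nat.card M)
    (hrM : r ∣ M.index) : Edge G p q ∨ Edge G p r ∨ Edge G q r := by
  haveI := Fact.mk hp; haveI := Fact.mk hq; haveI := Fact.mk hr
  by_contra hno
  simp only [not_or] at hno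
  obtain ⟨npq, npr, nqr⟩ := hno
  set V := (center P).map P.subtype with hV
  haveI : V.Normal := by rw [hV]; infer_instance
  haveI : IsMulCommutative V := by
    rw [hV]; infer_instance
  haveI : Nontrivial P := (Subgroup.nontrivial_iff_ne_bot P).mpr hPne
  haveI := hP.center_nontrivial
  have hVne : V ≠ ⊥ := by
    rw [hV, Ne, map_eq_bot_iff_of_injective _ P.subtype_injective]
    exact (Subgroup.nontrivial_iff_ne_bot _).mp inferInstance
  have hVp : IsPGroup p V := hP.to_le (map_subtype_le _)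
  obtain ⟨Q⟩ := (inferInstance : Nonempty (Sylow q M))
  set Q' := (Q : Subgroup M).map M.subtype
  have hQ' : IsPGroup q Q' := Q.2.map _
  have hrN : r ∣ Nat.card (normalizer (Q' : Set G)) := by
    refine hrM.trans (?_ : M.index ∣ _)
    have : M.index = M.relIndex (normalizer (Q' : Set G)) := by
      rw [← relIndex_top_right, ← Sylow.normalizer_sup_eq_top Q, relIndex_sup_right]
    rw [this]; exact relIndex_dvd_card _ _
  obtain ⟨y, hy⟩ := exists_prime_orderOf_dvd_card' (G := normalizer (Q' : Set G)) r hrN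
  obtain ⟨x, hx⟩ := exists_prime_orderOf_dvd_card' (G := (Q : Subgroup M)) q (Q.dvd_card_of_dvd_card hqM)
  have hxQ : ((x : M) : G) ∈ Q' := ⟨x, x.2, rfl⟩
  have hox : orderOf ((x : M) : G) = q := by rw [Subgroup.orderOf_coe, Subgroup.orderOf_coe, hx]
  have hoy : orderOf (y : G) = r := by rw [Subgroup.orderOf_coe, hy]
  -- elements of coprime order have no fixed points
  have hfpf : ∀ a : G, ∀ s : ℕ, s.Prime → p ≠ s → ¬ Edge G p s → s ∣ orderOf a → ∀ v ∈ V, a * v = v * a → v = 1 := by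
    intro a s hs hps hne hsa v hv hc
    by_contra hv1
    obtain ⟨i, hi⟩ := hVp ⟨v, hv⟩
    have hord : orderOf v ∣ p ^ i := orderOf_dvd_of_pow_eq_one (congrArg Subtype.val hi)
    obtain ⟨j, -, hj⟩ := (Nat.dvd_prime_pow hp).mp hord
    have hpv : p ∣ orderOf v := hj ▸ dvd_pow_self p (fun e => hv1 (orderOf_eq_one_iff.mp (by rw [hj, e, pow_zero])))
    obtain ⟨c, hc'⟩ := hpv; obtain ⟨d, hd⟩ := hsa
    have hc0 : c ≠ 0 := fun e => (orderOf_pos v).ne' (by rw [hc', e, mul_zero])
    have hd0 : d ≠ 0 := fun e => (orderOf_pos a).ne' (by rw [hd, e, mul_zero])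
    exact hne (edge_of_commute hp hs hps (x := v ^ c) (y := a ^ d)
      (by rw [orderOf_pow_of_dvd hc0 ⟨p, by rw [hc', mul_comm]⟩, hc', Nat.mul_div_cancel _ (Nat.pos_of_ne_zero hc0)])
      (by rw [orderOf_pow_of_dvd hd0 ⟨s, by rw [hd, mul_comm]⟩, hd, Nat.mul_div_cancel _ (Nat.pos_of_ne_zero hd0)])
      ((Commute.symm hc).pow_pow c d))
  have hQA : Q' ≤ normalizer (V : Set G) := le_normalizer_of_normal
  have hfQ : Fpf Q' V := fun a ha ha1 => by
    rw [eq_bot_iff]
    intro v hv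
    obtain ⟨i, hi⟩ := hQ' ⟨a, ha⟩
    have hord : orderOf a ∣ q ^ i := orderOf_dvd_of_pow_eq_one (congrArg Subtype.val hi)
    obtain ⟨j, -, hj⟩ := (Nat.dvd_prime_pow hq).mp hord
    have hqa : q ∣ orderOf a := hj ▸ dvd_pow_self q (fun e => ha1 (orderOf_eq_one_iff.mp (by rw [hj, e, pow_zero])))
    exact mem_bot.mpr (hfpf a q hq hpq npq hqa v hv.1 (mem_centralizer_singleton_iff.mp hv.2).symm)
  -- the group generated by `x` and `y`
  have hxy : (y : G) * ((x : M) : G) * (y : G)⁻¹ ∈ zpowers ((x : M) : G) := by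
    have hm : (y : G) * ((x : M) : G) * (y : G)⁻¹ ∈ Q' := (mem_normalizer_iff.mp y.2 _).mp hxQ
    have := hfQ.unique hQA hVne hQ' ⟨_, hxQ⟩ ⟨_, hm⟩ (by rw [Subgroup.orderOf_mk, hox])
      (by rw [Subgroup.orderOf_mk, ← MulAut.conj_apply]; exact (orderOf_injective (MulAut.conj (y : G)).toMonoidHom (MulAut.conj _).injective _).trans hox)
    obtain ⟨i, hi⟩ := mem_zpowers_iff.mp this
    exact mem_zpowers_iff.mpr ⟨i, congrArg Subtype.val hi⟩
  set X := zpowers ((x : M) : G)
  set Y := zpowers (y : G)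
  have hYX : Y ≤ normalizer (X : Set G) := by
    refine zpowers_le.mpr (mem_normalizer_fintype fun n hn => ?_)
    obtain ⟨i, rfl⟩ := mem_zpowers_iff.mp hn
    obtain ⟨j, hj⟩ := mem_zpowers_iff.mp hxy
    refine mem_zpowers_iff.mpr ⟨j * i, ?_⟩
    rw [zpow_mul, hj, conj_zpow]
  set A := Y ⊔ X with hA
  have hfA : Fpf A V := fun a ha ha1 => by
    rw [eq_bot_iff]
    intro v hv
    rw [← SetLike.mem_coe, coe_mul_of_left_le_normalizer_right Y X hYX] at ha
    obtain ⟨u, hu, w, hw, rfl⟩ := Set.mem_mul.mp ha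
    have hqr : q ∣ orderOf (u * w) ∨ r ∣ orderOf (u * w) := by
      have hdvd : orderOf (u * w) ∣ r * q := by
        have hcard : Nat.card A ∣ r * q := by
          rw [hA, ← card_mul_index (X.subgroupOf (Y ⊔ X)), mul_comm r q]
          refine mul_dvd_mul (dvd_of_eq ?_) ?_
          · rw [Nat.card_congr (subgroupOfEquivOfLe le_sup_right).toEquiv, Nat.card_zpowers, hox]
          · haveI : (X.subgroupOf (Y ⊔ X)).Normal :=
              normal_subgroupOf_of_le_normalizer (sup_le hYX le_normalizer)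
            have h2 : (X.subgroupOf (Y ⊔ X)).index = X.relIndex Y := by
              have h3 := relIndex_sup_right (H := Y.subgroupOf (Y ⊔ X)) (K := X.subgroupOf (Y ⊔ X))
              rw [← subgroupOf_sup le_sup_left le_sup_right, subgroupOf_self, relIndex_top_right] at h3
              rw [h3, relIndex_subgroupOf le_sup_left]
            rw [h2, ← hoy, ← Nat.card_zpowers]; exact relIndex_dvd_card _ _
        refine dvd_trans ?_ hcard
        have hm : u * w ∈ A := mul_mem (mem_sup_left hu) (mem_sup_right hw)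
        rw [← Subgroup.orderOf_mk (u * w) hm]; exact orderOf_dvd_natCard _
      by_contra hcon
      simp only [not_or] at hcon
      exact ha1 (orderOf_eq_one_iff.mp (Nat.eq_one_of_dvd_coprimes
        (Nat.Coprime.mul_right ((hr.coprime_iff_not_dvd.mpr hcon.2).symm) ((hq.coprime_iff_not_dvd.mpr hcon.1).symm)) dvd_rfl hdvd))
    have hc := (mem_centralizer_singleton_iff.mp hv.2).symm
    rcases hqr with h | h
    · exact mem_bot.mpr (hfpf _ q hq hpq npq h v hv.1 hc)
    · exact mem_bot.mpr (hfpf _ r hr hpr npr h v hv.1 hc)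
  have hcomm := hfA.commute_of_normalizes le_normalizer_of_normal hVne hr hq (mem_sup_left (mem_zpowers (y : G)))
    (mem_sup_right (mem_zpowers ((x : M) : G))) hoy hox hxy
  exact nqr (edge_of_commute hq hr hqr hox hoy hcomm.symm)

theorem edge_series {p q r : ℕ} (hp : p.Prime) (hq : q.Prime) (hr : r.Prime) (hpq : p ≠ q) (hpr : p ≠ r) (hqr : q ≠ r)
    (K M : Subgroup G) [K.Normal] [M.Normal] (hKM : K ≤ M) (hpK : p ∣ Nat.card K) (hqM : q ∣ K.relIndex M)
    (hrM : r ∣ M.index) : Edge G p q ∨ Edge G p r ∨ Edge G q r := by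
  haveI := Fact.mk hp
  obtain ⟨P⟩ := (inferInstance : Nonempty (Sylow p K))
  have htop := Sylow.normalizer_sup_eq_top P
  set P' := (P : Subgroup K).map K.subtype
  set N := normalizer (P' : Set G)
  haveI : (P'.subgroupOf N).Normal := normal_in_normalizer
  have hP'ne : P'.subgroupOf N ≠ ⊥ := by
    rw [Ne, subgroupOf_eq_bot, disjoint_iff, inf_eq_left.mpr le_normalizer,
      map_eq_bot_iff_of_injective _ K.subtype_injective]
    exact P.ne_bot_of_dvd_card hpK
  have hP'p : IsPGroup p (P'.subgroupOf N) := (P.2.map _).comap_subtype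
  have hMN : M.index = (M.subgroupOf N).index := by
    rw [← relIndex_top_right, ← top_le_iff.mp (htop ▸ sup_le_sup_left hKM N : ⊤ ≤ N ⊔ M), relIndex_sup_right]; rfl
  have hM1 : K.relIndex M = K.relIndex (N ⊓ M) := by
    have hmod : M = (N ⊓ M) ⊔ K := by
      refine le_antisymm (fun m hm => ?_) (sup_le inf_le_right hKM)
      obtain ⟨n, hn, k, hk, rfl⟩ := Set.mem_mul.mp (by
        rw [← coe_mul_of_left_le_normalizer_right N K le_normalizer_of_normal, htop]; trivial : m ∈ ((N : Set G) * (K : Set G)))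
      refine mul_mem (mem_sup_left ⟨hn, ?_⟩) (mem_sup_right hk)
      exact (M.mul_mem_cancel_right (hKM hk)).mp hm
    conv_lhs => rw [hmod]
    rw [relIndex_sup_right]
  have hqN : q ∣ Nat.card (M.subgroupOf N) := by
    refine hqM.trans ?_
    rw [hM1]
    have h := relIndex_dvd_card K (N ⊓ M)
    rwa [← Nat.card_congr (subgroupOfEquivOfLe (inf_le_left : N ⊓ M ≤ N)).toEquiv, inf_subgroupOf_left] at h
  rcases edge_normal hp hq hr hpq hpr hqr (P'.subgroupOf N) (M.subgroupOf N) hP'p hP'ne hqN (hMN ▸ hrM) with h | h | h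
  exacts [Or.inl (h.of_injective _ N.subtype_injective), Or.inr (Or.inl (h.of_injective _ N.subtype_injective)),
    Or.inr (Or.inr (h.of_injective _ N.subtype_injective))]

/-- In a soluble group some normal subgroup sees exactly one of the given primes. -/
theorem exists_normal_one [Group.IsSolvable G] (S : Finset ℕ) (hS : ∀ p ∈ S, p.Prime) (h : ∃ p ∈ S, p ∣ Nat.card G) :
    ∃ K : Subgroup G, K.Normal ∧ ∃ p ∈ S, p ∣ Nat.card K ∧ ∀ q ∈ S, q ∣ Nat.card K → q = p := by
  have hne : {K : Subgroup G | K.Normal ∧ ∃ p ∈ S, p ∣ Nat.card K}.Nonempty :=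
    ⟨⊤, inferInstance, by simpa using h⟩
  obtain ⟨K, ⟨hKn, p, hpS, hpK⟩, hmin⟩ := Set.Finite.exists_minimal (Set.toFinite _) hne
  refine ⟨K, hKn, p, hpS, hpK, fun q hq hqK => ?_⟩
  by_contra hqp
  haveI := Fact.mk (hS p hpS)
  have hKne : K ≠ ⊥ := fun e => (hS p hpS).ne_one (Nat.eq_one_of_dvd_one (by rwa [e, card_bot] at hpK))
  have hlt : ⁅K, K⁆ < K := by
    haveI : Nontrivial K := (nontrivial_iff_ne_bot K).mpr hKne
    exact IsSolvable.commutator_lt_of_ne_bot hKne
  obtain ⟨P⟩ := (inferInstance : Nonempty (Sylow p K))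
  set P' := (P : Subgroup K).map K.subtype with hP'
  set L := P' ⊔ ⁅K, K⁆ with hL
  have hLK : L ≤ K := sup_le (map_subtype_le _) hlt.le
  have hLn : L.Normal := by
    refine ⟨fun l hl g => ?_⟩
    suffices hh : L.map (MulAut.conj g).toMonoidHom ≤ L from hh ⟨l, hl, rfl⟩
    rw [hL, Subgroup.map_sup, map_commutator, show K.map (MulAut.conj g).toMonoidHom = K from
      le_antisymm (map_le_iff_le_comap.mpr fun k hk => hKn.conj_mem k hk g) (fun k hk => ⟨g⁻¹ * k * g, by
        simpa using hKn.conj_mem k hk g⁻¹, by simp [mul_assoc]⟩)]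
    refine sup_le ?_ le_sup_right
    obtain ⟨k, hk⟩ := MulAction.exists_smul_eq K P ((MulAut.conjNormal g : MulAut K) • P)
    rintro _ ⟨_, ⟨u, hu, rfl⟩, rfl⟩
    have hu' : (MulAut.conjNormal g : MulAut K) u ∈ ((MulAut.conjNormal g : MulAut K) • P : Sylow p K) :=
      Subgroup.mem_map_of_mem _ hu
    rw [← hk] at hu'
    obtain ⟨v, hv, e⟩ := hu'
    have e' : g * (u : G) * g⁻¹ = (k : G) * (v : G) * (k : G)⁻¹ := by
      have := congrArg (fun z : K => (z : G)) e
      simpa [MulAut.conjNormal_apply] using this.symm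
    show g * (u : G) * g⁻¹ ∈ P' ⊔ ⁅K, K⁆
    rw [e', show (k : G) * (v : G) * (k : G)⁻¹ = ⁅(k : G), (v : G)⁆ * (v : G) by simp [commutatorElement_def]]
    exact mul_mem (mem_sup_right (commutator_mem_commutator k.2 v.2)) (mem_sup_left ⟨v, hv, rfl⟩)
  have hq' : ¬ q ∣ Nat.card L := by
    intro hd
    haveI : (⁅K, K⁆).Normal := inferInstance
    have hc : Nat.card L ∣ Nat.card ↥⁅K, K⁆ * Nat.card P' := by
      rw [← card_mul_index ((⁅K, K⁆).subgroupOf L), Nat.card_congr (subgroupOfEquivOfLe (le_sup_right : ⁅K, K⁆ ≤ L)).toEquiv]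
      refine mul_dvd_mul_left _ ?_
      show (⁅K, K⁆).relIndex (P' ⊔ ⁅K, K⁆) ∣ _
      rw [relIndex_sup_right]; exact relIndex_dvd_card _ _
    rcases (hS q hq).dvd_mul.mp (hd.trans hc) with h' | h'
    · exact hlt.not_ge (hmin ⟨inferInstance, q, hq, h'⟩ hlt.le)
    · obtain ⟨n, hn⟩ := IsPGroup.iff_card.mp (P.2.map K.subtype)
      rw [hP', hn] at h'
      exact hqp ((Nat.prime_dvd_prime_iff_eq (hS q hq) (hS p hpS)).mp ((hS q hq).dvd_of_dvd_pow h'))
  have hpL : p ∣ Nat.card L := by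
    refine dvd_trans ?_ (card_dvd_of_le (le_sup_left : P' ≤ L))
    rw [hP', card_subtype]
    exact P.dvd_card_of_dvd_card hpK
  exact hq' (le_antisymm hLK (hmin ⟨hLn, p, hpS, hpL⟩ hLK) ▸ hqK)

theorem edge_solvable [Group.IsSolvable G] (ρ : Finset ℕ) (hρ : 3 ≤ ρ.card) (hd : ∀ r ∈ ρ, r.Prime ∧ r ∣ Nat.card G) :
    ∃ a ∈ ρ, ∃ b ∈ ρ, a ≠ b ∧ Edge G a b := by
  classical
  obtain ⟨s, hs⟩ := Finset.card_pos.mp (by omega : 0 < ρ.card)
  obtain ⟨K, hK, p, hp, hpK, hpu⟩ := exists_normal_one ρ (fun r hr => (hd r hr).1) ⟨s, hs, (hd s hs).2⟩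
  have hrest : ∀ q ∈ ρ.erase p, q ∣ Nat.card (G ⧸ K) := fun q hq => by
    obtain ⟨hne, hq'⟩ := Finset.mem_erase.mp hq
    have := (hd q hq').2
    rw [card_eq_card_quotient_mul_card_subgroup K] at this
    exact ((hd q hq').1.dvd_mul.mp this).resolve_right fun h => hne (hpu q hq' h)
  obtain ⟨t, ht⟩ := Finset.card_pos.mp (by rw [Finset.card_erase_of_mem hp]; omega : 0 < (ρ.erase p).card)
  obtain ⟨M, hM, q, hq, hqM, hqu⟩ := exists_normal_one (G := G ⧸ K) (ρ.erase p)
    (fun r hr => (hd r (Finset.mem_of_mem_erase hr)).1) ⟨t, ht, hrest t ht⟩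
  obtain ⟨r, hr, hrq⟩ := Finset.exists_mem_ne (by rw [Finset.card_erase_of_mem hp]; omega : 1 < (ρ.erase p).card) q
  set M' := M.comap (QuotientGroup.mk' K)
  have hKM : K ≤ M' := fun k hk => by
    show QuotientGroup.mk' K k ∈ M
    rw [(QuotientGroup.eq_one_iff k).mpr hk |> fun h => (h : QuotientGroup.mk' K k = 1)]; exact one_mem M
  have hrel : K.relIndex M' = Nat.card M := by
    have h := relIndex_comap (⊥ : Subgroup (G ⧸ K)) (QuotientGroup.mk' K) M'
    rw [MonoidHom.comap_bot, QuotientGroup.ker_mk', map_comap_eq_self_of_surjective (QuotientGroup.mk'_surjective K), relIndex_bot_left] at h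
    exact h
  have hidx : r ∣ M'.index := by
    rw [index_comap_of_surjective _ (QuotientGroup.mk'_surjective K)]
    have := hrest r hr
    rw [← card_mul_index M] at this
    exact ((hd r (Finset.mem_of_mem_erase hr)).1.dvd_mul.mp this).resolve_left fun h => hrq (hqu r hr h)
  have hqr : q ≠ r := hrq.symm
  have hpq : p ≠ q := fun e => (Finset.mem_erase.mp hq).1 e.symm
  have hpr : p ≠ r := fun e => (Finset.mem_erase.mp hr).1 e.symm
  have hq0 := Finset.mem_of_mem_erase hq
  have hr0 := Finset.mem_of_mem_erase hr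
  rcases edge_series (hd p hp).1 (hd q hq0).1 (hd r hr0).1 hpq hpr hqr K M' hKM hpK (hrel.symm ▸ hqM) hidx with h | h | h
  exacts [⟨p, hp, q, hq0, hpq, h⟩, ⟨p, hp, r, hr0, hpr, h⟩, ⟨q, hq0, r, hr0, hqr, h⟩]

end Cfsg.Lib.ThreePrimes
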