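import Cfsg.Agent.Frobenius.UniqueSubgroup
import Cfsg.Prelude.Def_CaseTheorems

/-!
Linear `p`-groups transitive on the non-zero vectors.
-/

namespace Cfsg.Lib.TransPGroup

open Matrix

/-- Linear equivalences of a finite space as invertible matrices. -/
noncomputable def toGL {q : ℕ} [Fact q.Prime] {V : Type*} [AddCommGroup V] [Module (ZMod q) V] [Finite V] :
    (V ≃ₗ[ZMod q] V) ≃* GL (Fin (Module.finrank (ZMod q) V)) (ZMod q) :=
  (LinearMap.GeneralLinearGroup.generalLinearEquiv (ZMod q) V).symm.trans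
    (Units.mapEquiv (LinearMap.toMatrixAlgEquiv (Module.finBasis (ZMod q) V)).toMulEquiv)

theorem odd_geom {q m : ℕ} (hq : Odd q) (hm : Odd m) : Odd (∑ i ∈ Finset.range m, q ^ i) := by
  rw [Finset.odd_sum_iff_odd_card_odd]
  have : (Finset.range m).filter (fun i => Odd (q ^ i)) = Finset.range m :=
    Finset.filter_eq_self.mpr fun i _ => hq.pow
  rwa [this, Finset.card_range]

theorem not_two_pow_of_odd {q m s : ℕ} (hq : Odd q) (hq3 : 3 ≤ q) (hm : Odd m) (hm2 : 2 ≤ m) :
    q ^ m - 1 ≠ 2 ^ s := by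
  intro h
  set S := ∑ i ∈ Finset.range m, q ^ i with hS
  have hmul : S * (q - 1) = q ^ m - 1 := by
    rw [hS, Nat.geomSum_eq (by omega)]
    exact Nat.div_mul_cancel (by simpa using Nat.sub_dvd_pow_sub_pow q 1 m)
  have hdvd : S ∣ 2 ^ s := ⟨q - 1, by rw [hmul, h]⟩
  obtain ⟨k, -, hk⟩ := (Nat.dvd_prime_pow Nat.prime_two).mp hdvd
  have hodd : Odd S := odd_geom hq hm
  have h2 : q + 1 ≤ S := by
    rw [hS]
    refine le_trans (le_of_eq ?_) (Finset.sum_le_sum_of_subset (Finset.range_subset_range.mpr hm2))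
    simp [Finset.sum_range_succ, add_comm]
  rw [hk] at hodd h2
  rcases Nat.eq_zero_or_pos k with rfl | hk0
  · simp at h2; omega
  · exact (Nat.not_odd_iff_even.mpr (even_two.pow_of_ne_zero hk0.ne')) hodd

/-- Powers of two one below an odd prime power. -/
theorem two_pow_cases {q n s : ℕ} (hq : q.Prime) (hq2 : q ≠ 2) (hn : 2 ≤ n) (h : q ^ n - 1 = 2 ^ s) :
    q = 3 ∧ n = 2 := by
  have hq3 : 3 ≤ q := by have := hq.two_le; omega
  rcases Nat.even_or_odd n with ⟨m, rfl⟩ | ho
  · have hm : 1 ≤ m := by omega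
    have hb : 3 ≤ q ^ m := hq3.trans (Nat.le_self_pow (by omega) q)
    have hprod : (q ^ m + 1) * (q ^ m - 1) = 2 ^ s := by
      rw [← h, pow_add, ← pow_two]
      simpa using (Nat.sq_sub_sq (q ^ m) 1).symm
    obtain ⟨i, -, hi⟩ := (Nat.dvd_prime_pow Nat.prime_two).mp ⟨q ^ m - 1, hprod.symm⟩
    obtain ⟨j, -, hj⟩ := (Nat.dvd_prime_pow Nat.prime_two).mp ⟨q ^ m + 1, by rw [← hprod, mul_comm]⟩
    have hij : j < i := by
      by_contra hc
      have := Nat.pow_le_pow_right two_pos (not_lt.mp hc)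
      omega
    have h2 : 2 ^ j ∣ 2 := by
      have := Nat.dvd_sub (Nat.pow_dvd_pow 2 hij.le) (dvd_refl (2 ^ j))
      rwa [← hi, ← hj, show q ^ m + 1 - (q ^ m - 1) = 2 by omega, hj] at this
    have := Nat.le_of_dvd two_pos h2
    have hqm : q ^ m = 3 := by omega
    have hq' : q = 3 := by
      have := Nat.le_self_pow (show m ≠ 0 by omega) q; omega
    subst hq'
    have : m = 1 := by
      have h3 : (3 : ℕ) ^ m = 3 ^ 1 := by rw [hqm, pow_one]
      exact Nat.pow_right_injective (by norm_num) h3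
    omega
  · exact absurd h (not_two_pow_of_odd (hq.odd_of_ne_two hq2) hq3 ho hn)

/-- A prime power one below a power of two is a prime. -/
theorem mersenne_cases {p n s : ℕ} (hp : p.Prime) (h : 2 ^ n - 1 = p ^ s) (hn : 2 ≤ n) : s = 1 := by
  have h4 : 4 ∣ 2 ^ n := (Nat.pow_dvd_pow 2 hn : _)
  have hpos := Nat.two_pow_pos n
  have hsum : p ^ s + 1 = 2 ^ n := by omega
  have hge : 4 ≤ 2 ^ n := Nat.le_of_dvd hpos h4
  have hp2 : p ≠ 2 := by
    rintro rfl
    rcases Nat.eq_zero_or_pos s with rfl | hs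
    · simp at hsum; omega
    · have : 2 ∣ 2 ^ s := dvd_pow_self 2 hs.ne'
      omega
  have hodd := hp.odd_of_ne_two hp2
  rcases Nat.even_or_odd s with ⟨j, rfl⟩ | hs
  · exfalso
    rw [pow_add] at hsum
    obtain ⟨u, hu⟩ := hodd.pow (n := j)
    rw [hu] at hsum
    obtain ⟨c, hc⟩ := h4
    rw [hc] at hsum
    ring_nf at hsum
    omega
  · by_contra hs1
    have hs3 : 3 ≤ s := by obtain ⟨u, rfl⟩ := hs; omega
    have hd : p + 1 ∣ p ^ s + 1 := by simpa using Odd.nat_add_dvd_pow_add_pow p 1 hs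
    rw [hsum] at hd
    obtain ⟨k, hk, hk'⟩ := (Nat.dvd_prime_pow Nat.prime_two).mp hd
    have hlt : p + 1 < 2 ^ n := by
      rw [← hsum]
      have : p ^ 1 < p ^ s := Nat.pow_lt_pow_right hp.one_lt (by omega)
      simp at this; omega
    -- the cofactor is odd and divides a power of two
    obtain ⟨c, hc⟩ : p + 1 ∣ p ^ s + 1 := by simpa using Odd.nat_add_dvd_pow_add_pow p 1 hs
    have hcodd : Odd c := by
      have hz : ((c : ℕ) : ℤ) = ∑ i ∈ Finset.range s, (-(p : ℤ)) ^ i := by
        have h1 := geom_sum_mul (-(p : ℤ)) s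
        rw [hs.neg_pow] at h1
        have h2 : ((p : ℤ) ^ s + 1) = ((p : ℤ) + 1) * c := by exact_mod_cast hc
        have h3 : ((p : ℤ) + 1) ≠ 0 := by positivity
        apply mul_left_cancel₀ h3
        rw [← h2]; linear_combination h1
      have hpar : ∀ k : ℕ, (Odd (∑ i ∈ Finset.range k, (-(p : ℤ)) ^ i) ↔ Odd k) := by
        intro k
        induction k with
        | zero => simp
        | succ k ih =>
          have ho : Odd ((-(p : ℤ)) ^ k) := ((Int.odd_coe_nat p).mpr hodd |>.neg).pow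
          rw [Finset.sum_range_succ, Int.odd_add, ih, Nat.odd_add_one, ← Int.not_odd_iff_even]
          simp [ho]
      have : Odd ((c : ℤ)) := by rw [hz, hpar]; exact hs
      exact_mod_cast this
    rw [hsum] at hc
    obtain ⟨i, -, hi⟩ := (Nat.dvd_prime_pow Nat.prime_two).mp ⟨p + 1, by rw [hc, mul_comm]⟩
    rcases Nat.eq_zero_or_pos i with rfl | hi0
    · rw [hi] at hc; simp at hc; omega
    · rw [hi] at hcodd
      exact (Nat.not_odd_iff_even.mpr (even_two.pow_of_ne_zero hi0.ne')) hcodd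

/-- An element of order eight. -/
def xGL : GL (Fin 2) (ZMod 3) := ⟨!![1, 1; 1, 0], !![0, 1; 1, 2], by decide, by decide⟩

/-- An involution twisting `xGL`. -/
def yGL : GL (Fin 2) (ZMod 3) := ⟨!![1, 0; 2, 2], !![1, 0; 2, 2], by decide, by decide⟩

theorem orderOf_xGL : orderOf xGL = 8 := by
  have : Fact (Nat.Prime 2) := ⟨Nat.prime_two⟩
  exact orderOf_eq_prime_pow (p := 2) (n := 2) (by decide) (by decide)

theorem orderOf_yGL : orderOf yGL = 2 := orderOf_eq_prime (by decide) (by decide)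

theorem y_conj_x : yGL * xGL * yGL⁻¹ = xGL ^ 3 := by decide

theorem yGL_not_mem : yGL ∉ Subgroup.zpowers xGL := fun h => by
  have hc : yGL * xGL * yGL⁻¹ = xGL := by
    obtain ⟨k, hk⟩ := Subgroup.mem_zpowers_iff.mp h
    rw [← hk]; group
  rw [y_conj_x] at hc
  revert hc; decide

theorem main (q : ℕ) [Fact q.Prime] {V : Type*} [AddCommGroup V] [Module (ZMod q) V] [Finite V] [Nontrivial V]
    {G : Type*} [Group G] [Finite G] [Nontrivial G] (p : ℕ) [Fact p.Prime] (hG : IsPGroup p G)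
    (ρ : G →* (V ≃ₗ[ZMod q] V)) (hρ : Function.Injective ρ)
    (htrans : ∀ v w : V, v ≠ 0 → w ≠ 0 → ∃ g : G, ρ g v = w) :
    (q = 2 ∧ p = Nat.card V - 1 ∧ Nat.card G = p) ∨
    (p = 2 ∧ Nat.card V = q ∧ (∃ m : ℕ, q = 2 ^ m + 1 ∧ Nat.card G = 2 ^ m) ∧ IsCyclic G) ∨
    (p = 2 ∧ q = 3 ∧ Nat.card V = 9 ∧
      ((IsCyclic G ∧ Nat.card G = 8) ∨ Nonempty (G ≃* QuaternionGroup 2) ∨ (Cfsg.IsQuasiDihedral G ∧ Nat.card G = 16))) := by
  classical
  set n := Module.finrank (ZMod q) V
  have hV : Nat.card V = q ^ n := by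
    rw [Module.natCard_eq_pow_finrank (K := ZMod q), Nat.card_zmod]
  have hn : 0 < n := Module.finrank_pos
  have hq := (Fact.out : q.Prime)
  have hp := (Fact.out : p.Prime)
  let mact : MulAction G V :=
    { smul := fun g v => ρ g v
      one_smul := fun v => by show ρ 1 v = v; rw [map_one]; rfl
      mul_smul := fun g h v => by show ρ (g * h) v = ρ g (ρ h v); rw [map_mul]; rfl }
  obtain ⟨v₀, hv₀⟩ := exists_ne (0 : V)
  have horb : MulAction.orbit G v₀ = {v | v ≠ 0} := by
    ext w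
    constructor
    · rintro ⟨g, rfl⟩
      exact fun h => hv₀ ((ρ g).map_eq_zero_iff.mp h)
    · exact fun hw => htrans v₀ w hv₀ hw
  have : Fintype V := Fintype.ofFinite V
  have hN : Nat.card (MulAction.orbit G v₀) = q ^ n - 1 := by
    rw [horb, Set.coe_ofPred, Nat.card_eq_fintype_card, Fintype.card_subtype_compl, Fintype.card_subtype_eq,
      ← Nat.card_eq_fintype_card, hV]
  have hNdvd : q ^ n - 1 ∣ Nat.card G := by
    have := Nat.card_congr (MulAction.orbitEquivQuotientStabilizer G v₀)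
    rw [hN] at this
    rw [this]; exact Subgroup.card_quotient_dvd_card _
  obtain ⟨e, he⟩ := IsPGroup.iff_card.mp hG
  obtain ⟨s, -, hs⟩ := (Nat.dvd_prime_pow hp).mp (he ▸ hNdvd)
  have he0 : 0 < e := by
    rcases Nat.eq_zero_or_pos e with rfl | h
    · have := Finite.one_lt_card (α := G); rw [he, pow_zero] at this; omega
    · exact h
  let f : G →* GL (Fin n) (ZMod q) := (toGL (q := q) (V := V)).toMonoidHom.comp ρ
  have hf : Function.Injective f := (toGL (q := q) (V := V)).injective.comp hρ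
  have hGL : Nat.card G ∣ ∏ i : Fin n, (q ^ n - q ^ (i : ℕ)) := by
    have := Subgroup.card_dvd_of_injective f hf
    rwa [Matrix.card_GL_field, ZMod.card] at this
  by_cases hq2 : q = 2
  · subst hq2
    left
    have hn2 : 2 ≤ n := by
      by_contra hlt
      have h1 : n = 1 := by omega
      rw [h1] at hGL
      simp at hGL
      have := Finite.one_lt_card (α := G); omega
    have hs1 := mersenne_cases hp hs hn2
    rw [hs1, pow_one] at hs
    refine ⟨rfl, by rw [hV, hs], ?_⟩
    suffices e ≤ 1 by rw [he, show e = 1 by omega, pow_one]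
    by_contra hlt
    have h2 : p ^ 2 ∣ ∏ i : Fin n, (2 ^ n - 2 ^ (i : ℕ)) := (pow_dvd_pow p (by omega : 2 ≤ e)).trans (he ▸ hGL)
    rw [← Finset.mul_prod_erase _ _ (Finset.mem_univ (⟨0, hn⟩ : Fin n)), pow_two] at h2
    simp only [pow_zero, hs] at h2
    have h3 := Nat.dvd_of_mul_dvd_mul_left hp.pos h2
    obtain ⟨i, hi, hdi⟩ := (hp.prime.dvd_finsetProd_iff _).mp h3
    have hi0 : (i : ℕ) ≠ 0 := fun h => Finset.ne_of_mem_erase hi (Fin.ext h)
    have hin := i.2
    rw [show 2 ^ n - 2 ^ (i : ℕ) = 2 ^ (i : ℕ) * (2 ^ (n - i) - 1) by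
      rw [Nat.mul_sub_one, ← pow_add, show (i : ℕ) + (n - i) = n by omega]] at hdi
    rcases hp.dvd_mul.mp hdi with h | h
    · have := (Nat.prime_dvd_prime_iff_eq hp Nat.prime_two).mp (hp.dvd_of_dvd_pow h)
      rw [this] at hs
      have : 4 ∣ 2 ^ n := (Nat.pow_dvd_pow 2 hn2 : _)
      omega
    · have h4 : 2 ^ (n - i) < 2 ^ n := Nat.pow_lt_pow_right (by norm_num) (by omega)
      have h5 : 2 ≤ 2 ^ (n - i) := Nat.le_self_pow (by omega) 2
      have := Nat.le_of_dvd (by omega) h
      omega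
  right
  have hq3 : 3 ≤ q := by have := hq.two_le; omega
  have hp2 : p = 2 := by
    have h2 : 2 ∣ q ^ n - 1 := by
      obtain ⟨u, hu⟩ := (hq.odd_of_ne_two hq2).pow (n := n)
      omega
    exact ((Nat.prime_dvd_prime_iff_eq Nat.prime_two hp).mp (Nat.prime_two.dvd_of_dvd_pow (hs ▸ h2))).symm
  subst hp2
  rcases Nat.lt_or_ge n 2 with hn1 | hn2
  · left
    have h1 : n = 1 := by omega
    have hVq : Nat.card V = q := by rw [hV, h1, pow_one]
    have hle : q ^ n - 1 ≤ Nat.card G := Nat.le_of_dvd Nat.card_pos hNdvd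
    rw [h1, pow_one] at hle hs
    rw [h1] at hGL
    simp at hGL
    have hcard : Nat.card G = q - 1 := le_antisymm (Nat.le_of_dvd (by omega) hGL) hle
    refine ⟨rfl, hVq, ⟨s, by omega, by rw [hcard, hs]⟩, ?_⟩
    obtain ⟨b⟩ : Nonempty (Module.Basis (Fin 1) (ZMod q) V) := ⟨Module.finBasisOfFinrankEq (ZMod q) V h1⟩
    let g : G →* ZMod q := Matrix.detMonoidHom.comp ((LinearMap.toMatrixAlgEquiv b).toMulEquiv.toMonoidHom.comp
      ((LinearEquiv.automorphismGroup.toLinearMapMonoidHom (R := ZMod q) (M := V)).comp ρ))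
    refine isCyclic_of_subgroup_isDomain g fun a c hac => hρ (LinearEquiv.toLinearMap_injective ?_)
    apply (LinearMap.toMatrixAlgEquiv b).injective
    ext i j
    rw [Subsingleton.elim i 0, Subsingleton.elim j 0]
    have hac' : ((LinearMap.toMatrixAlgEquiv b) (ρ a : V →ₗ[ZMod q] V)).det =
        ((LinearMap.toMatrixAlgEquiv b) (ρ c : V →ₗ[ZMod q] V)).det := hac
    rwa [Matrix.det_fin_one, Matrix.det_fin_one] at hac'
  · right
    obtain ⟨hq', hn'⟩ := two_pow_cases hq hq2 hn2 hs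
    subst hq'
    have hV9 : Nat.card V = 9 := by rw [hV, hn']; norm_num
    refine ⟨rfl, rfl, hV9, ?_⟩
    rw [hn'] at hNdvd
    have h48 : Nat.card G ∣ 48 := by
      rw [hn'] at hGL; simpa [Fin.prod_univ_two] using hGL
    have hcases : Nat.card G = 8 ∨ Nat.card G = 16 := by
      rw [he] at h48 hNdvd ⊢
      have h8 : 3 ≤ e := (Nat.pow_dvd_pow_iff_le_right (x := 2) (by norm_num)).mp (by simpa using hNdvd)
      have h16 : e ≤ 4 := by
        by_contra hlt
        have := (pow_dvd_pow 2 (by omega : 5 ≤ e)).trans h48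
        norm_num at this
      interval_cases e <;> norm_num
    rcases hcases with h8 | h16
    · have hstab : MulAction.stabilizer G v₀ = ⊥ := by
        refine Subgroup.eq_bot_of_card_eq _ ?_
        have := Subgroup.card_mul_index (MulAction.stabilizer G v₀)
        rw [MulAction.index_stabilizer, ← Nat.card_coe_set_eq, hN, hn', h8, show (3 : ℕ) ^ 2 - 1 = 8 from rfl] at this
        exact Nat.eq_of_mul_eq_mul_right (by norm_num : 0 < 8) (this.trans (one_mul 8).symm)
      have hfree : ∀ (g : G) (v : V), v ≠ 0 → ρ g v = v → g = 1 := by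
        intro g v hv hgv
        obtain ⟨k, hk⟩ := htrans v₀ v hv₀ hv
        have : k⁻¹ * g * k ∈ MulAction.stabilizer G v₀ := by
          show ρ (k⁻¹ * g * k) v₀ = v₀
          rw [map_mul, map_mul]
          show ρ k⁻¹ (ρ g (ρ k v₀)) = v₀
          rw [hk, hgv, ← hk]
          show (ρ k⁻¹ * ρ k) v₀ = v₀
          rw [← map_mul, inv_mul_cancel, map_one]; rfl
        rw [hstab, Subgroup.mem_bot] at this
        calc g = k * (k⁻¹ * g * k) * k⁻¹ := by group
          _ = 1 := by rw [this]; group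
      have hneg : ∀ t : G, orderOf t = 2 → ∀ v, ρ t v = -v := by
        intro t ht v
        have ht1 : t ≠ 1 := fun h => by simp [h] at ht
        have htt : t * t = 1 := by rw [← pow_two, ← ht, pow_orderOf_eq_one]
        refine eq_neg_of_add_eq_zero_right (not_not.mp fun h0 => ht1 (hfree t _ h0 ?_))
        rw [map_add]
        show ρ t v + (ρ t * ρ t) v = v + ρ t v
        rw [← map_mul, htt, map_one, add_comm]; rfl
      rcases Cfsg.Lib.UniqueSub.isCyclic_or_quaternion hG (fun x y hx hy => by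
          have hxy : x = y := hρ (LinearEquiv.ext fun v => (hneg x hx v).trans (hneg y hy v).symm)
          rw [hxy]; exact Subgroup.mem_zpowers y) with hc | ⟨-, m, ⟨e'⟩⟩
      · exact Or.inl ⟨hc, h8⟩
      · refine Or.inr (Or.inl ?_)
        have : NeZero (2 ^ m) := ⟨by positivity⟩
        have hc := Nat.card_congr e'.toEquiv
        rw [h8, Nat.card_eq_fintype_card, QuaternionGroup.card] at hc
        have : 2 ^ m = 2 := by omega
        rw [this] at e'
        exact ⟨e'⟩
    · refine Or.inr (Or.inr ⟨?_, h16⟩)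
      -- a Sylow subgroup of GL(2,3) containing the model generators
      obtain ⟨b⟩ : Nonempty (Module.Basis (Fin 2) (ZMod 3) V) := ⟨Module.finBasisOfFinrankEq (ZMod 3) V hn'⟩
      let f2 : G →* GL (Fin 2) (ZMod 3) := ((LinearMap.GeneralLinearGroup.generalLinearEquiv (ZMod 3) V).symm.trans
        (Units.mapEquiv (LinearMap.toMatrixAlgEquiv b).toMulEquiv)).toMonoidHom.comp ρ
      have hf2 : Function.Injective f2 := ((LinearMap.GeneralLinearGroup.generalLinearEquiv (ZMod 3) V).symm.trans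
        (Units.mapEquiv (LinearMap.toMatrixAlgEquiv b).toMulEquiv)).injective.comp hρ
      have hGL48 : Nat.card (GL (Fin 2) (ZMod 3)) = 48 := by
        rw [Matrix.card_GL_field, ZMod.card]; rfl
      have hfac : (48 : ℕ).factorization 2 = 4 := by
        rw [show (48 : ℕ) = 2 ^ 4 * 3 from rfl, Nat.factorization_mul (by norm_num) (by norm_num),
          Nat.Prime.factorization_pow Nat.prime_two, Nat.Prime.factorization Nat.prime_three]
        simp
      have hyn : Subgroup.zpowers yGL ≤ Subgroup.normalizer (Subgroup.zpowers xGL : Set (GL (Fin 2) (ZMod 3))) := by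
        refine Subgroup.zpowers_le.mpr (Subgroup.mem_normalizer_fintype fun u hu => ?_)
        obtain ⟨k, rfl⟩ := Subgroup.mem_zpowers_iff.mp hu
        show yGL * xGL ^ k * yGL⁻¹ ∈ Subgroup.zpowers xGL
        rw [← conj_zpow, y_conj_x, ← zpow_natCast, ← _root_.zpow_mul]
        exact Subgroup.zpow_mem_zpowers _ _
      set P0 : Subgroup (GL (Fin 2) (ZMod 3)) := Subgroup.zpowers yGL ⊔ Subgroup.zpowers xGL
      have hP0 : IsPGroup 2 P0 := by
        have : IsPGroup 2 (Subgroup.zpowers xGL) := IsPGroup.of_card (n := 3) (by rw [Nat.card_zpowers, orderOf_xGL]; rfl)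
        have h2 : IsPGroup 2 (Subgroup.zpowers yGL) := IsPGroup.of_card (n := 1) (by rw [Nat.card_zpowers, orderOf_yGL]; rfl)
        exact h2.to_sup_of_normal_right' this hyn
      obtain ⟨P, hP⟩ := hP0.exists_le_sylow
      have hr : IsPGroup 2 f2.range := hG.of_equiv (MonoidHom.ofInjective hf2)
      obtain ⟨Q, hQ⟩ := hr.exists_le_sylow
      have hQc : Nat.card (Q : Subgroup (GL (Fin 2) (ZMod 3))) = 16 := by rw [Sylow.card_eq_multiplicity, hGL48, hfac]; rfl
      have hQe : f2.range = (Q : Subgroup (GL (Fin 2) (ZMod 3))) := Subgroup.eq_of_le_of_card_ge hQ (by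
        rw [hQc, ← Nat.card_congr (MonoidHom.ofInjective hf2).toEquiv, h16])
      let iso : G ≃* (P : Subgroup (GL (Fin 2) (ZMod 3))) :=
        ((MonoidHom.ofInjective hf2).trans (MulEquiv.subgroupCongr hQe)).trans (Sylow.equiv Q P)
      refine ⟨3, le_rfl, h16, iso.symm ⟨xGL, hP (Subgroup.mem_sup_right (Subgroup.mem_zpowers _))⟩,
        iso.symm ⟨yGL, hP (Subgroup.mem_sup_left (Subgroup.mem_zpowers _))⟩, ?_, ?_, ?_⟩
      · rw [MulEquiv.orderOf_eq, Subgroup.orderOf_mk, orderOf_xGL]; rfl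
      · rw [MulEquiv.orderOf_eq, Subgroup.orderOf_mk, orderOf_yGL]
      · rw [← map_inv, ← map_mul, ← map_mul, ← map_pow]
        exact congrArg iso.symm (Subtype.ext y_conj_x)

end Cfsg.Lib.TransPGroup
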