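import Cfsg.Agent.InvolCalc.Dihedral

/-!
An element fixing exactly one coset: fusion control and the odd-index consequence.
-/

namespace Cfsg.Lib.UniqueFixedCoset

variable {G : Type*} [Group G]

theorem fixed_iff {H : Subgroup G} {x g : G} :
    x • (QuotientGroup.mk g : G ⧸ H) = QuotientGroup.mk g ↔ g⁻¹ * x * g ∈ H := by
  rw [MulAction.Quotient.smul_mk, QuotientGroup.eq, smul_eq_mul, ← inv_mem_iff]
  simp [mul_assoc]

theorem centralizer_le {H : Subgroup G} {x : G} (hxH : x ∈ H) (hx : ∃! c : G ⧸ H, x • c = c) :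
    Subgroup.centralizer ({x} : Set G) ≤ H := by
  intro g hg
  rw [Subgroup.mem_centralizer_singleton_iff] at hg
  have h1 : x • (QuotientGroup.mk g : G ⧸ H) = QuotientGroup.mk g := fixed_iff.mpr (by
    rw [mul_assoc, ← hg, inv_mul_cancel_left]; exact hxH)
  have h2 : x • (QuotientGroup.mk 1 : G ⧸ H) = QuotientGroup.mk 1 := fixed_iff.mpr (by simpa using hxH)
  have := hx.unique h1 h2
  rw [QuotientGroup.eq, mul_one] at this
  exact inv_mem_iff.mp this

/-- An involution fixing exactly one coset of a subgroup forces odd index. -/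
theorem odd_index [Finite G] {H : Subgroup G} {z : G} (hz : orderOf z = 2) (hu : ∃! c : G ⧸ H, z • c = c) :
    Odd H.index := by
  haveI : Fact (Nat.Prime 2) := ⟨Nat.prime_two⟩
  haveI : Fintype (G ⧸ H) := Fintype.ofFinite _
  have hP : IsPGroup 2 (Subgroup.zpowers z) := IsPGroup.of_card (n := 1) (by rw [Nat.card_zpowers, hz, pow_one])
  have h := hP.card_modEq_card_fixedPoints (G ⧸ H)
  obtain ⟨c, hc, huniq⟩ := hu
  haveI : Unique (MulAction.fixedPoints (Subgroup.zpowers z) (G ⧸ H)) :=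
    { default := ⟨c, by
        rintro ⟨g, n, rfl⟩
        exact MulAction.mem_fixedBy.mp (MulAction.fixedBy_subset_fixedBy_zpow _ z n hc)⟩
      uniq := fun ⟨d, hd⟩ => Subtype.ext (huniq d (hd ⟨z, Subgroup.mem_zpowers z⟩)) }
  rw [Nat.card_unique (α := MulAction.fixedPoints (Subgroup.zpowers z) (G ⧸ H))] at h
  show Odd (Nat.card (G ⧸ H))
  exact Nat.odd_iff.mpr h

open Cfsg.Lib.InvolCalc in
/-- Two non-conjugate involutions commute with a third involution, and multiplying it to either one stays in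
one of the two classes. -/
theorem exists_dihedral_centre [Finite G] {a b : G} (ha : orderOf a = 2) (hb : orderOf b = 2) (hab : ¬ IsConj a b) :
    ∃ c, orderOf c = 2 ∧ Commute a c ∧ Commute c b ∧ Commute c a ∧ (c ≠ a → c ≠ b → IsConj a (a * c) ∨ IsConj b (a * c)) := by
  have heven : Even (orderOf (a * b)) := by
    by_contra he
    obtain ⟨d, -, hd⟩ := conj_of_odd ha hb (Nat.not_even_iff_odd.mp he)
    exact hab (isConj_iff.mpr ⟨d, hd⟩)
  obtain ⟨hc, hca, hcb⟩ := central_spec ha hb heven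
  refine ⟨_, hc, hca.symm, hcb, hca, fun hne _ => ?_⟩
  by_cases h4 : 4 ∣ orderOf (a * b)
  · obtain ⟨d, -, hd⟩ := (conj_mul_central_iff ha hb heven).mpr h4
    exact Or.inl (isConj_iff.mpr ⟨d, hd⟩)
  right
  obtain ⟨h, hh⟩ := heven
  set R := a * b with hR
  have hh2 : orderOf R / 2 = h := by omega
  rw [hh2] at hc hca hcb hne ⊢
  have hoddh : h % 2 = 1 := by omega
  have hac : orderOf (a * R ^ h) = 2 := orderOf_eq_prime (by
      rw [hca.symm.mul_pow, ← ha, pow_orderOf_eq_one, ha, ← hc, pow_orderOf_eq_one, one_mul])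
    (fun e => hne (by rw [eq_inv_of_mul_eq_one_right e, inv_eq_of_mul_eq_one_right (by
      rw [← sq, ← ha, pow_orderOf_eq_one] : a * a = 1)]))
  have hprod : a * R ^ h * b = R ^ (h + 1) := by
    rw [← hca.eq, mul_assoc, ← hR, pow_succ]
  have hodd : Odd (orderOf (a * R ^ h * b)) := by
    refine Odd.of_dvd_nat (Nat.odd_iff.mpr hoddh) (orderOf_dvd_of_pow_eq_one ?_)
    rw [hprod, ← pow_mul, show (h + 1) * h = (h + h) * ((h + 1) / 2) by
      have : h + 1 = 2 * ((h + 1) / 2) := by omega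
      conv_lhs => rw [this]
      ring, ← hh, pow_mul, pow_orderOf_eq_one, one_pow]
  obtain ⟨d, -, hd⟩ := conj_of_odd hac hb hodd
  exact (isConj_iff.mpr ⟨d, hd⟩).symm

end Cfsg.Lib.UniqueFixedCoset
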